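import Cfsg.Agent.RuModel.Tree

/-!
Orders of groups of permutations of numbered vectors, from transversals given by matrices.
-/

set_option autoImplicit false

namespace Cfsg.Lib.RuModel

/-- One level: generator matrices, transversal matrices, orbit, parents, positions and edges. -/
structure Lv where
  mats : List ℕ
  n : ℕ
  d : ℕ
  de : ℕ
  trans : RT
  pts : RT
  par : RT
  pos : RT
  edge : RT

/-- A generator matrix. -/
def Lv.mat (L : Lv) (g : ℕ) : ℕ := L.mats.getD g 0
/-- A transversal matrix. -/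
def Lv.tr (L : Lv) (i : ℕ) : ℕ := L.trans.get L.d i
/-- An orbit point. -/
def Lv.pt (L : Lv) (i : ℕ) : ℕ := L.pts.get L.d i

/-- The identity matrix. -/
def idMat : ℕ := ((List.range 28).map fun i => 2 ^ (29 * i)).sum

/-- The matrix of a word. -/
def wmat (Ms : List ℕ) (w : List ℕ) : ℕ := w.foldl (fun a i => mmul a (Ms.getD i 0)) idMat

/-- The product of deeper transversal matrices named by a code. -/
def deepMul : List Lv → ℕ → ℕ
  | [], _ => idMat
  | [L], c => L.tr (c % 4096)
  | L :: L' :: r, c => mmul (deepMul (L' :: r) (c / 4096)) (L.tr (c % 4096))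

/-- The code names deeper transversals. -/
def deepBound : List Lv → ℕ → Bool
  | [], _ => true
  | L :: r, c => decide (c % 4096 < L.n) && deepBound r (c / 4096)

/-- The base image test for one orbit point. -/
def Lv.ptOK (L : Lv) (V : ℕ → ℕ) (n : ℕ) (i : ℕ) : Bool :=
  decide (L.pt i < n) && ((L.pos.get 12 (L.pt i)) == i) && (vap (V (L.pt 0)) (L.tr i) == V (L.pt i))

/-- The tree test for one transversal. -/
def Lv.treeOK (L : Lv) (i : ℕ) : Bool :=
  if i = 0 then L.tr 0 == idMat else
    decide (L.par.get L.d i / 8 < i) && decide (L.par.get L.d i % 8 < L.mats.length) &&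
      (mmul (L.tr (L.par.get L.d i / 8)) (L.mat (L.par.get L.d i % 8)) == L.tr i)

/-- The closure test for one edge. -/
def Lv.edgeOK (L : Lv) (deep : List Lv) (e : ℕ) : Bool :=
  decide (L.edge.get L.de e % 4096 < L.n) && deepBound deep (L.edge.get L.de e / 4096) &&
    (mmul (L.tr (e / L.mats.length)) (L.mat (e % L.mats.length)) ==
      mmul (deepMul deep (L.edge.get L.de e / 4096)) (L.tr (L.edge.get L.de e % 4096)))

/-- A test on an interval. -/
def chk (f : ℕ → Bool) (a len : ℕ) : Bool := (List.range len).all fun i => f (a + i)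

theorem chk_add {f : ℕ → Bool} {a l m : ℕ} (h1 : chk f a l = true) (h2 : chk f (a + l) m = true) :
    chk f a (l + m) = true := by
  simp only [chk, List.all_eq_true, List.mem_range] at *
  intro i hi
  by_cases h : i < l
  · exact h1 i h
  · have := h2 (i - l) (by omega)
    rwa [show a + l + (i - l) = a + i by omega] at this

theorem chk_join {f : ℕ → Bool} {a l m k t : ℕ} (h1 : chk f a l = true) (h2 : chk f k m = true)
    (hk : a + l = k) (ht : l + m = t) : chk f a t = true := by
  subst hk ht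
  exact chk_add h1 h2

theorem chk_apply {f : ℕ → Bool} {len i : ℕ} (h : chk f 0 len = true) (hi : i < len) : f i = true := by
  simp only [chk, List.all_eq_true, List.mem_range] at h
  simpa using h i hi

variable {n : ℕ}

/-- A permutation is given on the vectors by a matrix. -/
def Rep (V : ℕ → ℕ) (h : Equiv.Perm (Fin n)) (M : ℕ) : Prop :=
  ∀ x : Fin n, V (h x).val = vap (V x.val) M

/-- The vectors are distinct and fixed by the identity matrix. -/
structure Vecs (n : ℕ) (V : ℕ → ℕ) : Prop where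
  inj : ∀ x y : Fin n, V x.val = V y.val → x = y
  one : ∀ x : Fin n, vap (V x.val) idMat = V x.val

variable {V : ℕ → ℕ}

theorem Rep.one (hV : Vecs n V) : Rep V (1 : Equiv.Perm (Fin n)) idMat := fun x => (hV.one x).symm

theorem Rep.mul {a b : Equiv.Perm (Fin n)} {A B : ℕ} (ha : Rep V a A) (hb : Rep V b B) :
    Rep V (b * a) (mmul A B) := fun x => by
  rw [Equiv.Perm.mul_apply, hb, ha, vap_mmul]

theorem Rep.eq (hV : Vecs n V) {a b : Equiv.Perm (Fin n)} {A : ℕ} (ha : Rep V a A) (hb : Rep V b A) :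
    a = b := Equiv.ext fun x => hV.inj _ _ (by rw [ha, hb])

/-- The product along a word, first letter acting first. -/
def wperm (gs : List (Equiv.Perm (Fin n))) (w : List ℕ) : Equiv.Perm (Fin n) :=
  w.foldl (fun a i => gs.getD i 1 * a) 1

/-- The group generated by a list. -/
def gen (gs : List (Equiv.Perm (Fin n))) : Subgroup (Equiv.Perm (Fin n)) := Subgroup.closure {g | g ∈ gs}

/-- The permutations match the generator matrices of a level. -/
structure Good (V : ℕ → ℕ) (L : Lv) (gs : List (Equiv.Perm (Fin n))) : Prop where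
  len : gs.length = L.mats.length
  rep : ∀ i < gs.length, Rep V (gs.getD i 1) (L.mat i)

theorem getD_mem_gen (gs : List (Equiv.Perm (Fin n))) (i : ℕ) : gs.getD i 1 ∈ gen gs := by
  by_cases h : i < gs.length
  · rw [List.getD_eq_getElem _ _ h]
    exact Subgroup.subset_closure (List.getElem_mem h)
  · rw [List.getD_eq_default _ _ (not_lt.1 h)]
    exact one_mem _

theorem wperm_spec (hV : Vecs n V) {L : Lv} {gs : List (Equiv.Perm (Fin n))} (hG : Good V L gs)
    {w : List ℕ} (hw : ∀ i ∈ w, i < gs.length) :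
    wperm gs w ∈ gen gs ∧ Rep V (wperm gs w) (wmat L.mats w) := by
  induction w using List.reverseRecOn with
  | nil => exact ⟨one_mem _, Rep.one hV⟩
  | append_singleton w i ih =>
    obtain ⟨h1, h2⟩ := ih fun j hj => hw j (List.mem_append_left _ hj)
    have hi := hw i (by simp)
    simp only [wperm, wmat, List.foldl_append, List.foldl_cons, List.foldl_nil]
    exact ⟨mul_mem (getD_mem_gen gs i) h1, h2.mul (hG.rep i hi)⟩

/-- The generators of the next level are words in those of this one, and fix the base point. -/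
def nextOK (V : ℕ → ℕ) (L M : Lv) (ws : List (List ℕ)) (b : ℕ) : Bool :=
  (ws.length == M.mats.length) && ws.all (fun w => w.all fun i => decide (i < L.mats.length)) &&
    (List.range ws.length).all fun i =>
      (wmat L.mats (ws.getD i []) == M.mat i) && (vap (V b) (M.mat i) == V b)

/-- The generators of the next level. -/
def nextGens (gs : List (Equiv.Perm (Fin n))) (ws : List (List ℕ)) : List (Equiv.Perm (Fin n)) :=
  ws.map (wperm gs)

theorem next_spec (hV : Vecs n V) {L M : Lv} {gs : List (Equiv.Perm (Fin n))} (hG : Good V L gs)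
    {ws : List (List ℕ)} {b : Fin n} (h : nextOK V L M ws b.val = true) :
    Good V M (nextGens gs ws) ∧ gen (nextGens gs ws) ≤ gen gs ∧ ∀ u ∈ gen (nextGens gs ws), u b = b := by
  simp only [nextOK, Bool.and_eq_true, List.all_eq_true, List.mem_range, beq_iff_eq, decide_eq_true_eq] at h
  obtain ⟨⟨hlen, hlt⟩, hm⟩ := h
  have hw : ∀ w ∈ ws, ∀ i ∈ w, i < gs.length := fun w hw i hi => by rw [hG.len]; exact hlt w hw i hi
  have good : Good V M (nextGens gs ws) := by
    refine ⟨by simp [nextGens, hlen], fun i hi => ?_⟩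
    rw [nextGens, List.length_map] at hi
    rw [List.getD_eq_getElem _ _ (by simpa [nextGens] using hi)]
    simp only [nextGens, List.getElem_map]
    have h1 := (wperm_spec hV hG (hw _ (List.getElem_mem hi))).2
    have h2 := (hm i hi).1
    rw [List.getD_eq_getElem ws [] hi] at h2
    exact h2 ▸ h1
  refine ⟨good, ?_, ?_⟩
  · rw [gen, Subgroup.closure_le]
    rintro g hg
    simp only [Set.mem_ofPred_eq, nextGens, List.mem_map] at hg
    obtain ⟨w, hwm, rfl⟩ := hg
    exact (wperm_spec hV hG (hw w hwm)).1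
  · intro u hu
    suffices gen (nextGens gs ws) ≤ MulAction.stabilizer (Equiv.Perm (Fin n)) b from MulAction.mem_stabilizer_iff.1 (this hu)
    rw [gen, Subgroup.closure_le]
    intro g hg
    obtain ⟨i, hi, rfl⟩ := List.getElem_of_mem (show g ∈ nextGens gs ws from hg)
    refine MulAction.mem_stabilizer_iff.2 (hV.inj _ _ ?_)
    have := good.rep i hi b
    rw [List.getD_eq_getElem _ _ hi] at this
    rw [Equiv.Perm.smul_def, this]
    exact (hm i (by simpa [nextGens] using hi)).2

/-- Codes name elements of a subgroup. -/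
def DeepElems (V : ℕ → ℕ) (deep : List Lv) (K : Subgroup (Equiv.Perm (Fin n))) : Prop :=
  ∀ c, deepBound deep c = true → ∃ u ∈ K, Rep V u (deepMul deep c)

theorem deepElems_nil (hV : Vecs n V) : DeepElems V [] (⊥ : Subgroup (Equiv.Perm (Fin n))) :=
  fun _ _ => ⟨1, one_mem _, Rep.one hV⟩

/-- What a verified level gives. -/
structure Level (V : ℕ → ℕ) (L : Lv) (b : Fin n) (H K : Subgroup (Equiv.Perm (Fin n))) : Prop where
  le : K ≤ H
  base : L.pt 0 = b.val
  card : Nat.card H = L.n * Nat.card K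
  stab : ∀ h ∈ H, h b = b → h ∈ K
  fixed : ∀ u ∈ K, u b = b
  elems : ∀ i < L.n, ∃ h ∈ H, Rep V h (L.tr i) ∧ (h b).val = L.pt i
  orbit : ∀ h ∈ H, ∃ i < L.n, (h b).val = L.pt i
  ptsLt : ∀ i < L.n, L.pt i < n ∧ L.pos.get 12 (L.pt i) = i

theorem DeepElems.cons {L : Lv} {r : List Lv} {b : Fin n} {H K : Subgroup (Equiv.Perm (Fin n))}
    (hL : Level V L b H K) (hr : DeepElems V r K) : DeepElems V (L :: r) H := by
  intro c hc
  simp only [deepBound, Bool.and_eq_true, decide_eq_true_eq] at hc
  obtain ⟨t, ht, htR, -⟩ := hL.elems _ hc.1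
  cases r with
  | nil => exact ⟨t, ht, htR⟩
  | cons L' r' =>
    obtain ⟨u, hu, huR⟩ := hr _ hc.2
    exact ⟨t * u, mul_mem ht (hL.le hu), huR.mul htR⟩

theorem level_of (hV : Vecs n V) {L : Lv} {deep : List Lv} {gs : List (Equiv.Perm (Fin n))}
    (hG : Good V L gs) {K : Subgroup (Equiv.Perm (Fin n))} (hD : DeepElems V deep K) {b : Fin n}
    (hb : L.pt 0 = b.val) (hn : 0 < L.n) (hK : K ≤ gen gs) (hfix : ∀ u ∈ K, u b = b)
    (hpt : chk (L.ptOK V n) 0 L.n = true) (htree : chk L.treeOK 0 L.n = true)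
    (hedge : chk (L.edgeOK deep) 0 (L.n * L.mats.length) = true) : Level V L b (gen gs) K := by
  have hp : ∀ i < L.n, L.pt i < n ∧ L.pos.get 12 (L.pt i) = i ∧ vap (V b.val) (L.tr i) = V (L.pt i) := by
    intro i hi
    have := chk_apply hpt hi
    simp only [Lv.ptOK, Bool.and_eq_true, decide_eq_true_eq, beq_iff_eq, hb] at this
    exact ⟨this.1.1, this.1.2, this.2⟩
  have hel : ∀ i < L.n, ∃ h ∈ gen gs, Rep V h (L.tr i) := by
    intro i
    induction i using Nat.strong_induction_on with
    | _ i ih =>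
      intro hi
      have := chk_apply htree hi
      by_cases h0 : i = 0
      · subst h0
        simp only [Lv.treeOK, if_true, beq_iff_eq] at this
        exact ⟨1, one_mem _, this ▸ Rep.one hV⟩
      · simp only [Lv.treeOK, if_neg h0, Bool.and_eq_true, decide_eq_true_eq, beq_iff_eq] at this
        obtain ⟨t, ht, htR⟩ := ih _ this.1.1 (lt_trans this.1.1 hi)
        exact ⟨_, mul_mem (getD_mem_gen gs _) ht, this.2 ▸ htR.mul (hG.rep _ (hG.len ▸ this.1.2))⟩
  choose t htm htR using hel
  have htb : ∀ i (hi : i < L.n), (t i hi b).val = L.pt i := by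
    intro i hi
    have h := htR i hi b
    rw [(hp i hi).2.2] at h
    exact congrArg Fin.val (hV.inj (t i hi b) ⟨L.pt i, (hp i hi).1⟩ h)
  have hinj : ∀ i j, i < L.n → j < L.n → L.pt i = L.pt j → i = j := fun i j hi hj h => by
    rw [← (hp i hi).2.1, ← (hp j hj).2.1, h]
  let S : Set (Equiv.Perm (Fin n)) := {h | ∃ i, ∃ hi : i < L.n, ∃ u ∈ K, h = t i hi * u}
  have h1 : (1 : Equiv.Perm (Fin n)) ∈ S := by
    have h0 : L.tr 0 = idMat := by simpa [Lv.treeOK] using chk_apply htree hn
    refine ⟨0, hn, 1, one_mem _, ?_⟩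
    rw [mul_one]
    exact Rep.eq hV (Rep.one hV) (h0 ▸ htR 0 hn)
  have hleft : ∀ g ∈ gs, ∀ x ∈ S, g * x ∈ S := by
    rintro g hg x ⟨i, hi, u, hu, rfl⟩
    obtain ⟨k, hk, rfl⟩ := List.getElem_of_mem hg
    have hk' : k < L.mats.length := hG.len ▸ hk
    have he : i * L.mats.length + k < L.n * L.mats.length :=
      lt_of_lt_of_le (by omega) ((Nat.succ_mul i L.mats.length).symm ▸ Nat.mul_le_mul_right _ hi : i * L.mats.length + L.mats.length ≤ _)
    have h := chk_apply hedge he
    have e1 : (i * L.mats.length + k) / L.mats.length = i := by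
      rw [Nat.mul_comm, Nat.mul_add_div (by omega), Nat.div_eq_of_lt hk', Nat.add_zero]
    have e2 : (i * L.mats.length + k) % L.mats.length = k := by
      rw [Nat.mul_comm, Nat.mul_add_mod, Nat.mod_eq_of_lt hk']
    simp only [Lv.edgeOK, Bool.and_eq_true, decide_eq_true_eq, beq_iff_eq, e1, e2] at h
    obtain ⟨⟨hq, hc⟩, hmat⟩ := h
    obtain ⟨v, hv, hvR⟩ := hD _ hc
    have hk2 := hG.rep k hk
    rw [List.getD_eq_getElem _ _ hk] at hk2
    have e : gs[k] * t i hi = t _ hq * v :=
      Rep.eq hV (hmat ▸ (htR i hi).mul hk2) (hvR.mul (htR _ hq))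
    exact ⟨_, hq, v * u, mul_mem hv hu, by rw [← mul_assoc, e, mul_assoc]⟩
  have hinv : ∀ g ∈ gs, ∀ x ∈ S, g⁻¹ * x ∈ S := by
    intro g hg x hx
    have him : (fun y => g * y) '' S = S := by
      refine Set.eq_of_subset_of_ncard_le ?_ ?_ S.toFinite
      · rintro _ ⟨y, hy, rfl⟩
        exact hleft g hg y hy
      · rw [Set.ncard_image_of_injective _ (mul_right_injective g)]
    rw [← him] at hx
    obtain ⟨y, hy, rfl⟩ := hx
    simpa using hy
  have hall : ∀ h ∈ gen gs, h ∈ S := by
    intro h hh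
    refine Subgroup.closure_induction_left (p := fun x _ => x ∈ S) h1 ?_ ?_ hh
    · exact fun g hg y _ hy => hleft g hg y hy
    · exact fun g hg y _ hy => hinv g hg y hy
  refine ⟨hK, hb, ?_, ?_, hfix, fun i hi => ⟨_, htm i hi, htR i hi, htb i hi⟩, ?_, fun i hi => ⟨(hp i hi).1, (hp i hi).2.1⟩⟩
  · let f : Fin L.n × K → gen gs := fun a =>
      ⟨t a.1.val a.1.isLt * a.2.val, mul_mem (htm _ _) (hK a.2.2)⟩
    have hf : Function.Bijective f := by
      constructor
      · rintro ⟨i, u⟩ ⟨j, v⟩ h
        have h' : t i.val i.isLt * u.val = t j.val j.isLt * v.val := congrArg Subtype.val h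
        have hb' : (t i.val i.isLt b).val = (t j.val j.isLt b).val := by
          have := congrArg (fun z : Equiv.Perm (Fin n) => (z b).val) h'
          simpa [Equiv.Perm.mul_apply, hfix _ u.2, hfix _ v.2] using this
        rw [htb, htb] at hb'
        obtain rfl : i = j := Fin.ext (hinj _ _ i.isLt j.isLt hb')
        exact Prod.ext rfl (Subtype.ext (mul_left_cancel h'))
      · rintro ⟨h, hh⟩
        obtain ⟨i, hi, u, hu, e⟩ := hall h hh
        exact ⟨(⟨i, hi⟩, ⟨u, hu⟩), Subtype.ext e.symm⟩
    rw [← Nat.card_congr (Equiv.ofBijective f hf), Nat.card_prod, Nat.card_fin]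
  · intro h hh hfx
    obtain ⟨i, hi, u, hu, rfl⟩ := hall h hh
    rw [Equiv.Perm.mul_apply, hfix u hu] at hfx
    have : L.pt i = L.pt 0 := by rw [← htb i hi, hfx, hb]
    obtain rfl := hinj i 0 hi hn this
    have h0 : L.tr 0 = idMat := by simpa [Lv.treeOK] using chk_apply htree hn
    have : t 0 hi = 1 := Rep.eq hV (h0 ▸ htR 0 hi) (Rep.one hV)
    rwa [this, one_mul]
  · intro h hh
    obtain ⟨i, hi, u, hu, rfl⟩ := hall h hh
    exact ⟨i, hi, by rw [Equiv.Perm.mul_apply, hfix u hu, htb i hi]⟩

end Cfsg.Lib.RuModel
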