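import Cfsg.Agent.RuModel.Levels

/-!
Checks of the deeper levels, the vectors, the generators and the suborbits.
-/

set_option autoImplicit false

namespace Cfsg.Lib.RuModel

theorem ru0_pt_0 : chk (ru0.ptOK vv 4060) 0 2000 = true := by
  decide +kernel

theorem ru0_pt_2000 : chk (ru0.ptOK vv 4060) 2000 2000 = true := by
  decide +kernel

theorem ru0_pt_4000 : chk (ru0.ptOK vv 4060) 4000 60 = true := by
  decide +kernel

theorem ru0_pt : chk (ru0.ptOK vv 4060) 0 4060 = true :=
  (chk_join (t := 4060) (chk_join (t := 4000) ru0_pt_0 ru0_pt_2000 (by norm_num) (by norm_num)) ru0_pt_4000 (by norm_num) (by norm_num))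

theorem ru0_tree_0 : chk (ru0.treeOK) 0 1000 = true := by
  decide +kernel

theorem ru0_tree_1000 : chk (ru0.treeOK) 1000 1000 = true := by
  decide +kernel

theorem ru0_tree_2000 : chk (ru0.treeOK) 2000 1000 = true := by
  decide +kernel

theorem ru0_tree_3000 : chk (ru0.treeOK) 3000 1000 = true := by
  decide +kernel

theorem ru0_tree_4000 : chk (ru0.treeOK) 4000 60 = true := by
  decide +kernel

theorem ru0_tree : chk (ru0.treeOK) 0 4060 = true :=
  (chk_join (t := 4060) (chk_join (t := 4000) (chk_join (t := 3000) (chk_join (t := 2000) ru0_tree_0 ru0_tree_1000 (by norm_num) (by norm_num)) ru0_tree_2000 (by norm_num) (by norm_num)) ru0_tree_3000 (by norm_num) (by norm_num)) ru0_tree_4000 (by norm_num) (by norm_num))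

theorem ru0_mats : ru0.mats.length = 2 := by
  decide +kernel

theorem ru1_pt_0 : chk (ru1.ptOK vv 4060) 0 1755 = true := by
  decide +kernel

theorem ru1_pt : chk (ru1.ptOK vv 4060) 0 1755 = true :=
  ru1_pt_0

theorem ru1_tree_0 : chk (ru1.treeOK) 0 1000 = true := by
  decide +kernel

theorem ru1_tree_1000 : chk (ru1.treeOK) 1000 755 = true := by
  decide +kernel

theorem ru1_tree : chk (ru1.treeOK) 0 1755 = true :=
  (chk_join (t := 1755) ru1_tree_0 ru1_tree_1000 (by norm_num) (by norm_num))

theorem ru1_edge_0 : chk (ru1.edgeOK [ru2, ru3]) 0 1000 = true := by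
  decide +kernel

theorem ru1_edge_1000 : chk (ru1.edgeOK [ru2, ru3]) 1000 1000 = true := by
  decide +kernel

theorem ru1_edge_2000 : chk (ru1.edgeOK [ru2, ru3]) 2000 1000 = true := by
  decide +kernel

theorem ru1_edge_3000 : chk (ru1.edgeOK [ru2, ru3]) 3000 510 = true := by
  decide +kernel

theorem ru1_edge : chk (ru1.edgeOK [ru2, ru3]) 0 3510 = true :=
  (chk_join (t := 3510) (chk_join (t := 3000) (chk_join (t := 2000) ru1_edge_0 ru1_edge_1000 (by norm_num) (by norm_num)) ru1_edge_2000 (by norm_num) (by norm_num)) ru1_edge_3000 (by norm_num) (by norm_num))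

theorem ru1_mats : ru1.mats.length = 2 := by
  decide +kernel

theorem ru2_pt_0 : chk (ru2.ptOK vv 4060) 0 1280 = true := by
  decide +kernel

theorem ru2_pt : chk (ru2.ptOK vv 4060) 0 1280 = true :=
  ru2_pt_0

theorem ru2_tree_0 : chk (ru2.treeOK) 0 1000 = true := by
  decide +kernel

theorem ru2_tree_1000 : chk (ru2.treeOK) 1000 280 = true := by
  decide +kernel

theorem ru2_tree : chk (ru2.treeOK) 0 1280 = true :=
  (chk_join (t := 1280) ru2_tree_0 ru2_tree_1000 (by norm_num) (by norm_num))

theorem ru2_edge_0 : chk (ru2.edgeOK [ru3]) 0 1000 = true := by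
  decide +kernel

theorem ru2_edge_1000 : chk (ru2.edgeOK [ru3]) 1000 1000 = true := by
  decide +kernel

theorem ru2_edge_2000 : chk (ru2.edgeOK [ru3]) 2000 560 = true := by
  decide +kernel

theorem ru2_edge : chk (ru2.edgeOK [ru3]) 0 2560 = true :=
  (chk_join (t := 2560) (chk_join (t := 2000) ru2_edge_0 ru2_edge_1000 (by norm_num) (by norm_num)) ru2_edge_2000 (by norm_num) (by norm_num))

theorem ru2_mats : ru2.mats.length = 2 := by
  decide +kernel

theorem ru3_pt_0 : chk (ru3.ptOK vv 4060) 0 16 = true := by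
  decide +kernel

theorem ru3_pt : chk (ru3.ptOK vv 4060) 0 16 = true :=
  ru3_pt_0

theorem ru3_tree_0 : chk (ru3.treeOK) 0 16 = true := by
  decide +kernel

theorem ru3_tree : chk (ru3.treeOK) 0 16 = true :=
  ru3_tree_0

theorem ru3_edge_0 : chk (ru3.edgeOK []) 0 32 = true := by
  decide +kernel

theorem ru3_edge : chk (ru3.edgeOK []) 0 32 = true :=
  ru3_edge_0

theorem ru3_mats : ru3.mats.length = 2 := by
  decide +kernel

theorem ru1_next : nextOK vv ru0 ru1 ru0Words (ru0.pt 0) = true := by
  decide +kernel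

theorem ru2_next : nextOK vv ru1 ru2 ru1Words (ru1.pt 0) = true := by
  decide +kernel

theorem ru3_next : nextOK vv ru2 ru3 ru2Words (ru2.pt 0) = true := by
  decide +kernel

theorem ru0_order : ((List.range 2).all fun g => wmat ru0.mats (List.replicate 29 g) == idMat) = true := by
  decide +kernel

end Cfsg.Lib.RuModel
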