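import Cfsg.Agent.RuModel.Levels

/-!
Checks of the deeper levels, the vectors, the generators and the suborbits.
-/

set_option autoImplicit false

namespace Cfsg.Lib.RuModel

theorem vv_inc_0 : chk (fun x => decide (vv x < vv (x + 1))) 0 2100 = true := by
  decide +kernel

theorem vv_inc_2100 : chk (fun x => decide (vv x < vv (x + 1))) 2100 1959 = true := by
  decide +kernel

theorem vv_inc : chk (fun x => decide (vv x < vv (x + 1))) 0 4059 = true :=
  (chk_join (t := 4059) vv_inc_0 vv_inc_2100 (by norm_num) (by norm_num))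

theorem vv_one_0 : chk (fun x => vap (vv x) idMat == vv x) 0 2100 = true := by
  decide +kernel

theorem vv_one_2100 : chk (fun x => vap (vv x) idMat == vv x) 2100 1960 = true := by
  decide +kernel

theorem vv_one : chk (fun x => vap (vv x) idMat == vv x) 0 4060 = true :=
  (chk_join (t := 4060) vv_one_0 vv_one_2100 (by norm_num) (by norm_num))

theorem perm0_ok_0 : chk (fun x => decide (permT0.get 12 x < 4060) && decide (invT0.get 12 x < 4060) && (invT0.get 12 (permT0.get 12 x) == x) && (permT0.get 12 (invT0.get 12 x) == x) && (vap (vv x) (ru0.mat 0) == vv (permT0.get 12 x))) 0 2100 = true := by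
  decide +kernel

theorem perm0_ok_2100 : chk (fun x => decide (permT0.get 12 x < 4060) && decide (invT0.get 12 x < 4060) && (invT0.get 12 (permT0.get 12 x) == x) && (permT0.get 12 (invT0.get 12 x) == x) && (vap (vv x) (ru0.mat 0) == vv (permT0.get 12 x))) 2100 1960 = true := by
  decide +kernel

theorem perm0_ok : chk (fun x => decide (permT0.get 12 x < 4060) && decide (invT0.get 12 x < 4060) && (invT0.get 12 (permT0.get 12 x) == x) && (permT0.get 12 (invT0.get 12 x) == x) && (vap (vv x) (ru0.mat 0) == vv (permT0.get 12 x))) 0 4060 = true :=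
  (chk_join (t := 4060) perm0_ok_0 perm0_ok_2100 (by norm_num) (by norm_num))

theorem perm1_ok_0 : chk (fun x => decide (permT1.get 12 x < 4060) && decide (invT1.get 12 x < 4060) && (invT1.get 12 (permT1.get 12 x) == x) && (permT1.get 12 (invT1.get 12 x) == x) && (vap (vv x) (ru0.mat 1) == vv (permT1.get 12 x))) 0 2100 = true := by
  decide +kernel

theorem perm1_ok_2100 : chk (fun x => decide (permT1.get 12 x < 4060) && decide (invT1.get 12 x < 4060) && (invT1.get 12 (permT1.get 12 x) == x) && (permT1.get 12 (invT1.get 12 x) == x) && (vap (vv x) (ru0.mat 1) == vv (permT1.get 12 x))) 2100 1960 = true := by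
  decide +kernel

theorem perm1_ok : chk (fun x => decide (permT1.get 12 x < 4060) && decide (invT1.get 12 x < 4060) && (invT1.get 12 (permT1.get 12 x) == x) && (permT1.get 12 (invT1.get 12 x) == x) && (vap (vv x) (ru0.mat 1) == vv (permT1.get 12 x))) 0 4060 = true :=
  (chk_join (t := 4060) perm1_ok_0 perm1_ok_2100 (by norm_num) (by norm_num))

theorem base_pts : ru0.pt 0 = 0 ∧ ru0.pt 1 ≠ 0 ∧ ti0.pt 1 ≠ ti0.pt 0 := by
  decide +kernel

end Cfsg.Lib.RuModel
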