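import Cfsg.Agent.RuModel.Levels

/-!
Checks of the deeper levels, the vectors, the generators and the suborbits.
-/

set_option autoImplicit false

namespace Cfsg.Lib.RuModel

theorem ti0_pt_0 : chk (ti0.ptOK vv 4060) 0 1755 = true := by
  decide +kernel

theorem ti0_pt : chk (ti0.ptOK vv 4060) 0 1755 = true :=
  ti0_pt_0

theorem ti0_tree_0 : chk (ti0.treeOK) 0 1000 = true := by
  decide +kernel

theorem ti0_tree_1000 : chk (ti0.treeOK) 1000 755 = true := by
  decide +kernel

theorem ti0_tree : chk (ti0.treeOK) 0 1755 = true :=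
  (chk_join (t := 1755) ti0_tree_0 ti0_tree_1000 (by norm_num) (by norm_num))

theorem ti0_edge_0 : chk (ti0.edgeOK [ti1, ti2]) 0 1000 = true := by
  decide +kernel

theorem ti0_edge_1000 : chk (ti0.edgeOK [ti1, ti2]) 1000 1000 = true := by
  decide +kernel

theorem ti0_edge_2000 : chk (ti0.edgeOK [ti1, ti2]) 2000 1000 = true := by
  decide +kernel

theorem ti0_edge_3000 : chk (ti0.edgeOK [ti1, ti2]) 3000 510 = true := by
  decide +kernel

theorem ti0_edge : chk (ti0.edgeOK [ti1, ti2]) 0 3510 = true :=
  (chk_join (t := 3510) (chk_join (t := 3000) (chk_join (t := 2000) ti0_edge_0 ti0_edge_1000 (by norm_num) (by norm_num)) ti0_edge_2000 (by norm_num) (by norm_num)) ti0_edge_3000 (by norm_num) (by norm_num))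

theorem ti0_mats : ti0.mats.length = 2 := by
  decide +kernel

theorem ti1_pt_0 : chk (ti1.ptOK vv 4060) 0 1024 = true := by
  decide +kernel

theorem ti1_pt : chk (ti1.ptOK vv 4060) 0 1024 = true :=
  ti1_pt_0

theorem ti1_tree_0 : chk (ti1.treeOK) 0 1000 = true := by
  decide +kernel

theorem ti1_tree_1000 : chk (ti1.treeOK) 1000 24 = true := by
  decide +kernel

theorem ti1_tree : chk (ti1.treeOK) 0 1024 = true :=
  (chk_join (t := 1024) ti1_tree_0 ti1_tree_1000 (by norm_num) (by norm_num))

theorem ti1_edge_0 : chk (ti1.edgeOK [ti2]) 0 1000 = true := by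
  decide +kernel

theorem ti1_edge_1000 : chk (ti1.edgeOK [ti2]) 1000 1000 = true := by
  decide +kernel

theorem ti1_edge_2000 : chk (ti1.edgeOK [ti2]) 2000 48 = true := by
  decide +kernel

theorem ti1_edge : chk (ti1.edgeOK [ti2]) 0 2048 = true :=
  (chk_join (t := 2048) (chk_join (t := 2000) ti1_edge_0 ti1_edge_1000 (by norm_num) (by norm_num)) ti1_edge_2000 (by norm_num) (by norm_num))

theorem ti1_mats : ti1.mats.length = 2 := by
  decide +kernel

theorem ti2_pt_0 : chk (ti2.ptOK vv 4060) 0 10 = true := by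
  decide +kernel

theorem ti2_pt : chk (ti2.ptOK vv 4060) 0 10 = true :=
  ti2_pt_0

theorem ti2_tree_0 : chk (ti2.treeOK) 0 10 = true := by
  decide +kernel

theorem ti2_tree : chk (ti2.treeOK) 0 10 = true :=
  ti2_tree_0

theorem ti2_edge_0 : chk (ti2.edgeOK []) 0 20 = true := by
  decide +kernel

theorem ti2_edge : chk (ti2.edgeOK []) 0 20 = true :=
  ti2_edge_0

theorem ti2_mats : ti2.mats.length = 2 := by
  decide +kernel

theorem ti0_next : nextOK vv ru1 ti0 titsWords (ru0.pt 0) = true := by
  decide +kernel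

theorem ti1_next : nextOK vv ti0 ti1 ti0Words (ti0.pt 0) = true := by
  decide +kernel

theorem ti2_next : nextOK vv ti1 ti2 ti1Words (ti1.pt 0) = true := by
  decide +kernel

theorem ti0_order : ((List.range 2).all fun g => wmat ti0.mats (List.replicate 13 g) == idMat) = true := by
  decide +kernel

end Cfsg.Lib.RuModel
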