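import Cfsg.Agent.RuModel.Levels

/-!
Checks of the deeper levels, the vectors, the generators and the suborbits.
-/

set_option autoImplicit false

namespace Cfsg.Lib.RuModel

theorem ti0_pos : ((List.range 4060).all fun x => decide (ti0.pos.get 12 x = 4095) ||
    (decide (ti0.pos.get 12 x < 1755) && (ti0.pt (ti0.pos.get 12 x) == x) && codeOK tiClList tiClOf x)) = true := by
  decide +kernel

theorem ru_code : ((List.range 4060).all fun x => codeOK ruClList ruClOf x) = true := by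
  decide +kernel

theorem ruCl0_ok_0 : chk ((ruClList.getD 0 ⟨0, 0, .leaf 0, .leaf 0⟩).ok ru1 ruClOf 0) 0 1 = true := by
  decide +kernel

theorem ruCl0_ok : chk ((ruClList.getD 0 ⟨0, 0, .leaf 0, .leaf 0⟩).ok ru1 ruClOf 0) 0 1 = true :=
  ruCl0_ok_0

theorem ruCl1_ok_0 : chk ((ruClList.getD 1 ⟨0, 0, .leaf 0, .leaf 0⟩).ok ru1 ruClOf 1) 0 1755 = true := by
  decide +kernel

theorem ruCl1_ok : chk ((ruClList.getD 1 ⟨0, 0, .leaf 0, .leaf 0⟩).ok ru1 ruClOf 1) 0 1755 = true :=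
  ruCl1_ok_0

theorem ruCl2_ok_0 : chk ((ruClList.getD 2 ⟨0, 0, .leaf 0, .leaf 0⟩).ok ru1 ruClOf 2) 0 2304 = true := by
  decide +kernel

theorem ruCl2_ok : chk ((ruClList.getD 2 ⟨0, 0, .leaf 0, .leaf 0⟩).ok ru1 ruClOf 2) 0 2304 = true :=
  ruCl2_ok_0

theorem tiCl0_ok_0 : chk ((tiClList.getD 0 ⟨0, 0, .leaf 0, .leaf 0⟩).ok ti1 tiClOf 0) 0 1 = true := by
  decide +kernel

theorem tiCl0_ok : chk ((tiClList.getD 0 ⟨0, 0, .leaf 0, .leaf 0⟩).ok ti1 tiClOf 0) 0 1 = true :=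
  tiCl0_ok_0

theorem tiCl1_ok_0 : chk ((tiClList.getD 1 ⟨0, 0, .leaf 0, .leaf 0⟩).ok ti1 tiClOf 1) 0 640 = true := by
  decide +kernel

theorem tiCl1_ok : chk ((tiClList.getD 1 ⟨0, 0, .leaf 0, .leaf 0⟩).ok ti1 tiClOf 1) 0 640 = true :=
  tiCl1_ok_0

theorem tiCl2_ok_0 : chk ((tiClList.getD 2 ⟨0, 0, .leaf 0, .leaf 0⟩).ok ti1 tiClOf 2) 0 80 = true := by
  decide +kernel

theorem tiCl2_ok : chk ((tiClList.getD 2 ⟨0, 0, .leaf 0, .leaf 0⟩).ok ti1 tiClOf 2) 0 80 = true :=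
  tiCl2_ok_0

theorem tiCl3_ok_0 : chk ((tiClList.getD 3 ⟨0, 0, .leaf 0, .leaf 0⟩).ok ti1 tiClOf 3) 0 1024 = true := by
  decide +kernel

theorem tiCl3_ok : chk ((tiClList.getD 3 ⟨0, 0, .leaf 0, .leaf 0⟩).ok ti1 tiClOf 3) 0 1024 = true :=
  tiCl3_ok_0

theorem tiCl4_ok_0 : chk ((tiClList.getD 4 ⟨0, 0, .leaf 0, .leaf 0⟩).ok ti1 tiClOf 4) 0 10 = true := by
  decide +kernel

theorem tiCl4_ok : chk ((tiClList.getD 4 ⟨0, 0, .leaf 0, .leaf 0⟩).ok ti1 tiClOf 4) 0 10 = true :=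
  tiCl4_ok_0

theorem tiCl0_in : ((List.range 1).all fun i => decide (ti0.pos.get 12 ((tiClList.getD 0 ⟨0, 0, .leaf 0, .leaf 0⟩).pts.get 0 i) ≠ 4095)) = true := by
  decide +kernel

theorem tiCl1_in : ((List.range 640).all fun i => decide (ti0.pos.get 12 ((tiClList.getD 1 ⟨0, 0, .leaf 0, .leaf 0⟩).pts.get 10 i) ≠ 4095)) = true := by
  decide +kernel

theorem tiCl2_in : ((List.range 80).all fun i => decide (ti0.pos.get 12 ((tiClList.getD 2 ⟨0, 0, .leaf 0, .leaf 0⟩).pts.get 7 i) ≠ 4095)) = true := by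
  decide +kernel

theorem tiCl3_in : ((List.range 1024).all fun i => decide (ti0.pos.get 12 ((tiClList.getD 3 ⟨0, 0, .leaf 0, .leaf 0⟩).pts.get 10 i) ≠ 4095)) = true := by
  decide +kernel

theorem tiCl4_in : ((List.range 10).all fun i => decide (ti0.pos.get 12 ((tiClList.getD 4 ⟨0, 0, .leaf 0, .leaf 0⟩).pts.get 4 i) ≠ 4095)) = true := by
  decide +kernel

end Cfsg.Lib.RuModel
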