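import Cfsg.Agent.RuModel.Levels

/-!
Checks of the first level.
-/

set_option autoImplicit false

namespace Cfsg.Lib.RuModel

theorem ru0_edge_0 : chk (ru0.edgeOK [ru1, ru2, ru3]) 0 1000 = true := by
  decide +kernel

theorem ru0_edge_1000 : chk (ru0.edgeOK [ru1, ru2, ru3]) 1000 1000 = true := by
  decide +kernel

theorem ru0_edge_2000 : chk (ru0.edgeOK [ru1, ru2, ru3]) 2000 1000 = true := by
  decide +kernel

theorem ru0_edge_3000 : chk (ru0.edgeOK [ru1, ru2, ru3]) 3000 1000 = true := by
  decide +kernel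

theorem ru0_edge_4000 : chk (ru0.edgeOK [ru1, ru2, ru3]) 4000 1000 = true := by
  decide +kernel

theorem ru0_edge_5000 : chk (ru0.edgeOK [ru1, ru2, ru3]) 5000 1000 = true := by
  decide +kernel

theorem ru0_edge_6000 : chk (ru0.edgeOK [ru1, ru2, ru3]) 6000 1000 = true := by
  decide +kernel

theorem ru0_edge_7000 : chk (ru0.edgeOK [ru1, ru2, ru3]) 7000 1000 = true := by
  decide +kernel

theorem ru0_edge_8000 : chk (ru0.edgeOK [ru1, ru2, ru3]) 8000 120 = true := by
  decide +kernel

theorem ru0_edge : chk (ru0.edgeOK [ru1, ru2, ru3]) 0 8120 = true :=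
  (chk_join (t := 8120) (chk_join (t := 8000) (chk_join (t := 7000) (chk_join (t := 6000) (chk_join (t := 5000) (chk_join (t := 4000) (chk_join (t := 3000) (chk_join (t := 2000) ru0_edge_0 ru0_edge_1000 (by norm_num) (by norm_num)) ru0_edge_2000 (by norm_num) (by norm_num)) ru0_edge_3000 (by norm_num) (by norm_num)) ru0_edge_4000 (by norm_num) (by norm_num)) ru0_edge_5000 (by norm_num) (by norm_num)) ru0_edge_6000 (by norm_num) (by norm_num)) ru0_edge_7000 (by norm_num) (by norm_num)) ru0_edge_8000 (by norm_num) (by norm_num))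

end Cfsg.Lib.RuModel
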