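import Cfsg.Agent.RuModel.Tree

/-!
Suborbit numbers of the points.
-/

namespace Cfsg.Lib.RuModel

def ruClOfB0 : RT := .node (.node (.node (.node (.node (.node (.leaf 0)
 (.leaf 4096))
 (.node (.leaf 8192)
 (.leaf 10238)))
 (.node (.node (.leaf 9575)
 (.leaf 9729))
 (.node (.leaf 5373)
 (.leaf 5796))))
 (.node (.node (.node (.leaf 10024)
 (.leaf 9134))
 (.node (.leaf 8681)
 (.leaf 4964)))
 (.node (.node (.leaf 9207)
 (.leaf 9281))
 (.node (.leaf 9451)
 (.leaf 5778)))))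
 (.node (.node (.node (.node (.leaf 9700)
 (.leaf 9092))
 (.node (.leaf 9114)
 (.leaf 9015)))
 (.node (.node (.leaf 9286)
 (.leaf 9956))
 (.node (.leaf 8840)
 (.leaf 8632))))
 (.node (.node (.node (.leaf 4328)
 (.leaf 8510))
 (.node (.leaf 5232)
 (.leaf 5547)))
 (.node (.node (.leaf 10327)
 (.leaf 4628))
 (.node (.leaf 8503)
 (.leaf 10308))))))
 (.node (.node (.node (.node (.node (.leaf 9741)
 (.leaf 9924))
 (.node (.leaf 9930)
 (.leaf 4888)))
 (.node (.node (.leaf 9313)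
 (.leaf 10033))
 (.node (.leaf 9100)
 (.leaf 4341))))
 (.node (.node (.node (.leaf 4684)
 (.leaf 5687))
 (.node (.leaf 9398)
 (.leaf 8601)))
 (.node (.node (.leaf 10005)
 (.leaf 5357))
 (.node (.leaf 10177)
 (.leaf 10420)))))
 (.node (.node (.node (.node (.leaf 5311)
 (.leaf 5313))
 (.node (.leaf 9077)
 (.leaf 8483)))
 (.node (.node (.leaf 5174)
 (.leaf 10246))
 (.node (.leaf 5650)
 (.leaf 5221))))
 (.node (.node (.node (.leaf 9972)
 (.leaf 9154))
 (.node (.leaf 9998)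
 (.leaf 4659)))
 (.node (.node (.leaf 4458)
 (.leaf 5490))
 (.node (.leaf 10401)
 (.leaf 9976))))))

def ruClOfB1 : RT := .node (.node (.node (.node (.node (.node (.leaf 5691)
 (.leaf 8238))
 (.node (.leaf 8748)
 (.leaf 10155)))
 (.node (.node (.leaf 8978)
 (.leaf 8704))
 (.node (.leaf 8931)
 (.leaf 4365))))
 (.node (.node (.node (.leaf 10013)
 (.leaf 9900))
 (.node (.leaf 5186)
 (.leaf 4481)))
 (.node (.node (.leaf 9018)
 (.leaf 5612))
 (.node (.leaf 8956)
 (.leaf 10290)))))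
 (.node (.node (.node (.node (.leaf 9062)
 (.leaf 8370))
 (.node (.leaf 9787)
 (.leaf 5437)))
 (.node (.node (.leaf 9740)
 (.leaf 9867))
 (.node (.leaf 9252)
 (.leaf 4587))))
 (.node (.node (.node (.leaf 10137)
 (.leaf 4209))
 (.node (.leaf 9050)
 (.leaf 4646)))
 (.node (.node (.leaf 10085)
 (.leaf 5447))
 (.node (.leaf 5848)
 (.leaf 10045))))))
 (.node (.node (.node (.node (.node (.leaf 8988)
 (.leaf 5026))
 (.node (.leaf 5326)
 (.leaf 9175)))
 (.node (.node (.leaf 9832)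
 (.leaf 5401))
 (.node (.leaf 10313)
 (.leaf 4335))))
 (.node (.node (.node (.leaf 5299)
 (.leaf 4753))
 (.node (.leaf 9327)
 (.leaf 10110)))
 (.node (.node (.leaf 4391)
 (.leaf 4650))
 (.node (.leaf 9593)
 (.leaf 10103)))))
 (.node (.node (.node (.node (.leaf 9540)
 (.leaf 4380))
 (.node (.leaf 5218)
 (.leaf 8547)))
 (.node (.node (.leaf 10278)
 (.leaf 4594))
 (.node (.leaf 5335)
 (.leaf 5375))))
 (.node (.node (.node (.leaf 9481)
 (.leaf 10324))
 (.node (.leaf 4279)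
 (.leaf 8365)))
 (.node (.node (.leaf 9759)
 (.leaf 10416))
 (.node (.leaf 8366)
 (.leaf 8436))))))

def ruClOfB2 : RT := .node (.node (.node (.node (.node (.node (.leaf 10233)
 (.leaf 4811))
 (.node (.leaf 10244)
 (.leaf 9467)))
 (.node (.node (.leaf 8851)
 (.leaf 8197))
 (.node (.leaf 8696)
 (.leaf 8252))))
 (.node (.node (.node (.leaf 9822)
 (.leaf 9185))
 (.node (.leaf 4604)
 (.leaf 8433)))
 (.node (.node (.leaf 8571)
 (.leaf 8403))
 (.node (.leaf 8256)
 (.leaf 8862)))))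
 (.node (.node (.node (.node (.leaf 10047)
 (.leaf 9939))
 (.node (.leaf 4790)
 (.leaf 9531)))
 (.node (.node (.leaf 5826)
 (.leaf 9459))
 (.node (.leaf 10016)
 (.leaf 5047))))
 (.node (.node (.node (.leaf 9897)
 (.leaf 4737))
 (.node (.leaf 8225)
 (.leaf 5080)))
 (.node (.node (.leaf 9308)
 (.leaf 4114))
 (.node (.leaf 8317)
 (.leaf 5516))))))
 (.node (.node (.node (.node (.node (.leaf 5233)
 (.leaf 8869))
 (.node (.leaf 5158)
 (.leaf 5715)))
 (.node (.node (.leaf 5320)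
 (.leaf 4204))
 (.node (.leaf 8791)
 (.leaf 8331))))
 (.node (.node (.node (.leaf 10478)
 (.leaf 10227))
 (.node (.leaf 4861)
 (.leaf 5502)))
 (.node (.node (.leaf 10111)
 (.leaf 9466))
 (.node (.leaf 9878)
 (.leaf 9441)))))
 (.node (.node (.node (.node (.leaf 9214)
 (.leaf 4911))
 (.node (.leaf 4351)
 (.leaf 8461)))
 (.node (.node (.leaf 5097)
 (.leaf 5042))
 (.node (.leaf 4961)
 (.leaf 8818))))
 (.node (.node (.node (.leaf 5051)
 (.leaf 4372))
 (.node (.leaf 4407)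
 (.leaf 8786)))
 (.node (.node (.leaf 4433)
 (.leaf 5729))
 (.node (.leaf 4984)
 (.leaf 4237))))))

def ruClOfB3 : RT := .node (.node (.node (.node (.node (.node (.leaf 4705)
 (.leaf 5581))
 (.node (.leaf 9141)
 (.leaf 4598)))
 (.node (.node (.leaf 5608)
 (.leaf 4398))
 (.node (.leaf 4574)
 (.leaf 4974))))
 (.node (.node (.node (.leaf 4696)
 (.leaf 8457))
 (.node (.leaf 5521)
 (.leaf 10326)))
 (.node (.node (.leaf 5595)
 (.leaf 4781))
 (.node (.leaf 4361)
 (.leaf 8440)))))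
 (.node (.node (.node (.node (.leaf 5820)
 (.leaf 8691))
 (.node (.leaf 8887)
 (.leaf 4939)))
 (.node (.node (.leaf 9726)
 (.leaf 9828))
 (.node (.leaf 4923)
 (.leaf 9221))))
 (.node (.node (.node (.leaf 5725)
 (.leaf 9813))
 (.node (.leaf 10396)
 (.leaf 8986)))
 (.node (.node (.leaf 5532)
 (.leaf 8714))
 (.node (.leaf 4423)
 (.leaf 5673))))))
 (.node (.node (.node (.node (.node (.leaf 8515)
 (.leaf 8496))
 (.node (.leaf 5172)
 (.leaf 5432)))
 (.node (.node (.leaf 4816)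
 (.leaf 4602))
 (.node (.leaf 9526)
 (.leaf 5349))))
 (.node (.node (.node (.leaf 10072)
 (.leaf 4538))
 (.node (.leaf 10069)
 (.leaf 9274)))
 (.node (.node (.leaf 5168)
 (.leaf 4154))
 (.node (.leaf 9863)
 (.leaf 8485)))))
 (.node (.node (.node (.node (.leaf 4482)
 (.leaf 4456))
 (.node (.leaf 9770)
 (.leaf 4284)))
 (.node (.node (.leaf 8983)
 (.leaf 9911))
 (.node (.leaf 9876)
 (.leaf 9838))))
 (.node (.node (.node (.leaf 9658)
 (.leaf 8721))
 (.node (.leaf 8395)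
 (.leaf 8945)))
 (.node (.node (.leaf 5483)
 (.leaf 9567))
 (.node (.leaf 5749)
 (.leaf 9464))))))

def ruClOfB4 : RT := .node (.node (.node (.node (.node (.node (.leaf 5773)
 (.leaf 9525))
 (.node (.leaf 4795)
 (.leaf 5408)))
 (.node (.node (.leaf 4261)
 (.leaf 8262))
 (.node (.leaf 5316)
 (.leaf 8320))))
 (.node (.node (.node (.leaf 8801)
 (.leaf 9573))
 (.node (.leaf 8314)
 (.leaf 10440)))
 (.node (.node (.leaf 8421)
 (.leaf 4296))
 (.node (.leaf 5465)
 (.leaf 5472)))))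
 (.node (.node (.node (.node (.leaf 5717)
 (.leaf 9667))
 (.node (.leaf 9792)
 (.leaf 8740)))
 (.node (.node (.leaf 5238)
 (.leaf 4983))
 (.node (.leaf 4564)
 (.leaf 4774))))
 (.node (.node (.node (.leaf 4982)
 (.leaf 5627))
 (.node (.leaf 8917)
 (.leaf 4270)))
 (.node (.node (.leaf 8765)
 (.leaf 4533))
 (.node (.leaf 4969)
 (.leaf 10091))))))
 (.node (.node (.node (.node (.node (.leaf 9550)
 (.leaf 8710))
 (.node (.leaf 9135)
 (.leaf 9427)))
 (.node (.node (.leaf 5748)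
 (.leaf 4246))
 (.node (.leaf 9949)
 (.leaf 8990))))
 (.node (.node (.node (.leaf 9144)
 (.leaf 4530))
 (.node (.leaf 9594)
 (.leaf 9804)))
 (.node (.node (.leaf 4857)
 (.leaf 9079))
 (.node (.leaf 9201)
 (.leaf 4476)))))
 (.node (.node (.node (.node (.leaf 5278)
 (.leaf 5381))
 (.node (.leaf 8218)
 (.leaf 9679)))
 (.node (.node (.leaf 9674)
 (.leaf 8441))
 (.node (.leaf 9452)
 (.leaf 5379))))
 (.node (.node (.node (.leaf 9484)
 (.leaf 8626))
 (.node (.leaf 9908)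
 (.leaf 4953)))
 (.node (.node (.leaf 9311)
 (.leaf 8609))
 (.node (.leaf 10098)
 (.leaf 5041))))))

def ruClOfB5 : RT := .node (.node (.node (.node (.node (.node (.leaf 8768)
 (.leaf 5362))
 (.node (.leaf 8904)
 (.leaf 10400)))
 (.node (.node (.leaf 5046)
 (.leaf 9169))
 (.node (.leaf 8679)
 (.leaf 10299))))
 (.node (.node (.node (.leaf 9889)
 (.leaf 10029))
 (.node (.leaf 4471)
 (.leaf 10417)))
 (.node (.node (.leaf 9856)
 (.leaf 9337))
 (.node (.leaf 5430)
 (.leaf 8507)))))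
 (.node (.node (.node (.node (.leaf 5201)
 (.leaf 10452))
 (.node (.leaf 5297)
 (.leaf 10361)))
 (.node (.node (.leaf 4435)
 (.leaf 8389))
 (.node (.leaf 9487)
 (.leaf 4473))))
 (.node (.node (.node (.leaf 10388)
 (.leaf 10494))
 (.node (.leaf 9707)
 (.leaf 10093)))
 (.node (.node (.leaf 8970)
 (.leaf 9769))
 (.node (.leaf 5328)
 (.leaf 10185))))))
 (.node (.node (.node (.node (.node (.leaf 5680)
 (.leaf 9483))
 (.node (.leaf 10475)
 (.leaf 9820)))
 (.node (.node (.leaf 9330)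
 (.leaf 9840))
 (.node (.leaf 5492)
 (.leaf 5017))))
 (.node (.node (.node (.leaf 10041)
 (.leaf 9812))
 (.node (.leaf 9380)
 (.leaf 9992)))
 (.node (.node (.leaf 9227)
 (.leaf 10176))
 (.node (.leaf 10234)
 (.leaf 10116)))))
 (.node (.node (.node (.node (.leaf 8675)
 (.leaf 10011))
 (.node (.leaf 4113)
 (.leaf 8657)))
 (.node (.node (.leaf 10187)
 (.leaf 5536))
 (.node (.leaf 4601)
 (.leaf 9649))))
 (.node (.node (.node (.leaf 5791)
 (.leaf 4950))
 (.node (.leaf 4792)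
 (.leaf 9310)))
 (.node (.node (.leaf 9149)
 (.leaf 4732))
 (.node (.leaf 4309)
 (.leaf 5489))))))

def ruClOfB6 : RT := .node (.node (.node (.node (.node (.node (.leaf 5414)
 (.leaf 9137))
 (.node (.leaf 5354)
 (.leaf 4421)))
 (.node (.node (.leaf 8619)
 (.leaf 9288))
 (.node (.leaf 4449)
 (.leaf 8349))))
 (.node (.node (.node (.leaf 10408)
 (.leaf 9638))
 (.node (.leaf 10160)
 (.leaf 10002)))
 (.node (.node (.leaf 4700)
 (.leaf 4708))
 (.node (.leaf 10309)
 (.leaf 8289)))))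
 (.node (.node (.node (.node (.leaf 10468)
 (.leaf 8998))
 (.node (.leaf 9919)
 (.leaf 9232)))
 (.node (.node (.leaf 8245)
 (.leaf 5600))
 (.node (.leaf 4719)
 (.leaf 4642))))
 (.node (.node (.node (.leaf 4842)
 (.leaf 9304))
 (.node (.leaf 5630)
 (.leaf 4140)))
 (.node (.node (.leaf 9238)
 (.leaf 9951))
 (.node (.leaf 9837)
 (.leaf 4231))))))
 (.node (.node (.node (.node (.node (.leaf 8802)
 (.leaf 5751))
 (.node (.leaf 4258)
 (.leaf 10379)))
 (.node (.node (.leaf 9808)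
 (.leaf 5129))
 (.node (.leaf 8300)
 (.leaf 9474))))
 (.node (.node (.node (.leaf 10123)
 (.leaf 9099))
 (.node (.leaf 5109)
 (.leaf 10239)))
 (.node (.node (.leaf 10344)
 (.leaf 5760))
 (.node (.leaf 5832)
 (.leaf 5809)))))
 (.node (.node (.node (.node (.leaf 5742)
 (.leaf 4800))
 (.node (.leaf 5675)
 (.leaf 9936)))
 (.node (.node (.leaf 8649)
 (.leaf 9372))
 (.node (.leaf 10018)
 (.leaf 8697))))
 (.node (.node (.node (.leaf 10477)
 (.leaf 8216))
 (.node (.leaf 9058)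
 (.leaf 9381)))
 (.node (.node (.leaf 5196)
 (.leaf 9692))
 (.node (.leaf 8671)
 (.leaf 4370))))))

def ruClOfB7 : RT := .node (.node (.node (.node (.node (.node (.leaf 4132)
 (.leaf 10360))
 (.node (.leaf 4260)
 (.leaf 4605)))
 (.node (.node (.leaf 10375)
 (.leaf 9784))
 (.node (.leaf 9414)
 (.leaf 8313))))
 (.node (.node (.node (.leaf 9796)
 (.leaf 9183))
 (.node (.leaf 9564)
 (.leaf 5541)))
 (.node (.node (.leaf 8717)
 (.leaf 9162))
 (.node (.leaf 4957)
 (.leaf 9463)))))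
 (.node (.node (.node (.node (.leaf 4134)
 (.leaf 4207))
 (.node (.leaf 8567)
 (.leaf 5745)))
 (.node (.node (.leaf 9552)
 (.leaf 10427))
 (.node (.leaf 8910)
 (.leaf 8497))))
 (.node (.node (.node (.leaf 4716)
 (.leaf 8743))
 (.node (.leaf 9617)
 (.leaf 5393)))
 (.node (.node (.leaf 9929)
 (.leaf 9490))
 (.node (.leaf 9597)
 (.leaf 8206))))))
 (.node (.node (.node (.node (.node (.leaf 8287)
 (.leaf 4561))
 (.node (.leaf 4633)
 (.leaf 9544)))
 (.node (.node (.leaf 8519)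
 (.leaf 10395))
 (.node (.leaf 9348)
 (.leaf 9476))))
 (.node (.node (.node (.leaf 9242)
 (.leaf 8219))
 (.node (.leaf 9020)
 (.leaf 5013)))
 (.node (.node (.leaf 4300)
 (.leaf 4242))
 (.node (.leaf 4241)
 (.leaf 4876)))))
 (.node (.node (.node (.node (.leaf 5319)
 (.leaf 9524))
 (.node (.leaf 8199)
 (.leaf 8603)))
 (.node (.node (.leaf 8844)
 (.leaf 10369))
 (.node (.leaf 9148)
 (.leaf 4938))))
 (.node (.node (.node (.leaf 5152)
 (.leaf 10228))
 (.node (.leaf 5440)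
 (.leaf 5567)))
 (.node (.node (.leaf 10337)
 (.leaf 10148))
 (.node (.leaf 9021)
 (.leaf 10333))))))

def ruClOfB8 : RT := .node (.node (.node (.node (.node (.node (.leaf 4866)
 (.leaf 4804))
 (.node (.leaf 9051)
 (.leaf 9634)))
 (.node (.node (.leaf 9320)
 (.leaf 5611))
 (.node (.leaf 10190)
 (.leaf 8394))))
 (.node (.node (.node (.leaf 5060)
 (.leaf 8828))
 (.node (.leaf 9393)
 (.leaf 9885)))
 (.node (.node (.leaf 8399)
 (.leaf 10429))
 (.node (.leaf 9082)
 (.leaf 5008)))))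
 (.node (.node (.node (.node (.leaf 4689)
 (.leaf 9345))
 (.node (.leaf 5649)
 (.leaf 9260)))
 (.node (.node (.leaf 4437)
 (.leaf 5638))
 (.node (.leaf 9032)
 (.leaf 9862))))
 (.node (.node (.node (.leaf 9854)
 (.leaf 8742))
 (.node (.leaf 9244)
 (.leaf 8518)))
 (.node (.node (.leaf 9156)
 (.leaf 10180))
 (.node (.leaf 10348)
 (.leaf 10495))))))
 (.node (.node (.node (.node (.node (.leaf 9791)
 (.leaf 8731))
 (.node (.leaf 9712)
 (.leaf 8979)))
 (.node (.node (.leaf 9245)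
 (.leaf 10245))
 (.node (.leaf 5368)
 (.leaf 5361))))
 (.node (.node (.node (.leaf 5110)
 (.leaf 8269))
 (.node (.leaf 4344)
 (.leaf 8426)))
 (.node (.node (.leaf 4664)
 (.leaf 8479))
 (.node (.leaf 9088)
 (.leaf 10243)))))
 (.node (.node (.node (.node (.leaf 8459)
 (.leaf 8612))
 (.node (.leaf 10054)
 (.leaf 5096)))
 (.node (.node (.leaf 8923)
 (.leaf 8824))
 (.node (.leaf 10036)
 (.leaf 8285))))
 (.node (.node (.node (.leaf 8291)
 (.leaf 9243))
 (.node (.leaf 8760)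
 (.leaf 4497)))
 (.node (.node (.leaf 4487)
 (.leaf 5389))
 (.node (.leaf 8965)
 (.leaf 8805))))))

def ruClOfB9 : RT := .node (.node (.node (.node (.node (.node (.leaf 4966)
 (.leaf 5236))
 (.node (.leaf 10480)
 (.leaf 4228)))
 (.node (.node (.leaf 5318)
 (.leaf 8938))
 (.node (.leaf 4285)
 (.leaf 4560))))
 (.node (.node (.node (.leaf 8729)
 (.leaf 10441))
 (.node (.leaf 8532)
 (.leaf 4869)))
 (.node (.node (.leaf 5846)
 (.leaf 8473))
 (.node (.leaf 5388)
 (.leaf 5620)))))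
 (.node (.node (.node (.node (.leaf 10470)
 (.leaf 5150))
 (.node (.leaf 8579)
 (.leaf 8234)))
 (.node (.node (.leaf 10059)
 (.leaf 5227))
 (.node (.leaf 4315)
 (.leaf 5195))))
 (.node (.node (.node (.leaf 10432)
 (.leaf 4611))
 (.node (.leaf 10263)
 (.leaf 8861)))
 (.node (.node (.leaf 5193)
 (.leaf 9405))
 (.node (.leaf 5144)
 (.leaf 8337))))))
 (.node (.node (.node (.node (.node (.leaf 9568)
 (.leaf 5526))
 (.node (.leaf 9577)
 (.leaf 10130)))
 (.node (.node (.leaf 9339)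
 (.leaf 4827))
 (.node (.leaf 10255)
 (.leaf 9071))))
 (.node (.node (.node (.leaf 5761)
 (.leaf 9384))
 (.node (.leaf 8607)
 (.leaf 8200)))
 (.node (.node (.leaf 4229)
 (.leaf 10447))
 (.node (.leaf 5231)
 (.leaf 9612)))))
 (.node (.node (.node (.node (.leaf 9763)
 (.leaf 8837))
 (.node (.leaf 4725)
 (.leaf 5662)))
 (.node (.node (.leaf 10319)
 (.leaf 9375))
 (.node (.leaf 4179)
 (.leaf 8341))))
 (.node (.node (.node (.leaf 5703)
 (.leaf 8656))
 (.node (.leaf 8242)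
 (.leaf 9150)))
 (.node (.node (.leaf 5397)
 (.leaf 8239))
 (.node (.leaf 5554)
 (.leaf 4185))))))

def ruClOfB10 : RT := .node (.node (.node (.node (.node (.node (.leaf 5835)
 (.leaf 8383))
 (.node (.leaf 9117)
 (.leaf 5098)))
 (.node (.node (.leaf 8194)
 (.leaf 8789))
 (.node (.leaf 4660)
 (.leaf 4147))))
 (.node (.node (.node (.leaf 9503)
 (.leaf 9277))
 (.node (.leaf 5069)
 (.leaf 8689)))
 (.node (.node (.leaf 4867)
 (.leaf 10230))
 (.node (.leaf 9096)
 (.leaf 9200)))))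
 (.node (.node (.node (.node (.leaf 4902)
 (.leaf 10368))
 (.node (.leaf 9225)
 (.leaf 4438)))
 (.node (.node (.leaf 8456)
 (.leaf 8891))
 (.node (.leaf 9026)
 (.leaf 8339))))
 (.node (.node (.node (.leaf 5258)
 (.leaf 5843))
 (.node (.leaf 10315)
 (.leaf 10276)))
 (.node (.node (.leaf 4779)
 (.leaf 8660))
 (.node (.leaf 8578)
 (.leaf 8442))))))
 (.node (.node (.node (.node (.node (.leaf 4544)
 (.leaf 4356))
 (.node (.leaf 9302)
 (.leaf 5246)))
 (.node (.node (.leaf 4801)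
 (.leaf 5039))
 (.node (.leaf 4812)
 (.leaf 8592))))
 (.node (.node (.node (.leaf 4505)
 (.leaf 10311))
 (.node (.leaf 5718)
 (.leaf 8402)))
 (.node (.node (.leaf 9321)
 (.leaf 9800))
 (.node (.leaf 9857)
 (.leaf 8332)))))
 (.node (.node (.node (.node (.leaf 8959)
 (.leaf 8814))
 (.node (.leaf 5458)
 (.leaf 4514)))
 (.node (.node (.leaf 9570)
 (.leaf 9602))
 (.node (.leaf 4348)
 (.leaf 8896))))
 (.node (.node (.node (.leaf 8771)
 (.leaf 8274))
 (.node (.leaf 10279)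
 (.leaf 8651)))
 (.node (.node (.leaf 9842)
 (.leaf 8690))
 (.node (.leaf 5426)
 (.leaf 10106))))))

def ruClOfB11 : RT := .node (.node (.node (.node (.node (.node (.leaf 9581)
 (.leaf 5701))
 (.node (.leaf 8272)
 (.leaf 5427)))
 (.node (.node (.leaf 9211)
 (.leaf 8534))
 (.node (.leaf 9639)
 (.leaf 8351))))
 (.node (.node (.node (.leaf 5468)
 (.leaf 9576))
 (.node (.leaf 5477)
 (.leaf 8410)))
 (.node (.node (.leaf 8834)
 (.leaf 10184))
 (.node (.leaf 4820)
 (.leaf 10272)))))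
 (.node (.node (.node (.node (.leaf 4262)
 (.leaf 5346))
 (.node (.leaf 4975)
 (.leaf 9509)))
 (.node (.node (.leaf 4470)
 (.leaf 9902))
 (.node (.leaf 10472)
 (.leaf 5113))))
 (.node (.node (.node (.leaf 9848)
 (.leaf 9601))
 (.node (.leaf 9231)
 (.leaf 10364)))
 (.node (.node (.leaf 9739)
 (.leaf 9344))
 (.node (.leaf 8514)
 (.leaf 4156))))))
 (.node (.node (.node (.node (.node (.leaf 9351)
 (.leaf 4343))
 (.node (.leaf 5147)
 (.leaf 5566)))
 (.node (.node (.leaf 4637)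
 (.leaf 8214))
 (.node (.leaf 9569)
 (.leaf 9435))))
 (.node (.node (.node (.leaf 4978)
 (.leaf 4397))
 (.node (.leaf 4921)
 (.leaf 8853)))
 (.node (.node (.leaf 4402)
 (.leaf 8902))
 (.node (.leaf 8783)
 (.leaf 8472)))))
 (.node (.node (.node (.node (.leaf 9705)
 (.leaf 5240))
 (.node (.leaf 9266)
 (.leaf 9604)))
 (.node (.node (.leaf 4761)
 (.leaf 5641))
 (.node (.leaf 8564)
 (.leaf 9410))))
 (.node (.node (.node (.leaf 5734)
 (.leaf 4148))
 (.node (.leaf 10038)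
 (.leaf 8264)))
 (.node (.node (.leaf 9450)
 (.leaf 4196))
 (.node (.leaf 8964)
 (.leaf 9940))))))

def ruClOfB12 : RT := .node (.node (.node (.node (.node (.node (.leaf 5726)
 (.leaf 9369))
 (.node (.leaf 5433)
 (.leaf 5023)))
 (.node (.node (.leaf 4917)
 (.leaf 8583))
 (.node (.leaf 9212)
 (.leaf 4945))))
 (.node (.node (.node (.leaf 5274)
 (.leaf 10092))
 (.node (.leaf 4477)
 (.leaf 10316)))
 (.node (.node (.leaf 4783)
 (.leaf 9139))
 (.node (.leaf 9376)
 (.leaf 5183)))))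
 (.node (.node (.node (.node (.leaf 8266)
 (.leaf 4441))
 (.node (.leaf 9755)
 (.leaf 4557)))
 (.node (.node (.leaf 4467)
 (.leaf 4443))
 (.node (.leaf 5146)
 (.leaf 10220))))
 (.node (.node (.node (.leaf 8241)
 (.leaf 4629))
 (.node (.leaf 9193)
 (.leaf 5019)))
 (.node (.node (.leaf 4304)
 (.leaf 9757))
 (.node (.leaf 4688)
 (.leaf 5380))))))
 (.node (.node (.node (.node (.node (.leaf 5753)
 (.leaf 8769))
 (.node (.leaf 9866)
 (.leaf 8597)))
 (.node (.node (.leaf 8741)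
 (.leaf 5455))
 (.node (.leaf 8517)
 (.leaf 4213))))
 (.node (.node (.node (.leaf 9592)
 (.leaf 4899))
 (.node (.leaf 4253)
 (.leaf 8570)))
 (.node (.node (.leaf 8618)
 (.leaf 4895))
 (.node (.leaf 10318)
 (.leaf 5800)))))
 (.node (.node (.node (.node (.leaf 9971)
 (.leaf 4508))
 (.node (.leaf 9987)
 (.leaf 4500)))
 (.node (.node (.leaf 8540)
 (.leaf 9249))
 (.node (.leaf 9920)
 (.leaf 8423))))
 (.node (.node (.node (.leaf 9978)
 (.leaf 8374))
 (.node (.leaf 10150)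
 (.leaf 5463)))
 (.node (.node (.leaf 10090)
 (.leaf 4922))
 (.node (.leaf 9197)
 (.leaf 4422))))))

def ruClOfB13 : RT := .node (.node (.node (.node (.node (.node (.leaf 4882)
 (.leaf 9104))
 (.node (.leaf 8735)
 (.leaf 5262)))
 (.node (.node (.leaf 4943)
 (.leaf 4925))
 (.node (.leaf 4371)
 (.leaf 8193))))
 (.node (.node (.node (.leaf 4216)
 (.leaf 8210))
 (.node (.leaf 9619)
 (.leaf 10386)))
 (.node (.node (.leaf 9090)
 (.leaf 5394))
 (.node (.leaf 4578)
 (.leaf 9112)))))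
 (.node (.node (.node (.node (.leaf 10286)
 (.leaf 9171))
 (.node (.leaf 9743)
 (.leaf 4520)))
 (.node (.node (.leaf 10397)
 (.leaf 4848))
 (.node (.leaf 4973)
 (.leaf 9553))))
 (.node (.node (.node (.leaf 8823)
 (.leaf 4115))
 (.node (.leaf 5153)
 (.leaf 4521)))
 (.node (.node (.leaf 5251)
 (.leaf 4384))
 (.node (.leaf 5398)
 (.leaf 5605))))))
 (.node (.node (.node (.node (.node (.leaf 4796)
 (.leaf 8323))
 (.node (.leaf 8553)
 (.leaf 9768)))
 (.node (.node (.leaf 10371)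
 (.leaf 4746))
 (.node (.leaf 4382)
 (.leaf 4765))))
 (.node (.node (.node (.leaf 9574)
 (.leaf 5768))
 (.node (.leaf 9943)
 (.leaf 4536)))
 (.node (.node (.leaf 8843)
 (.leaf 9637))
 (.node (.leaf 9869)
 (.leaf 4787)))))
 (.node (.node (.node (.node (.leaf 5136)
 (.leaf 8198))
 (.node (.leaf 4615)
 (.leaf 9731)))
 (.node (.node (.leaf 8201)
 (.leaf 5634))
 (.node (.leaf 10363)
 (.leaf 5762))))
 (.node (.node (.node (.leaf 9292)
 (.leaf 8625))
 (.node (.leaf 4662)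
 (.leaf 10453)))
 (.node (.node (.leaf 5141)
 (.leaf 4485))
 (.node (.leaf 4244)
 (.leaf 4104))))))

def ruClOfB14 : RT := .node (.node (.node (.node (.node (.node (.leaf 5524)
 (.leaf 8419))
 (.node (.leaf 10383)
 (.leaf 4771)))
 (.node (.node (.leaf 10284)
 (.leaf 8523))
 (.node (.leaf 8536)
 (.leaf 8428))))
 (.node (.node (.node (.leaf 10471)
 (.leaf 9681))
 (.node (.leaf 5256)
 (.leaf 4181)))
 (.node (.node (.leaf 8495)
 (.leaf 5562))
 (.node (.leaf 5657)
 (.leaf 5689)))))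
 (.node (.node (.node (.node (.leaf 4817)
 (.leaf 5061))
 (.node (.leaf 9430)
 (.leaf 5626)))
 (.node (.node (.leaf 4448)
 (.leaf 5586))
 (.node (.leaf 4211)
 (.leaf 4122))))
 (.node (.node (.node (.leaf 8764)
 (.leaf 5269))
 (.node (.leaf 5792)
 (.leaf 4118)))
 (.node (.node (.leaf 10055)
 (.leaf 8982))
 (.node (.leaf 9783)
 (.leaf 4377))))))
 (.node (.node (.node (.node (.node (.leaf 4103)
 (.leaf 9827))
 (.node (.leaf 4369)
 (.leaf 8761)))
 (.node (.node (.leaf 8846)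
 (.leaf 4142))
 (.node (.leaf 4550)
 (.leaf 8850))))
 (.node (.node (.node (.leaf 10074)
 (.leaf 8718))
 (.node (.leaf 4248)
 (.leaf 8268)))
 (.node (.node (.leaf 4568)
 (.leaf 9789))
 (.node (.leaf 8549)
 (.leaf 5411)))))
 (.node (.node (.node (.node (.leaf 9582)
 (.leaf 4496))
 (.node (.leaf 8580)
 (.leaf 4620)))
 (.node (.node (.leaf 5089)
 (.leaf 8614))
 (.node (.leaf 5226)
 (.leaf 8784))))
 (.node (.node (.node (.leaf 8750)
 (.leaf 5184))
 (.node (.leaf 9493)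
 (.leaf 4874)))
 (.node (.node (.leaf 9329)
 (.leaf 4709))
 (.node (.leaf 8432)
 (.leaf 9469))))))

def ruClOfB15 : RT := .node (.node (.node (.node (.node (.node (.leaf 8353)
 (.leaf 9113))
 (.node (.leaf 9095)
 (.leaf 5507)))
 (.node (.node (.leaf 4287)
 (.leaf 9270))
 (.node (.leaf 5043)
 (.leaf 9448))))
 (.node (.node (.node (.leaf 10048)
 (.leaf 8751))
 (.node (.leaf 4322)
 (.leaf 4844)))
 (.node (.node (.leaf 10052)
 (.leaf 10331))
 (.node (.leaf 5165)
 (.leaf 10444)))))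
 (.node (.node (.node (.node (.leaf 10469)
 (.leaf 8509))
 (.node (.leaf 9835)
 (.leaf 5191)))
 (.node (.node (.leaf 5259)
 (.leaf 4655))
 (.node (.leaf 4862)
 (.leaf 9982))))
 (.node (.node (.node (.leaf 4789)
 (.leaf 9988))
 (.node (.leaf 4129)
 (.leaf 4522)))
 (.node (.node (.leaf 5470)
 (.leaf 4697))
 (.node (.leaf 10376)
 (.leaf 5728))))))
 (.node (.node (.node (.node (.node (.leaf 4463)
 (.leaf 5416))
 (.node (.leaf 9453)
 (.leaf 9652)))
 (.node (.node (.leaf 9942)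
 (.leaf 5485))
 (.node (.leaf 5420)
 (.leaf 8258))))
 (.node (.node (.node (.leaf 9195)
 (.leaf 4362))
 (.node (.leaf 5710)
 (.leaf 9093)))
 (.node (.node (.leaf 9523)
 (.leaf 8294))
 (.node (.leaf 5044)
 (.leaf 8868)))))
 (.node (.node (.node (.node (.leaf 9383)
 (.leaf 8909))
 (.node (.leaf 8648)
 (.leaf 8883)))
 (.node (.node (.leaf 9016)
 (.leaf 4353))
 (.node (.leaf 9776)
 (.leaf 5618))))
 (.node (.node (.node (.leaf 5561)
 (.leaf 4690))
 (.node (.leaf 4350)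
 (.leaf 5190)))
 (.node (.node (.leaf 9572)
 (.leaf 8664))
 (.node (.leaf 9416)
 (.leaf 4349))))))

def ruClOfB16 : RT := .node (.node (.node (.node (.node (.node (.leaf 5400)
 (.leaf 8493))
 (.node (.leaf 5160)
 (.leaf 9912)))
 (.node (.node (.leaf 8253)
 (.leaf 5216))
 (.node (.leaf 5610)
 (.leaf 10294))))
 (.node (.node (.node (.leaf 5655)
 (.leaf 5001))
 (.node (.leaf 5730)
 (.leaf 4264)))
 (.node (.node (.leaf 5310)
 (.leaf 5757))
 (.node (.leaf 8358)
 (.leaf 4770)))))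
 (.node (.node (.node (.node (.leaf 4908)
 (.leaf 5132))
 (.node (.leaf 5711)
 (.leaf 5503)))
 (.node (.node (.leaf 8705)
 (.leaf 9172))
 (.node (.leaf 5776)
 (.leaf 9429))))
 (.node (.node (.node (.leaf 5631)
 (.leaf 4233))
 (.node (.leaf 9478)
 (.leaf 5486)))
 (.node (.node (.leaf 9802)
 (.leaf 5814))
 (.node (.leaf 5419)
 (.leaf 5034))))))
 (.node (.node (.node (.node (.node (.leaf 10196)
 (.leaf 8961))
 (.node (.leaf 9703)
 (.leaf 8933)))
 (.node (.node (.leaf 9449)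
 (.leaf 4919))
 (.node (.leaf 8552)
 (.leaf 4713))))
 (.node (.node (.node (.leaf 8950)
 (.leaf 9319))
 (.node (.leaf 8647)
 (.leaf 4810)))
 (.node (.node (.leaf 5575)
 (.leaf 4916))
 (.node (.leaf 4739)
 (.leaf 5029)))))
 (.node (.node (.node (.node (.leaf 5102)
 (.leaf 4400))
 (.node (.leaf 10097)
 (.leaf 8385)))
 (.node (.node (.leaf 5123)
 (.leaf 8699))
 (.node (.leaf 5169)
 (.leaf 8952))))
 (.node (.node (.node (.leaf 9220)
 (.leaf 8488))
 (.node (.leaf 4616)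
 (.leaf 5686)))
 (.node (.node (.leaf 5016)
 (.leaf 9797))
 (.node (.leaf 8817)
 (.leaf 5133))))))

def ruClOfB17 : RT := .node (.node (.node (.node (.node (.node (.leaf 9852)
 (.leaf 8357))
 (.node (.leaf 10224)
 (.leaf 8639)))
 (.node (.node (.leaf 5116)
 (.leaf 10019))
 (.node (.leaf 4548)
 (.leaf 4295))))
 (.node (.node (.node (.leaf 4723)
 (.leaf 4318))
 (.node (.leaf 8782)
 (.leaf 10265)))
 (.node (.node (.leaf 9035)
 (.leaf 4631))
 (.node (.leaf 4606)
 (.leaf 4461)))))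
 (.node (.node (.node (.node (.leaf 5505)
 (.leaf 9136))
 (.node (.leaf 10172)
 (.leaf 5672)))
 (.node (.node (.leaf 4610)
 (.leaf 4632))
 (.node (.leaf 9500)
 (.leaf 8463))))
 (.node (.node (.node (.leaf 9390)
 (.leaf 5648))
 (.node (.leaf 5148)
 (.leaf 4130)))
 (.node (.node (.leaf 4226)
 (.leaf 4706))
 (.node (.leaf 8560)
 (.leaf 10216))))))
 (.node (.node (.node (.node (.node (.leaf 8898)
 (.leaf 5003))
 (.node (.leaf 9536)
 (.leaf 4316)))
 (.node (.node (.leaf 4850)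
 (.leaf 10237))
 (.node (.leaf 9952)
 (.leaf 8645))))
 (.node (.node (.node (.leaf 4603)
 (.leaf 8773))
 (.node (.leaf 4927)
 (.leaf 5352)))
 (.node (.node (.leaf 9664)
 (.leaf 5205))
 (.node (.leaf 8506)
 (.leaf 9147)))))
 (.node (.node (.node (.node (.leaf 8476)
 (.leaf 10291))
 (.node (.leaf 4531)
 (.leaf 9298)))
 (.node (.node (.leaf 10295)
 (.leaf 4846))
 (.node (.leaf 4934)
 (.leaf 9323))))
 (.node (.node (.node (.leaf 5534)
 (.leaf 8220))
 (.node (.leaf 8205)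
 (.leaf 10347)))
 (.node (.node (.leaf 9826)
 (.leaf 4167))
 (.node (.leaf 10436)
 (.leaf 5289))))))

def ruClOfB18 : RT := .node (.node (.node (.node (.node (.node (.leaf 9670)
 (.leaf 4137))
 (.node (.leaf 10301)
 (.leaf 9038)))
 (.node (.node (.leaf 5597)
 (.leaf 9352))
 (.node (.leaf 4724)
 (.leaf 9735))))
 (.node (.node (.node (.leaf 5498)
 (.leaf 9000))
 (.node (.leaf 8726)
 (.leaf 5072)))
 (.node (.node (.leaf 5142)
 (.leaf 8922))
 (.node (.leaf 4775)
 (.leaf 9285)))))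
 (.node (.node (.node (.node (.leaf 4281)
 (.leaf 8224))
 (.node (.leaf 5122)
 (.leaf 10446)))
 (.node (.node (.leaf 5369)
 (.leaf 4885))
 (.node (.leaf 10121)
 (.leaf 4600))))
 (.node (.node (.node (.leaf 5702)
 (.leaf 8715))
 (.node (.leaf 4186)
 (.leaf 5384)))
 (.node (.node (.leaf 4460)
 (.leaf 8921))
 (.node (.leaf 9710)
 (.leaf 10040))))))
 (.node (.node (.node (.node (.node (.leaf 9189)
 (.leaf 8303))
 (.node (.leaf 4891)
 (.leaf 5839)))
 (.node (.node (.leaf 8422)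
 (.leaf 8244))
 (.node (.leaf 4714)
 (.leaf 9803))))
 (.node (.node (.node (.leaf 4269)
 (.leaf 9097))
 (.node (.leaf 8899)
 (.leaf 4852)))
 (.node (.node (.leaf 4865)
 (.leaf 4164))
 (.node (.leaf 5157)
 (.leaf 5770)))))
 (.node (.node (.node (.node (.leaf 5823)
 (.leaf 5510))
 (.node (.leaf 4773)
 (.leaf 8464)))
 (.node (.node (.leaf 9608)
 (.leaf 10202))
 (.node (.leaf 4319)
 (.leaf 8611))))
 (.node (.node (.node (.leaf 5182)
 (.leaf 9395))
 (.node (.leaf 9300)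
 (.leaf 10191)))
 (.node (.node (.leaf 8962)
 (.leaf 5291))
 (.node (.leaf 8976)
 (.leaf 5124))))))

def ruClOfB19 : RT := .node (.node (.node (.node (.node (.node (.leaf 5783)
 (.leaf 9068))
 (.node (.leaf 9142)
 (.leaf 4992)))
 (.node (.node (.leaf 9371)
 (.leaf 8779))
 (.node (.leaf 8387)
 (.leaf 5267))))
 (.node (.node (.node (.leaf 9689)
 (.leaf 5211))
 (.node (.leaf 4768)
 (.leaf 9932)))
 (.node (.node (.leaf 5360)
 (.leaf 8529))
 (.node (.leaf 8208)
 (.leaf 8787)))))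
 (.node (.node (.node (.node (.leaf 5422)
 (.leaf 5428))
 (.node (.leaf 8870)
 (.leaf 9506)))
 (.node (.node (.leaf 9166)
 (.leaf 8831))
 (.node (.leaf 9947)
 (.leaf 4283))))
 (.node (.node (.node (.leaf 5578)
 (.leaf 8249))
 (.node (.leaf 8946)
 (.leaf 5234)))
 (.node (.node (.leaf 8233)
 (.leaf 10141))
 (.node (.leaf 8501)
 (.leaf 8733))))))
 (.node (.node (.node (.node (.node (.leaf 9584)
 (.leaf 4892))
 (.node (.leaf 8312)
 (.leaf 9173)))
 (.node (.node (.leaf 5771)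
 (.leaf 9591))
 (.node (.leaf 8624)
 (.leaf 10142))))
 (.node (.node (.node (.leaf 8937)
 (.leaf 5139))
 (.node (.leaf 9678)
 (.leaf 5819)))
 (.node (.node (.leaf 4979)
 (.leaf 9325))
 (.node (.leaf 9786)
 (.leaf 5721)))))
 (.node (.node (.node (.node (.leaf 5077)
 (.leaf 9923))
 (.node (.leaf 8638)
 (.leaf 8901)))
 (.node (.node (.leaf 10129)
 (.leaf 4897))
 (.node (.leaf 9809)
 (.leaf 9615))))
 (.node (.node (.node (.leaf 10253)
 (.leaf 8776))
 (.node (.leaf 9443)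
 (.leaf 8884)))
 (.node (.node (.leaf 9213)
 (.leaf 9340))
 (.node (.leaf 8475)
 (.leaf 9085))))))

def ruClOfB20 : RT := .node (.node (.node (.node (.node (.node (.leaf 9512)
 (.leaf 9793))
 (.node (.leaf 10302)
 (.leaf 5083)))
 (.node (.node (.leaf 4576)
 (.leaf 8838))
 (.node (.leaf 8668)
 (.leaf 9775))))
 (.node (.node (.node (.leaf 5323)
 (.leaf 9719))
 (.node (.leaf 9157)
 (.leaf 9745)))
 (.node (.node (.leaf 9002)
 (.leaf 10362))
 (.node (.leaf 8992)
 (.leaf 5275)))))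
 (.node (.node (.node (.node (.leaf 9887)
 (.leaf 9187))
 (.node (.leaf 4784)
 (.leaf 4675)))
 (.node (.node (.leaf 4153)
 (.leaf 9053))
 (.node (.leaf 9275)
 (.leaf 4425))))
 (.node (.node (.node (.leaf 4962)
 (.leaf 10385))
 (.node (.leaf 9396)
 (.leaf 9355)))
 (.node (.node (.leaf 9714)
 (.leaf 9209))
 (.node (.leaf 5592)
 (.leaf 4805))))))
 (.node (.node (.node (.node (.node (.leaf 4450)
 (.leaf 8663))
 (.node (.leaf 9116)
 (.leaf 5571)))
 (.node (.node (.leaf 9054)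
 (.leaf 4297))
 (.node (.leaf 4692)
 (.leaf 5775))))
 (.node (.node (.node (.leaf 10374)
 (.leaf 9377))
 (.node (.leaf 4257)
 (.leaf 9367)))
 (.node (.node (.leaf 4701)
 (.leaf 10020))
 (.node (.leaf 8727)
 (.leaf 9279)))))
 (.node (.node (.node (.node (.leaf 4976)
 (.leaf 8932))
 (.node (.leaf 5035)
 (.leaf 4180)))
 (.node (.node (.leaf 5104)
 (.leaf 10134))
 (.node (.leaf 4726)
 (.leaf 9737))))
 (.node (.node (.node (.leaf 9815)
 (.leaf 9616))
 (.node (.leaf 4202)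
 (.leaf 4294)))
 (.node (.node (.leaf 4274)
 (.leaf 4166))
 (.node (.leaf 5212)
 (.leaf 9366))))))

def ruClOfB21 : RT := .node (.node (.node (.node (.node (.node (.leaf 5264)
 (.leaf 9199))
 (.node (.leaf 5011)
 (.leaf 4214)))
 (.node (.node (.leaf 9161)
 (.leaf 8650))
 (.node (.leaf 4124)
 (.leaf 8734))))
 (.node (.node (.node (.leaf 9631)
 (.leaf 9389))
 (.node (.leaf 9229)
 (.leaf 8378)))
 (.node (.node (.leaf 10485)
 (.leaf 4331))
 (.node (.leaf 4149)
 (.leaf 9732)))))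
 (.node (.node (.node (.node (.leaf 8375)
 (.leaf 4123))
 (.node (.leaf 5544)
 (.leaf 9419)))
 (.node (.node (.leaf 9188)
 (.leaf 10412))
 (.node (.leaf 4822)
 (.leaf 8996))))
 (.node (.node (.node (.leaf 4955)
 (.leaf 4493))
 (.node (.leaf 4192)
 (.leaf 9520)))
 (.node (.node (.leaf 8333)
 (.leaf 8391))
 (.node (.leaf 5647)
 (.leaf 4323))))))
 (.node (.node (.node (.node (.node (.leaf 5359)
 (.leaf 9268))
 (.node (.leaf 5390)
 (.leaf 8484)))
 (.node (.node (.leaf 8875)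
 (.leaf 5817))
 (.node (.leaf 4161)
 (.leaf 8604))))
 (.node (.node (.node (.leaf 9968)
 (.leaf 4440))
 (.node (.leaf 10338)
 (.leaf 4618)))
 (.node (.node (.leaf 4980)
 (.leaf 9129))
 (.node (.leaf 9309)
 (.leaf 4199)))))
 (.node (.node (.node (.node (.leaf 9748)
 (.leaf 9204))
 (.node (.leaf 4740)
 (.leaf 9893)))
 (.node (.node (.leaf 8486)
 (.leaf 5797))
 (.node (.leaf 5292)
 (.leaf 4414))))
 (.node (.node (.node (.leaf 8977)
 (.leaf 9565))
 (.node (.leaf 9041)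
 (.leaf 9935)))
 (.node (.node (.leaf 10014)
 (.leaf 5499))
 (.node (.leaf 8243)
 (.leaf 9473))))))

def ruClOfB22 : RT := .node (.node (.node (.node (.node (.node (.leaf 4823)
 (.leaf 10115))
 (.node (.leaf 8865)
 (.leaf 9265)))
 (.node (.node (.leaf 4178)
 (.leaf 8288))
 (.node (.leaf 8832)
 (.leaf 5481))))
 (.node (.node (.node (.leaf 8754)
 (.leaf 4306))
 (.node (.leaf 4399)
 (.leaf 9622)))
 (.node (.node (.leaf 8738)
 (.leaf 8693))
 (.node (.leaf 5607)
 (.leaf 8212)))))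
 (.node (.node (.node (.node (.leaf 10490)
 (.leaf 5589))
 (.node (.leaf 9284)
 (.leaf 8544)))
 (.node (.node (.leaf 9315)
 (.leaf 5580))
 (.node (.leaf 5237)
 (.leaf 4798))))
 (.node (.node (.node (.leaf 8808)
 (.leaf 8594))
 (.node (.leaf 9194)
 (.leaf 8766)))
 (.node (.node (.leaf 4464)
 (.leaf 8636))
 (.node (.leaf 4427)
 (.leaf 9420))))))
 (.node (.node (.node (.node (.node (.leaf 10107)
 (.leaf 8621))
 (.node (.leaf 9618)
 (.leaf 10390)))
 (.node (.node (.leaf 8347)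
 (.leaf 9642))
 (.node (.leaf 8890)
 (.leaf 8908))))
 (.node (.node (.node (.leaf 4738)
 (.leaf 4321))
 (.node (.leaf 9970)
 (.leaf 10203)))
 (.node (.node (.leaf 8575)
 (.leaf 4996))
 (.node (.leaf 9012)
 (.leaf 8260)))))
 (.node (.node (.node (.node (.leaf 8409)
 (.leaf 8397))
 (.node (.leaf 5816)
 (.leaf 9406)))
 (.node (.node (.leaf 10483)
 (.leaf 5423))
 (.node (.leaf 5161)
 (.leaf 4863))))
 (.node (.node (.node (.leaf 4150)
 (.leaf 9494))
 (.node (.leaf 5794)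
 (.leaf 8295)))
 (.node (.node (.leaf 9549)
 (.leaf 4225))
 (.node (.leaf 9108)
 (.leaf 9237))))))

def ruClOfB23 : RT := .node (.node (.node (.node (.node (.node (.leaf 8446)
 (.leaf 8662))
 (.node (.leaf 8655)
 (.leaf 5491)))
 (.node (.node (.leaf 4484)
 (.leaf 8359))
 (.node (.leaf 5020)
 (.leaf 9235))))
 (.node (.node (.node (.leaf 8951)
 (.leaf 9727))
 (.node (.leaf 5462)
 (.leaf 8622)))
 (.node (.node (.leaf 4227)
 (.leaf 10399))
 (.node (.leaf 9382)
 (.leaf 4667)))))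
 (.node (.node (.node (.node (.leaf 4125)
 (.leaf 4534))
 (.node (.leaf 8806)
 (.leaf 4509)))
 (.node (.node (.leaf 9914)
 (.leaf 8864))
 (.node (.leaf 8686)
 (.leaf 4415))))
 (.node (.node (.node (.leaf 9695)
 (.leaf 8620))
 (.node (.leaf 5272)
 (.leaf 10099)))
 (.node (.node (.leaf 10489)
 (.leaf 9042))
 (.node (.leaf 9159)
 (.leaf 4205))))))
 (.node (.node (.node (.node (.node (.leaf 8939)
 (.leaf 4117))
 (.node (.leaf 9772)
 (.leaf 5777)))
 (.node (.node (.leaf 9263)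
 (.leaf 10118))
 (.node (.leaf 4614)
 (.leaf 9385))))
 (.node (.node (.node (.leaf 8879)
 (.leaf 8997))
 (.node (.leaf 8322)
 (.leaf 9580)))
 (.node (.node (.leaf 10173)
 (.leaf 8588))
 (.node (.leaf 8730)
 (.leaf 4623)))))
 (.node (.node (.node (.node (.leaf 9871)
 (.leaf 10353))
 (.node (.leaf 9806)
 (.leaf 9280)))
 (.node (.node (.leaf 5288)
 (.leaf 8275))
 (.node (.leaf 5244)
 (.leaf 4932))))
 (.node (.node (.node (.leaf 9934)
 (.leaf 9424))
 (.node (.leaf 5508)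
 (.leaf 8537)))
 (.node (.node (.leaf 4308)
 (.leaf 5572))
 (.node (.leaf 9278)
 (.leaf 9973))))))

def ruClOfB24 : RT := .node (.node (.node (.node (.node (.node (.leaf 4704)
 (.leaf 8610))
 (.node (.leaf 8352)
 (.leaf 4447)))
 (.node (.node (.leaf 4105)
 (.leaf 5623))
 (.node (.leaf 4896)
 (.leaf 4256))))
 (.node (.node (.node (.leaf 5151)
 (.leaf 9293))
 (.node (.leaf 5747)
 (.leaf 5076)))
 (.node (.node (.leaf 8665)
 (.leaf 10028))
 (.node (.leaf 8915)
 (.leaf 9027)))))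
 (.node (.node (.node (.node (.leaf 4235)
 (.leaf 8327))
 (.node (.leaf 9428)
 (.leaf 5593)))
 (.node (.node (.leaf 4607)
 (.leaf 9011))
 (.node (.leaf 9261)
 (.leaf 9845))))
 (.node (.node (.node (.leaf 8566)
 (.leaf 9539))
 (.node (.leaf 5628)
 (.leaf 4339)))
 (.node (.node (.leaf 5741)
 (.leaf 10260))
 (.node (.leaf 10128)
 (.leaf 5167))))))
 (.node (.node (.node (.node (.node (.leaf 10352)
 (.leaf 4656))
 (.node (.leaf 10235)
 (.leaf 5118)))
 (.node (.node (.leaf 9023)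
 (.leaf 10207))
 (.node (.leaf 9860)
 (.leaf 8480))))
 (.node (.node (.node (.leaf 8276)
 (.leaf 8416))
 (.node (.leaf 8627)
 (.leaf 4523)))
 (.node (.node (.leaf 4778)
 (.leaf 5836))
 (.node (.leaf 8435)
 (.leaf 8471)))))
 (.node (.node (.node (.node (.leaf 10257)
 (.leaf 9289))
 (.node (.leaf 8777)
 (.leaf 8953)))
 (.node (.node (.leaf 5103)
 (.leaf 9671))
 (.node (.leaf 9909)
 (.leaf 9898))))
 (.node (.node (.node (.leaf 4745)
 (.leaf 10419))
 (.node (.leaf 9899)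
 (.leaf 8595)))
 (.node (.node (.leaf 10283)
 (.leaf 4326))
 (.node (.leaf 4198)
 (.leaf 9118))))))

def ruClOfB25 : RT := .node (.node (.node (.node (.node (.node (.leaf 5616)
 (.leaf 8911))
 (.node (.leaf 4763)
 (.leaf 9891)))
 (.node (.node (.leaf 5646)
 (.leaf 4547))
 (.node (.leaf 10330)
 (.leaf 10070))))
 (.node (.node (.node (.leaf 4100)
 (.leaf 4524))
 (.node (.leaf 5114)
 (.leaf 8981)))
 (.node (.node (.leaf 4539)
 (.leaf 8222))
 (.node (.leaf 8602)
 (.leaf 8334)))))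
 (.node (.node (.node (.node (.leaf 5367)
 (.leaf 9738))
 (.node (.leaf 9507)
 (.leaf 9785)))
 (.node (.node (.leaf 9060)
 (.leaf 9364))
 (.node (.leaf 4419)
 (.leaf 5570))))
 (.node (.node (.node (.leaf 5037)
 (.leaf 4937))
 (.node (.leaf 4412)
 (.leaf 9716)))
 (.node (.node (.leaf 9083)
 (.leaf 9477))
 (.node (.leaf 5579)
 (.leaf 8330))))))
 (.node (.node (.node (.node (.node (.leaf 5280)
 (.leaf 4106))
 (.node (.leaf 4677)
 (.leaf 5263)))
 (.node (.node (.leaf 5705)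
 (.leaf 4785))
 (.node (.leaf 9761)
 (.leaf 4141))))
 (.node (.node (.node (.leaf 9965)
 (.leaf 4330))
 (.node (.leaf 4870)
 (.leaf 9003)))
 (.node (.node (.leaf 4636)
 (.leaf 8758))
 (.node (.leaf 4661)
 (.leaf 5138)))))
 (.node (.node (.node (.node (.leaf 4266)
 (.leaf 9529))
 (.node (.leaf 9365)
 (.leaf 9394)))
 (.node (.node (.leaf 10289)
 (.leaf 8491))
 (.node (.leaf 4385)
 (.leaf 10031))))
 (.node (.node (.node (.leaf 5688)
 (.leaf 8745))
 (.node (.leaf 5471)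
 (.leaf 4218)))
 (.node (.node (.leaf 5249)
 (.leaf 10380))
 (.node (.leaf 8807)
 (.leaf 10132))))))

def ruClOfB26 : RT := .node (.node (.node (.node (.node (.node (.leaf 10217)
 (.leaf 8866))
 (.node (.leaf 5417)
 (.leaf 9123)))
 (.node (.node (.leaf 9849)
 (.leaf 9230))
 (.node (.leaf 8989)
 (.leaf 8755))))
 (.node (.node (.node (.leaf 8454)
 (.leaf 9374))
 (.node (.leaf 10226)
 (.leaf 8319)))
 (.node (.node (.leaf 10017)
 (.leaf 5125))
 (.node (.leaf 9736)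
 (.leaf 8254)))))
 (.node (.node (.node (.node (.leaf 8348)
 (.leaf 9918))
 (.node (.leaf 10458)
 (.leaf 9363)))
 (.node (.node (.leaf 9084)
 (.leaf 8889))
 (.node (.leaf 4305)
 (.leaf 9219))))
 (.node (.node (.node (.leaf 9807)
 (.leaf 9933))
 (.node (.leaf 4189)
 (.leaf 10442)))
 (.node (.node (.leaf 9178)
 (.leaf 4491))
 (.node (.leaf 4742)
 (.leaf 9545))))))
 (.node (.node (.node (.node (.node (.leaf 10064)
 (.leaf 4597))
 (.node (.leaf 5613)
 (.leaf 5410)))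
 (.node (.node (.leaf 10372)
 (.leaf 5302))
 (.node (.leaf 4406)
 (.leaf 8301))))
 (.node (.node (.node (.leaf 4635)
 (.leaf 8356))
 (.node (.leaf 8811)
 (.leaf 9633)))
 (.node (.node (.leaf 4418)
 (.leaf 4152))
 (.node (.leaf 5222)
 (.leaf 5112)))))
 (.node (.node (.node (.node (.leaf 5220)
 (.leaf 9052))
 (.node (.leaf 4744)
 (.leaf 10189)))
 (.node (.node (.leaf 4936)
 (.leaf 10104))
 (.node (.leaf 4307)
 (.leaf 8676))))
 (.node (.node (.node (.leaf 9635)
 (.leaf 8556))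
 (.node (.leaf 9072)
 (.leaf 8284)))
 (.node (.node (.leaf 9472)
 (.leaf 10317))
 (.node (.leaf 9931)
 (.leaf 4645))))))

def ruClOfB27 : RT := .node (.node (.node (.node (.node (.node (.leaf 8377)
 (.leaf 10423))
 (.node (.leaf 4669)
 (.leaf 9756)))
 (.node (.node (.leaf 9774)
 (.leaf 5404))
 (.node (.leaf 5801)
 (.leaf 9087))))
 (.node (.node (.node (.leaf 9659)
 (.leaf 4712))
 (.node (.leaf 10418)
 (.leaf 8799)))
 (.node (.node (.leaf 10322)
 (.leaf 9436))
 (.node (.leaf 9269)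
 (.leaf 8934)))))
 (.node (.node (.node (.node (.leaf 8565)
 (.leaf 9538))
 (.node (.leaf 4310)
 (.leaf 9728)))
 (.node (.node (.leaf 5837)
 (.leaf 8559))
 (.node (.leaf 10204)
 (.leaf 5609))))
 (.node (.node (.node (.leaf 9143)
 (.leaf 4494))
 (.node (.leaf 4929)
 (.leaf 5604)))
 (.node (.node (.leaf 10329)
 (.leaf 8701))
 (.node (.leaf 8927)
 (.leaf 4749))))))
 (.node (.node (.node (.node (.node (.leaf 5671)
 (.leaf 8307))
 (.node (.leaf 8283)
 (.leaf 10428)))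
 (.node (.node (.leaf 10287)
 (.leaf 10012))
 (.node (.leaf 9168)
 (.leaf 8994))))
 (.node (.node (.node (.leaf 4135)
 (.leaf 5239))
 (.node (.leaf 4563)
 (.leaf 8413)))
 (.node (.node (.leaf 4108)
 (.leaf 10066))
 (.node (.leaf 4155)
 (.leaf 8839)))))
 (.node (.node (.node (.node (.leaf 8455)
 (.leaf 9613))
 (.node (.leaf 10051)
 (.leaf 8398)))
 (.node (.node (.leaf 8299)
 (.leaf 5108))
 (.node (.leaf 5769)
 (.leaf 8336))))
 (.node (.node (.node (.leaf 5265)
 (.leaf 5682))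
 (.node (.leaf 8798)
 (.leaf 5596)))
 (.node (.node (.leaf 8642)
 (.leaf 9542))
 (.node (.leaf 4301)
 (.leaf 4474))))))

def ruClOfB28 : RT := .node (.node (.node (.node (.node (.node (.leaf 5451)
 (.leaf 4627))
 (.node (.leaf 9877)
 (.leaf 9076)))
 (.node (.node (.leaf 9886)
 (.leaf 9648))
 (.node (.leaf 10461)
 (.leaf 9356))))
 (.node (.node (.node (.leaf 9614)
 (.leaf 4526))
 (.node (.leaf 8781)
 (.leaf 5248)))
 (.node (.node (.leaf 10198)
 (.leaf 10114))
 (.node (.leaf 4673)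
 (.leaf 9387)))))
 (.node (.node (.node (.node (.leaf 9839)
 (.leaf 9661))
 (.node (.leaf 4877)
 (.leaf 9192)))
 (.node (.node (.leaf 9831)
 (.leaf 8531))
 (.node (.leaf 8227)
 (.leaf 8292))))
 (.node (.node (.node (.leaf 5537)
 (.leaf 9559))
 (.node (.leaf 4734)
 (.leaf 8538)))
 (.node (.node (.leaf 8458)
 (.leaf 10022))
 (.node (.leaf 4930)
 (.leaf 5284))))))
 (.node (.node (.node (.node (.node (.leaf 9418)
 (.leaf 5759))
 (.node (.leaf 5010)
 (.leaf 9643)))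
 (.node (.node (.leaf 9247)
 (.leaf 8363))
 (.node (.leaf 4451)
 (.leaf 9181))))
 (.node (.node (.node (.leaf 4503)
 (.leaf 4832))
 (.node (.leaf 4808)
 (.leaf 9555)))
 (.node (.node (.leaf 4558)
 (.leaf 8929))
 (.node (.leaf 10194)
 (.leaf 5538)))))
 (.node (.node (.node (.node (.leaf 9007)
 (.leaf 8849))
 (.node (.leaf 9347)
 (.leaf 5667)))
 (.node (.node (.leaf 4898)
 (.leaf 9312))
 (.node (.leaf 10277)
 (.leaf 10186))))
 (.node (.node (.node (.leaf 9262)
 (.leaf 9817))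
 (.node (.leaf 9882)
 (.leaf 5441)))
 (.node (.node (.leaf 5560)
 (.leaf 5170))
 (.node (.leaf 9691)
 (.leaf 8585))))))

def ruClOfB29 : RT := .node (.node (.node (.node (.node (.node (.leaf 9873)
 (.leaf 9981))
 (.node (.leaf 5282)
 (.leaf 8412)))
 (.node (.node (.leaf 9629)
 (.leaf 4997))
 (.node (.leaf 5228)
 (.leaf 4965))))
 (.node (.node (.node (.leaf 10213)
 (.leaf 5159))
 (.node (.leaf 4743)
 (.leaf 8757)))
 (.node (.node (.leaf 8439)
 (.leaf 9685))
 (.node (.leaf 5322)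
 (.leaf 9850)))))
 (.node (.node (.node (.node (.leaf 4184)
 (.leaf 5415))
 (.node (.leaf 9541)
 (.leaf 5530)))
 (.node (.node (.leaf 5424)
 (.leaf 4203))
 (.node (.leaf 8615)
 (.leaf 9598))))
 (.node (.node (.node (.leaf 8513)
 (.leaf 4995))
 (.node (.leaf 5300)
 (.leaf 10009)))
 (.node (.node (.leaf 8683)
 (.leaf 8487))
 (.node (.leaf 8369)
 (.leaf 9028))))))
 (.node (.node (.node (.node (.node (.leaf 5091)
 (.leaf 10466))
 (.node (.leaf 9864)
 (.leaf 4454)))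
 (.node (.node (.leaf 9127)
 (.leaf 10481))
 (.node (.leaf 9444)
 (.leaf 8677))))
 (.node (.node (.node (.leaf 10473)
 (.leaf 5177))
 (.node (.leaf 8971)
 (.leaf 8816)))
 (.node (.node (.leaf 4904)
 (.leaf 9122))
 (.node (.leaf 9870)
 (.leaf 9945)))))
 (.node (.node (.node (.node (.leaf 9457)
 (.leaf 9316))
 (.node (.leaf 5557)
 (.leaf 9036)))
 (.node (.node (.leaf 4722)
 (.leaf 4928))
 (.node (.leaf 8793)
 (.leaf 9660))))
 (.node (.node (.node (.leaf 5336)
 (.leaf 9125))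
 (.node (.leaf 8878)
 (.leaf 8293)))
 (.node (.node (.leaf 10089)
 (.leaf 9583))
 (.node (.leaf 9152)
 (.leaf 4455))))))

def ruClOfB30 : RT := .node (.node (.node (.node (.node (.node (.leaf 10225)
 (.leaf 9475))
 (.node (.leaf 5583)
 (.leaf 8280)))
 (.node (.node (.leaf 9917)
 (.leaf 9725))
 (.node (.leaf 9767)
 (.leaf 4559))))
 (.node (.node (.node (.leaf 10080)
 (.leaf 9471))
 (.node (.leaf 9089)
 (.leaf 4799)))
 (.node (.node (.leaf 10082)
 (.leaf 9994))
 (.node (.leaf 9997)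
 (.leaf 5391)))))
 (.node (.node (.node (.node (.leaf 8972)
 (.leaf 4582))
 (.node (.leaf 10143)
 (.leaf 9044)))
 (.node (.node (.leaf 9946)
 (.leaf 5709))
 (.node (.leaf 8684)
 (.leaf 8856))))
 (.node (.node (.node (.leaf 9218)
 (.leaf 5479))
 (.node (.leaf 9332)
 (.leaf 10365)))
 (.node (.node (.leaf 4909)
 (.leaf 4933))
 (.node (.leaf 9527)
 (.leaf 10300))))))
 (.node (.node (.node (.node (.node (.leaf 4511)
 (.leaf 5370))
 (.node (.leaf 4535)
 (.leaf 9690)))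
 (.node (.node (.leaf 9299)
 (.leaf 8407))
 (.node (.leaf 8706)
 (.leaf 9179))))
 (.node (.node (.node (.leaf 4121)
 (.leaf 8229))
 (.node (.leaf 9482)
 (.leaf 9562)))
 (.node (.node (.leaf 9626)
 (.leaf 9814))
 (.node (.leaf 4880)
 (.leaf 9758)))))
 (.node (.node (.node (.node (.leaf 8524)
 (.leaf 9333))
 (.node (.leaf 9749)
 (.leaf 5694)))
 (.node (.node (.leaf 5392)
 (.leaf 8372))
 (.node (.leaf 4754)
 (.leaf 10046))))
 (.node (.node (.node (.leaf 8687)
 (.leaf 5033))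
 (.node (.leaf 8728)
 (.leaf 9296)))
 (.node (.node (.leaf 10491)
 (.leaf 4926))
 (.node (.leaf 5501)
 (.leaf 5063))))))

def ruClOfB31 : RT := .node (.node (.node (.node (.node (.node (.leaf 8788)
 (.leaf 9462))
 (.node (.leaf 9904)
 (.leaf 5746)))
 (.node (.node (.leaf 4110)
 (.leaf 5841))
 (.node (.leaf 9846)
 (.leaf 8381))))
 (.node (.node (.node (.leaf 4687)
 (.leaf 9070))
 (.node (.leaf 10025)
 (.leaf 10032)))
 (.node (.node (.leaf 8563)
 (.leaf 10081))
 (.node (.leaf 9675)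
 (.leaf 10414)))))
 (.node (.node (.node (.node (.leaf 8467)
 (.leaf 9874))
 (.node (.leaf 4835)
 (.leaf 4215)))
 (.node (.node (.leaf 4314)
 (.leaf 4920))
 (.node (.leaf 9341)
 (.leaf 4788))))
 (.node (.node (.node (.leaf 9632)
 (.leaf 4900))
 (.node (.leaf 4593)
 (.leaf 8449)))
 (.node (.node (.leaf 4679)
 (.leaf 9033))
 (.node (.leaf 9226)
 (.leaf 5331))))))
 (.node (.node (.node (.node (.node (.leaf 8692)
 (.leaf 10242))
 (.node (.leaf 8550)
 (.leaf 9101)))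
 (.node (.node (.leaf 9413)
 (.leaf 4247))
 (.node (.leaf 8418)
 (.leaf 10158))))
 (.node (.node (.node (.leaf 5025)
 (.leaf 4851))
 (.node (.leaf 4200)
 (.leaf 10275)))
 (.node (.node (.leaf 8368)
 (.leaf 8371))
 (.node (.leaf 5030)
 (.leaf 4840)))))
 (.node (.node (.node (.node (.leaf 8948)
 (.leaf 9350))
 (.node (.leaf 10037)
 (.leaf 8744)))
 (.node (.node (.leaf 8803)
 (.leaf 8545))
 (.node (.leaf 5254)
 (.leaf 9859))))
 (.node (.node (.node (.leaf 10431)
 (.leaf 9013))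
 (.node (.leaf 4272)
 (.leaf 5355)))
 (.node (.node (.leaf 9702)
 (.leaf 5374))
 (.node (.leaf 8577)
 (.leaf 9073))))))

def ruClOfB32 : RT := .node (.node (.node (.node (.node (.node (.leaf 8576)
 (.leaf 8863))
 (.node (.leaf 9047)
 (.leaf 4240)))
 (.node (.node (.leaf 9130)
 (.leaf 9287))
 (.node (.leaf 5548)
 (.leaf 9004))))
 (.node (.node (.node (.leaf 9067)
 (.leaf 8308))
 (.node (.leaf 4685)
 (.leaf 5135)))
 (.node (.node (.leaf 5283)
 (.leaf 8804))
 (.node (.leaf 9006)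
 (.leaf 4386)))))
 (.node (.node (.node (.node (.leaf 8984)
 (.leaf 5750))
 (.node (.leaf 4265)
 (.leaf 10430)))
 (.node (.node (.leaf 10492)
 (.leaf 4890))
 (.node (.leaf 4432)
 (.leaf 8408))))
 (.node (.node (.node (.leaf 10165)
 (.leaf 8694))
 (.node (.leaf 8481)
 (.leaf 4540)))
 (.node (.node (.leaf 8589)
 (.leaf 4286))
 (.node (.leaf 9399)
 (.leaf 4174))))))
 (.node (.node (.node (.node (.node (.leaf 10421)
 (.leaf 8762))
 (.node (.leaf 8857)
 (.leaf 10296)))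
 (.node (.node (.leaf 5822)
 (.leaf 9590))
 (.node (.leaf 5057)
 (.leaf 5522))))
 (.node (.node (.node (.leaf 9357)
 (.leaf 5704))
 (.node (.leaf 4711)
 (.leaf 4786)))
 (.node (.node (.leaf 4886)
 (.leaf 10095))
 (.node (.leaf 9165)
 (.leaf 9301)))))
 (.node (.node (.node (.node (.leaf 10006)
 (.leaf 5436))
 (.node (.leaf 9271)
 (.leaf 5659)))
 (.node (.node (.leaf 4472)
 (.leaf 8644))
 (.node (.leaf 10215)
 (.leaf 5197))))
 (.node (.node (.node (.leaf 9223)
 (.leaf 10023))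
 (.node (.leaf 10437)
 (.leaf 5119)))
 (.node (.node (.leaf 8502)
 (.leaf 4791))
 (.node (.leaf 9760)
 (.leaf 9534))))))

def ruClOfB33 : RT := .node (.node (.node (.node (.node (.node (.leaf 10464)
 (.leaf 8215))
 (.node (.leaf 5253)
 (.leaf 8335)))
 (.node (.node (.leaf 8630)
 (.leaf 4465))
 (.node (.leaf 9272)
 (.leaf 4883))))
 (.node (.node (.node (.leaf 8707)
 (.leaf 9222))
 (.node (.leaf 9078)
 (.leaf 9421)))
 (.node (.node (.leaf 4873)
 (.leaf 5840))
 (.node (.leaf 5533)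
 (.leaf 9486)))))
 (.node (.node (.node (.node (.leaf 9234)
 (.leaf 10192))
 (.node (.leaf 8888)
 (.leaf 9468)))
 (.node (.node (.leaf 8944)
 (.leaf 4905))
 (.node (.leaf 10065)
 (.leaf 10151))))
 (.node (.node (.node (.leaf 8795)
 (.leaf 10167))
 (.node (.leaf 9724)
 (.leaf 9722)))
 (.node (.node (.leaf 10145)
 (.leaf 8969))
 (.node (.leaf 5464)
 (.leaf 8217))))))
 (.node (.node (.node (.node (.node (.leaf 8780)
 (.leaf 5181))
 (.node (.leaf 9752)
 (.leaf 9335)))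
 (.node (.node (.leaf 10413)
 (.leaf 9858))
 (.node (.leaf 8653)
 (.leaf 5126))))
 (.node (.node (.node (.leaf 10086)
 (.leaf 8468))
 (.node (.leaf 4431)
 (.leaf 9543)))
 (.node (.node (.leaf 10393)
 (.leaf 8196))
 (.node (.leaf 10068)
 (.leaf 8346)))))
 (.node (.node (.node (.node (.leaf 9560)
 (.leaf 8447))
 (.node (.leaf 4342)
 (.leaf 5156)))
 (.node (.node (.leaf 5271)
 (.leaf 5712))
 (.node (.leaf 9625)
 (.leaf 10354))))
 (.node (.node (.node (.leaf 4206)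
 (.leaf 9698))
 (.node (.leaf 10120)
 (.leaf 9654)))
 (.node (.node (.leaf 4420)
 (.leaf 8584))
 (.node (.leaf 5564)
 (.leaf 10328))))))

def ruClOfB34 : RT := .node (.node (.node (.node (.node (.node (.leaf 5731)
 (.leaf 9164))
 (.node (.leaf 9922)
 (.leaf 10398)))
 (.node (.node (.leaf 10035)
 (.leaf 4346))
 (.node (.leaf 5644)
 (.leaf 10211))))
 (.node (.node (.node (.leaf 9641)
 (.leaf 9342))
 (.node (.leaf 8606)
 (.leaf 9989)))
 (.node (.node (.leaf 4985)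
 (.leaf 9953))
 (.node (.leaf 8652)
 (.leaf 4910)))))
 (.node (.node (.node (.node (.leaf 9511)
 (.leaf 5085))
 (.node (.leaf 8623)
 (.leaf 5204)))
 (.node (.node (.leaf 5007)
 (.leaf 4277))
 (.node (.leaf 5765)
 (.leaf 4702))))
 (.node (.node (.node (.leaf 10007)
 (.leaf 9105))
 (.node (.leaf 5590)
 (.leaf 10000)))
 (.node (.node (.leaf 9426)
 (.leaf 5478))
 (.node (.leaf 5439)
 (.leaf 8725))))))
 (.node (.node (.node (.node (.node (.leaf 5084)
 (.leaf 9607))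
 (.node (.leaf 9589)
 (.leaf 8213)))
 (.node (.node (.leaf 5179)
 (.leaf 9045))
 (.node (.leaf 8263)
 (.leaf 8546))))
 (.node (.node (.node (.leaf 10258)
 (.leaf 9686))
 (.node (.leaf 5587)
 (.leaf 8772)))
 (.node (.node (.leaf 10231)
 (.leaf 8221))
 (.node (.leaf 10266)
 (.leaf 9603)))))
 (.node (.node (.node (.node (.leaf 4193)
 (.leaf 4691))
 (.node (.leaf 4553)
 (.leaf 9823)))
 (.node (.node (.leaf 9829)
 (.leaf 5330))
 (.node (.leaf 8987)
 (.leaf 9295))))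
 (.node (.node (.node (.leaf 9461)
 (.leaf 10131))
 (.node (.leaf 8670)
 (.leaf 9966)))
 (.node (.node (.leaf 5372)
 (.leaf 9855))
 (.node (.leaf 5785)
 (.leaf 5453))))))

def ruClOfB35 : RT := .node (.node (.node (.node (.node (.node (.leaf 8940)
 (.leaf 9215))
 (.node (.leaf 10487)
 (.leaf 4267)))
 (.node (.node (.leaf 5329)
 (.leaf 5829))
 (.node (.leaf 9124)
 (.leaf 5585))))
 (.node (.node (.node (.leaf 9454)
 (.leaf 9106))
 (.node (.leaf 9360)
 (.leaf 10049)))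
 (.node (.node (.leaf 8561)
 (.leaf 4289))
 (.node (.leaf 4803)
 (.leaf 9009)))))
 (.node (.node (.node (.node (.leaf 8489)
 (.leaf 10138))
 (.node (.leaf 9433)
 (.leaf 5603)))
 (.node (.node (.leaf 5781)
 (.leaf 5081))
 (.node (.leaf 9894)
 (.leaf 4403))))
 (.node (.node (.node (.leaf 4145)
 (.leaf 4772))
 (.node (.leaf 4954)
 (.leaf 4666)))
 (.node (.node (.leaf 5556)
 (.leaf 10254))
 (.node (.leaf 9253)
 (.leaf 10382))))))
 (.node (.node (.node (.node (.node (.leaf 9682)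
 (.leaf 5413))
 (.node (.leaf 5844)
 (.leaf 10312)))
 (.node (.node (.leaf 9546)
 (.leaf 9318))
 (.node (.leaf 5692)
 (.leaf 4856))))
 (.node (.node (.node (.leaf 9066)
 (.leaf 4652))
 (.node (.leaf 9620)
 (.leaf 4777)))
 (.node (.node (.leaf 4408)
 (.leaf 10463))
 (.node (.leaf 4682)
 (.leaf 4649)))))
 (.node (.node (.node (.node (.leaf 5559)
 (.leaf 9663))
 (.node (.leaf 8396)
 (.leaf 9240)))
 (.node (.node (.leaf 4599)
 (.leaf 9596))
 (.node (.leaf 4165)
 (.leaf 9228))))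
 (.node (.node (.node (.leaf 9492)
 (.leaf 9046))
 (.node (.leaf 8928)
 (.leaf 5068)))
 (.node (.node (.leaf 10088)
 (.leaf 9805))
 (.node (.leaf 8572)
 (.leaf 5476))))))

def ruClOfB36 : RT := .node (.node (.node (.node (.node (.node (.leaf 8848)
 (.leaf 5203))
 (.node (.leaf 5737)
 (.leaf 8587)))
 (.node (.node (.leaf 4252)
 (.leaf 9977))
 (.node (.leaf 5006)
 (.leaf 10200))))
 (.node (.node (.node (.leaf 5377)
 (.leaf 5602))
 (.node (.leaf 5660)
 (.leaf 9206)))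
 (.node (.node (.leaf 8415)
 (.leaf 8209))
 (.node (.leaf 4212)
 (.leaf 8654)))))
 (.node (.node (.node (.node (.leaf 8315)
 (.leaf 9599))
 (.node (.leaf 5407)
 (.leaf 9843)))
 (.node (.node (.leaf 4515)
 (.leaf 4498))
 (.node (.leaf 4347)
 (.leaf 10433))))
 (.node (.node (.node (.leaf 9438)
 (.leaf 4446))
 (.node (.leaf 8767)
 (.leaf 5782)))
 (.node (.node (.leaf 5640)
 (.leaf 5719))
 (.node (.leaf 4541)
 (.leaf 8361))))))
 (.node (.node (.node (.node (.node (.leaf 5591)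
 (.leaf 4320))
 (.node (.leaf 10370)
 (.leaf 4238)))
 (.node (.node (.leaf 8746)
 (.leaf 8599))
 (.node (.leaf 5827)
 (.leaf 5296))))
 (.node (.node (.node (.leaf 4201)
 (.leaf 5000))
 (.node (.leaf 9847)
 (.leaf 8826)))
 (.node (.node (.leaf 9063)
 (.leaf 9379))
 (.node (.leaf 4590)
 (.leaf 5199)))))
 (.node (.node (.node (.node (.leaf 4393)
 (.leaf 4818))
 (.node (.leaf 5569)
 (.leaf 4671)))
 (.node (.node (.leaf 4552)
 (.leaf 9338))
 (.node (.leaf 4663)
 (.leaf 10179))))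
 (.node (.node (.node (.leaf 10351)
 (.leaf 4375))
 (.node (.leaf 5528)
 (.leaf 9250)))
 (.node (.node (.leaf 5321)
 (.leaf 9611))
 (.node (.leaf 9733)
 (.leaf 10178))))))

def ruClOfB37 : RT := .node (.node (.node (.node (.node (.node (.leaf 4915)
 (.leaf 9711))
 (.node (.leaf 8605)
 (.leaf 4224)))
 (.node (.node (.leaf 5674)
 (.leaf 9034))
 (.node (.leaf 4814)
 (.leaf 8414))))
 (.node (.node (.node (.leaf 5743)
 (.leaf 5652))
 (.node (.leaf 9699)
 (.leaf 5842)))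
 (.node (.node (.leaf 10112)
 (.leaf 5290))
 (.node (.leaf 8437)
 (.leaf 9334)))))
 (.node (.node (.node (.node (.leaf 4374)
 (.leaf 8886))
 (.node (.leaf 8273)
 (.leaf 4190)))
 (.node (.node (.leaf 4221)
 (.leaf 5449))
 (.node (.leaf 9514)
 (.leaf 8345))))
 (.node (.node (.node (.leaf 4355)
 (.leaf 5002))
 (.node (.leaf 4944)
 (.leaf 5558)))
 (.node (.node (.leaf 4994)
 (.leaf 5333))
 (.node (.leaf 8305)
 (.leaf 9811))))))
 (.node (.node (.node (.node (.node (.leaf 9489)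
 (.leaf 10271))
 (.node (.leaf 4101)
 (.leaf 9401)))
 (.node (.node (.leaf 9881)
 (.leaf 8380))
 (.node (.leaf 9779)
 (.leaf 5550))))
 (.node (.node (.node (.leaf 5802)
 (.leaf 9669))
 (.node (.leaf 5707)
 (.leaf 8980)))
 (.node (.node (.leaf 9479)
 (.leaf 4947))
 (.node (.leaf 9801)
 (.leaf 8207)))))
 (.node (.node (.node (.node (.leaf 4159)
 (.leaf 4981))
 (.node (.leaf 5386)
 (.leaf 5358)))
 (.node (.node (.leaf 5343)
 (.leaf 10236))
 (.node (.leaf 4622)
 (.leaf 4960))))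
 (.node (.node (.node (.leaf 10058)
 (.leaf 4469))
 (.node (.leaf 5334)
 (.leaf 4311)))
 (.node (.node (.leaf 8916)
 (.leaf 4914))
 (.node (.leaf 10467)
 (.leaf 8905))))))

def ruClOfB38 : RT := .node (.node (.node (.node (.node (.node (.leaf 4112)
 (.leaf 9322))
 (.node (.leaf 9017)
 (.leaf 8533)))
 (.node (.node (.leaf 4782)
 (.leaf 4390))
 (.node (.leaf 5700)
 (.leaf 4918))))
 (.node (.node (.node (.leaf 4906)
 (.leaf 5058))
 (.node (.leaf 8925)
 (.leaf 10153)))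
 (.node (.node (.leaf 4571)
 (.leaf 8812))
 (.node (.leaf 4658)
 (.leaf 9834)))))
 (.node (.node (.node (.node (.leaf 4345)
 (.leaf 4585))
 (.node (.leaf 5219)
 (.leaf 9986)))
 (.node (.node (.leaf 5403)
 (.leaf 4757))
 (.node (.leaf 5405)
 (.leaf 4376))))
 (.node (.node (.node (.leaf 9140)
 (.leaf 5497))
 (.node (.leaf 9180)
 (.leaf 10195)))
 (.node (.node (.leaf 9400)
 (.leaf 8321))
 (.node (.leaf 9065)
 (.leaf 9132))))))
 (.node (.node (.node (.node (.node (.leaf 5736)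
 (.leaf 4836))
 (.node (.leaf 5635)
 (.leaf 9963)))
 (.node (.node (.leaf 10076)
 (.leaf 9975))
 (.node (.leaf 5515)
 (.leaf 8558))))
 (.node (.node (.node (.leaf 9119)
 (.leaf 9236))
 (.node (.leaf 5811)
 (.leaf 8759)))
 (.node (.node (.leaf 4143)
 (.leaf 4303))
 (.node (.leaf 5173)
 (.leaf 5645)))))
 (.node (.node (.node (.node (.leaf 5539)
 (.leaf 10373))
 (.node (.leaf 9985)
 (.leaf 5176)))
 (.node (.node (.leaf 9264)
 (.leaf 4989))
 (.node (.leaf 4619)
 (.leaf 4581))))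
 (.node (.node (.node (.leaf 9303)
 (.leaf 5431))
 (.node (.leaf 9790)
 (.leaf 8752)))
 (.node (.node (.leaf 8516)
 (.leaf 8711))
 (.node (.leaf 4625)
 (.leaf 8855))))))

def ruClOfB39 : RT := .node (.node (.node (.node (.node (.node (.leaf 4490)
 (.leaf 9328))
 (.node (.leaf 5087)
 (.leaf 4826)))
 (.node (.node (.leaf 4963)
 (.leaf 4271))
 (.node (.leaf 5409)
 (.leaf 4767))))
 (.node (.node (.node (.leaf 5031)
 (.leaf 5307))
 (.node (.leaf 4416)
 (.leaf 9833)))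
 (.node (.node (.leaf 5838)
 (.leaf 5722))
 (.node (.leaf 8462)
 (.leaf 9502)))))
 (.node (.node (.node (.node (.leaf 5573)
 (.leaf 9456))
 (.node (.leaf 4366)
 (.leaf 9672)))
 (.node (.node (.leaf 5624)
 (.leaf 5756))
 (.node (.leaf 5576)
 (.leaf 10174))))
 (.node (.node (.node (.leaf 9059)
 (.leaf 4245))
 (.node (.leaf 9551)
 (.leaf 5724)))
 (.node (.node (.leaf 8709)
 (.leaf 9224))
 (.node (.leaf 4292)
 (.leaf 5273))))))
 (.node (.node (.node (.node (.node (.leaf 8401)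
 (.leaf 4736))
 (.node (.leaf 9174)
 (.leaf 10133)))
 (.node (.node (.leaf 5064)
 (.leaf 9927))
 (.node (.leaf 9324)
 (.leaf 4759))))
 (.node (.node (.node (.leaf 9497)
 (.leaf 4293))
 (.node (.leaf 4378)
 (.leaf 9445)))
 (.node (.node (.leaf 4573)
 (.leaf 5788))
 (.node (.leaf 8867)
 (.leaf 4824)))))
 (.node (.node (.node (.node (.leaf 9358)
 (.leaf 8629))
 (.node (.leaf 5106)
 (.leaf 8736)))
 (.node (.node (.leaf 9557)
 (.leaf 10221))
 (.node (.leaf 4769)
 (.leaf 9064))))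
 (.node (.node (.node (.leaf 8520)
 (.leaf 4884))
 (.node (.leaf 9788)
 (.leaf 4733)))
 (.node (.node (.leaf 4194)
 (.leaf 5784))
 (.node (.leaf 8907)
 (.leaf 5676))))))

def ruClOfB40 : RT := .node (.node (.node (.node (.node (.node (.leaf 4699)
 (.leaf 4764))
 (.node (.leaf 8703)
 (.leaf 5412)))
 (.node (.node (.leaf 9465)
 (.leaf 4654))
 (.node (.leaf 8957)
 (.leaf 5798))))
 (.node (.node (.node (.leaf 9844)
 (.leaf 9762))
 (.node (.leaf 5767)
 (.leaf 9282)))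
 (.node (.node (.leaf 9836)
 (.leaf 5194))
 (.node (.leaf 9585)
 (.leaf 9821)))))
 (.node (.node (.node (.node (.leaf 9818)
 (.leaf 4364))
 (.node (.leaf 9974)
 (.leaf 9121)))
 (.node (.node (.leaf 8367)
 (.leaf 9521))
 (.node (.leaf 10259)
 (.leaf 9110))))
 (.node (.node (.node (.leaf 5188)
 (.leaf 8527))
 (.node (.leaf 4222)
 (.leaf 8204)))
 (.node (.node (.leaf 9317)
 (.leaf 9913))
 (.node (.leaf 5014)
 (.leaf 5100))))))
 (.node (.node (.node (.node (.node (.leaf 10451)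
 (.leaf 5339))
 (.node (.leaf 4288)
 (.leaf 9353)))
 (.node (.node (.leaf 5074)
 (.leaf 8813))
 (.node (.leaf 10162)
 (.leaf 5235))))
 (.node (.node (.node (.leaf 9510)
 (.leaf 8756))
 (.node (.leaf 5723)
 (.leaf 5143)))
 (.node (.node (.leaf 9624)
 (.leaf 4589))
 (.node (.leaf 8778)
 (.leaf 5252)))))
 (.node (.node (.node (.node (.leaf 5549)
 (.leaf 10199))
 (.node (.leaf 10343)
 (.leaf 8393)))
 (.node (.node (.leaf 5140)
 (.leaf 9666))
 (.node (.leaf 5131)
 (.leaf 10050))))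
 (.node (.node (.node (.leaf 9537)
 (.leaf 8360))
 (.node (.leaf 8279)
 (.leaf 8255)))
 (.node (.node (.leaf 4730)
 (.leaf 5601))
 (.node (.leaf 10381)
 (.leaf 8935))))))

def ruClOfB41 : RT := .node (.node (.node (.node (.node (.node (.leaf 10122)
 (.leaf 4809))
 (.node (.leaf 9019)
 (.leaf 9297)))
 (.node (.node (.leaf 4098)
 (.leaf 9407))
 (.node (.leaf 4847)
 (.leaf 4173))))
 (.node (.node (.node (.leaf 5520)
 (.leaf 10223))
 (.node (.leaf 4935)
 (.leaf 9957)))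
 (.node (.node (.leaf 9273)
 (.leaf 9751))
 (.node (.leaf 5699)
 (.leaf 9693)))))
 (.node (.node (.node (.node (.leaf 9983)
 (.leaf 9153))
 (.node (.leaf 10336)
 (.leaf 9865)))
 (.node (.node (.leaf 8277)
 (.leaf 4507))
 (.node (.leaf 9208)
 (.leaf 5287))))
 (.node (.node (.node (.leaf 8373)
 (.leaf 8324))
 (.node (.leaf 5149)
 (.leaf 10083)))
 (.node (.node (.leaf 10267)
 (.leaf 4243))
 (.node (.leaf 4758)
 (.leaf 9447))))))
 (.node (.node (.node (.node (.node (.leaf 5021)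
 (.leaf 10350))
 (.node (.leaf 10152)
 (.leaf 8202)))
 (.node (.node (.leaf 5803)
 (.leaf 5740))
 (.node (.leaf 5774)
 (.leaf 4670))))
 (.node (.node (.node (.leaf 5448)
 (.leaf 4334))
 (.node (.leaf 8306)
 (.leaf 8230)))
 (.node (.node (.leaf 5180)
 (.leaf 4468))
 (.node (.leaf 8770)
 (.leaf 4686)))))
 (.node (.node (.node (.node (.leaf 4762)
 (.leaf 10079))
 (.node (.leaf 10053)
 (.leaf 4411)))
 (.node (.node (.leaf 10406)
 (.leaf 9532))
 (.node (.leaf 10075)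
 (.leaf 5045))))
 (.node (.node (.node (.leaf 9186)
 (.leaf 5764))
 (.node (.leaf 4357)
 (.leaf 10321)))
 (.node (.node (.leaf 4780)
 (.leaf 9346))
 (.node (.leaf 8974)
 (.leaf 4630))))))

def ruClOfB42 : RT := .node (.node (.node (.node (.node (.node (.leaf 4555)
 (.leaf 5324))
 (.node (.leaf 5094)
 (.leaf 10325)))
 (.node (.node (.leaf 4998)
 (.leaf 5614))
 (.node (.leaf 4436)
 (.leaf 5568))))
 (.node (.node (.node (.leaf 5155)
 (.leaf 5242))
 (.node (.leaf 8548)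
 (.leaf 9993)))
 (.node (.node (.leaf 9516)
 (.leaf 8680))
 (.node (.leaf 4913)
 (.leaf 5257)))))
 (.node (.node (.node (.node (.leaf 5224)
 (.leaf 5070))
 (.node (.leaf 5460)
 (.leaf 4819)))
 (.node (.node (.leaf 5509)
 (.leaf 8388))
 (.node (.leaf 4565)
 (.leaf 10482))))
 (.node (.node (.node (.leaf 9043)
 (.leaf 8474))
 (.node (.leaf 10113)
 (.leaf 5434)))
 (.node (.node (.leaf 4551)
 (.leaf 9979))
 (.node (.leaf 5732)
 (.leaf 4510))))))
 (.node (.node (.node (.node (.node (.leaf 9056)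
 (.leaf 8251))
 (.node (.leaf 5402)
 (.leaf 5286)))
 (.node (.node (.leaf 4579)
 (.leaf 4644))
 (.node (.leaf 4263)
 (.leaf 5450))))
 (.node (.node (.node (.leaf 5695)
 (.leaf 8892))
 (.node (.leaf 9627)
 (.leaf 8640)))
 (.node (.node (.leaf 9109)
 (.leaf 9680))
 (.node (.leaf 5325)
 (.leaf 4332)))))
 (.node (.node (.node (.node (.leaf 5178)
 (.leaf 5304))
 (.node (.leaf 5812)
 (.leaf 4735)))
 (.node (.node (.leaf 4395)
 (.leaf 10256))
 (.node (.leaf 9644)
 (.leaf 5250))))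
 (.node (.node (.node (.leaf 9057)
 (.leaf 10126))
 (.node (.leaf 5793)
 (.leaf 10455)))
 (.node (.node (.leaf 4217)
 (.leaf 9190))
 (.node (.leaf 8600)
 (.leaf 5198))))))

def ruClOfB43 : RT := .node (.node (.node (.node (.node (.node (.leaf 4479)
 (.leaf 5107))
 (.node (.leaf 10305)
 (.leaf 4302)))
 (.node (.node (.leaf 4878)
 (.leaf 10425))
 (.node (.leaf 5444)
 (.leaf 8995))))
 (.node (.node (.node (.leaf 9623)
 (.leaf 5494))
 (.node (.leaf 4731)
 (.leaf 4259)))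
 (.node (.node (.leaf 9040)
 (.leaf 10345))
 (.node (.leaf 10166)
 (.leaf 4894)))))
 (.node (.node (.node (.node (.leaf 4405)
 (.leaf 5716))
 (.node (.leaf 10056)
 (.leaf 5048)))
 (.node (.node (.leaf 4175)
 (.leaf 4336))
 (.node (.leaf 4338)
 (.leaf 8425))))
 (.node (.node (.node (.leaf 4678)
 (.leaf 10415))
 (.node (.leaf 8404)
 (.leaf 8525)))
 (.node (.node (.leaf 4136)
 (.leaf 10249))
 (.node (.leaf 8574)
 (.leaf 9706))))))
 (.node (.node (.node (.node (.node (.leaf 9687)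
 (.leaf 4120))
 (.node (.leaf 8450)
 (.leaf 9683)))
 (.node (.node (.leaf 9107)
 (.leaf 9522))
 (.node (.leaf 5639)
 (.leaf 8237))))
 (.node (.node (.node (.leaf 9283)
 (.leaf 10169))
 (.node (.leaf 4638)
 (.leaf 10404)))
 (.node (.node (.leaf 9422)
 (.leaf 8822))
 (.node (.leaf 9314)
 (.leaf 5166)))))
 (.node (.node (.node (.node (.leaf 8257)
 (.leaf 8568))
 (.node (.leaf 8235)
 (.leaf 5120)))
 (.node (.node (.leaf 9907)
 (.leaf 10214))
 (.node (.leaf 5351)
 (.leaf 5668))))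
 (.node (.node (.node (.leaf 9645)
 (.leaf 8960))
 (.node (.leaf 4948)
 (.leaf 9830)))
 (.node (.node (.leaf 10188)
 (.leaf 9558))
 (.node (.leaf 10366)
 (.leaf 9386))))))

def ruClOfB44 : RT := .node (.node (.node (.node (.node (.node (.leaf 9730)
 (.leaf 10043))
 (.node (.leaf 9425)
 (.leaf 9488)))
 (.node (.node (.leaf 5469)
 (.leaf 10303))
 (.node (.leaf 9954)
 (.leaf 5555))))
 (.node (.node (.node (.leaf 9794)
 (.leaf 10484))
 (.node (.leaf 4748)
 (.leaf 8521)))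
 (.node (.node (.leaf 9647)
 (.leaf 5353))
 (.node (.leaf 10339)
 (.leaf 10392)))))
 (.node (.node (.node (.node (.leaf 9128)
 (.leaf 8411))
 (.node (.leaf 4868)
 (.leaf 5004)))
 (.node (.node (.leaf 4529)
 (.leaf 10156))
 (.node (.leaf 9495)
 (.leaf 10164))))
 (.node (.node (.node (.leaf 10410)
 (.leaf 10073))
 (.node (.leaf 8573)
 (.leaf 8247)))
 (.node (.node (.leaf 9470)
 (.leaf 5553))
 (.node (.leaf 4583)
 (.leaf 8231))))))
 (.node (.node (.node (.node (.node (.leaf 5266)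
 (.leaf 5787))
 (.node (.leaf 8511)
 (.leaf 8343)))
 (.node (.node (.leaf 4475)
 (.leaf 9819))
 (.node (.leaf 8522)
 (.leaf 5308))))
 (.node (.node (.node (.leaf 10094)
 (.leaf 5779))
 (.node (.leaf 4439)
 (.leaf 9518)))
 (.node (.node (.leaf 9861)
 (.leaf 9890))
 (.node (.leaf 5789)
 (.leaf 10219)))))
 (.node (.node (.node (.node (.leaf 5473)
 (.leaf 9777))
 (.node (.leaf 8631)
 (.leaf 8460)))
 (.node (.node (.leaf 5799)
 (.leaf 4931))
 (.node (.leaf 4424)
 (.leaf 5317))))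
 (.node (.node (.node (.leaf 9841)
 (.leaf 8434))
 (.node (.leaf 9517)
 (.leaf 8845)))
 (.node (.node (.leaf 9098)
 (.leaf 4657))
 (.node (.leaf 4990)
 (.leaf 8815))))))

def ruClOfB45 : RT := .node (.node (.node (.node (.node (.node (.leaf 8445)
 (.leaf 5643))
 (.node (.leaf 4428)
 (.leaf 10268)))
 (.node (.node (.leaf 5466)
 (.leaf 10147))
 (.node (.leaf 4413)
 (.leaf 8304))))
 (.node (.node (.node (.leaf 4766)
 (.leaf 8598))
 (.node (.leaf 8708)
 (.leaf 9734)))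
 (.node (.node (.leaf 8900)
 (.leaf 9362))
 (.node (.leaf 9548)
 (.leaf 8438)))))
 (.node (.node (.node (.node (.leaf 5028)
 (.leaf 5315))
 (.node (.leaf 10003)
 (.leaf 4394)))
 (.node (.node (.leaf 5056)
 (.leaf 10270))
 (.node (.leaf 4546)
 (.leaf 4379))))
 (.node (.node (.node (.leaf 9196)
 (.leaf 9388))
 (.node (.leaf 8674)
 (.leaf 4970)))
 (.node (.node (.leaf 9554)
 (.leaf 5696))
 (.node (.leaf 4794)
 (.leaf 10358))))))
 (.node (.node (.node (.node (.node (.leaf 9513)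
 (.leaf 9392))
 (.node (.leaf 4720)
 (.leaf 8541)))
 (.node (.node (.leaf 10465)
 (.leaf 10001))
 (.node (.leaf 5665)
 (.leaf 5062))))
 (.node (.node (.node (.leaf 4373)
 (.leaf 5067))
 (.node (.leaf 8286)
 (.leaf 8562)))
 (.node (.node (.leaf 8470)
 (.leaf 10476))
 (.node (.leaf 8350)
 (.leaf 9155)))))
 (.node (.node (.node (.node (.leaf 4251)
 (.leaf 10403))
 (.node (.leaf 10105)
 (.leaf 5735)))
 (.node (.node (.leaf 4949)
 (.leaf 4815))
 (.node (.leaf 10183)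
 (.leaf 9434))))
 (.node (.node (.node (.leaf 8443)
 (.leaf 10367))
 (.node (.leaf 8835)
 (.leaf 8749)))
 (.node (.node (.leaf 5200)
 (.leaf 4946))
 (.node (.leaf 4337)
 (.leaf 8590))))))

def ruClOfB46 : RT := .node (.node (.node (.node (.node (.node (.leaf 9630)
 (.leaf 4502))
 (.node (.leaf 10109)
 (.leaf 4833)))
 (.node (.node (.leaf 9397)
 (.leaf 4683))
 (.node (.leaf 5342)
 (.leaf 8504))))
 (.node (.node (.node (.leaf 4517)
 (.leaf 4177))
 (.node (.leaf 8810)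
 (.leaf 5582)))
 (.node (.node (.leaf 8830)
 (.leaf 9668))
 (.node (.leaf 8852)
 (.leaf 10108)))))
 (.node (.node (.node (.node (.leaf 9001)
 (.leaf 8270))
 (.node (.leaf 4829)
 (.leaf 8646)))
 (.node (.node (.leaf 5217)
 (.leaf 5461))
 (.node (.leaf 10140)
 (.leaf 9535))))
 (.node (.node (.node (.leaf 10434)
 (.leaf 9184))
 (.node (.leaf 4643)
 (.leaf 10170)))
 (.node (.node (.leaf 4987)
 (.leaf 9485))
 (.node (.leaf 9964)
 (.leaf 9744))))))
 (.node (.node (.node (.node (.node (.leaf 5615)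
 (.leaf 8958))
 (.node (.leaf 9024)
 (.leaf 9578)))
 (.node (.node (.leaf 5654)
 (.leaf 9969))
 (.node (.leaf 10232)
 (.leaf 5230))))
 (.node (.node (.node (.leaf 9708)
 (.leaf 4854))
 (.node (.leaf 4728)
 (.leaf 5658)))
 (.node (.node (.leaf 9825)
 (.leaf 4109))
 (.node (.leaf 9437)
 (.leaf 5806)))))
 (.node (.node (.node (.node (.leaf 5327)
 (.leaf 4853))
 (.node (.leaf 10488)
 (.leaf 4651)))
 (.node (.node (.leaf 5727)
 (.leaf 5371))
 (.node (.leaf 9587)
 (.leaf 8429))))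
 (.node (.node (.node (.leaf 5621)
 (.leaf 4672))
 (.node (.leaf 5804)
 (.leaf 4483)))
 (.node (.node (.leaf 8833)
 (.leaf 4715))
 (.node (.leaf 10209)
 (.leaf 9656))))))

def ruClOfB47 : RT := .node (.node (.node (.node (.node (.node (.leaf 10117)
 (.leaf 8968))
 (.node (.leaf 8688)
 (.leaf 5679)))
 (.node (.node (.leaf 4383)
 (.leaf 4871))
 (.node (.leaf 8452)
 (.leaf 5406))))
 (.node (.node (.node (.leaf 9029)
 (.leaf 10039))
 (.node (.leaf 10298)
 (.leaf 9925)))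
 (.node (.node (.leaf 4234)
 (.leaf 5185))
 (.node (.leaf 5079)
 (.leaf 10078)))))
 (.node (.node (.node (.node (.leaf 8302)
 (.leaf 10340))
 (.node (.leaf 8882)
 (.leaf 5831)))
 (.node (.node (.leaf 5105)
 (.leaf 9241))
 (.node (.leaf 9307)
 (.leaf 4648))))
 (.node (.node (.node (.leaf 5683)
 (.leaf 9771))
 (.node (.leaf 4608)
 (.leaf 8719)))
 (.node (.node (.leaf 9115)
 (.leaf 8386))
 (.node (.leaf 8362)
 (.leaf 9938))))))
 (.node (.node (.node (.node (.node (.leaf 10459)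
 (.leaf 10026))
 (.node (.leaf 8582)
 (.leaf 4640)))
 (.node (.node (.leaf 8364)
 (.leaf 9921))
 (.node (.leaf 9941)
 (.leaf 9131))))
 (.node (.node (.node (.leaf 9458)
 (.leaf 5442))
 (.node (.leaf 9411)
 (.leaf 9408)))
 (.node (.node (.leaf 9677)
 (.leaf 4313))
 (.node (.leaf 8893)
 (.leaf 10273)))))
 (.node (.node (.node (.node (.leaf 9950)
 (.leaf 8246))
 (.node (.leaf 4445)
 (.leaf 10240)))
 (.node (.node (.leaf 8498)
 (.leaf 8942))
 (.node (.leaf 10323)
 (.leaf 9431))))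
 (.node (.node (.node (.leaf 9496)
 (.leaf 5332))
 (.node (.leaf 8659)
 (.leaf 4381)))
 (.node (.node (.leaf 8309)
 (.leaf 8430))
 (.node (.leaf 8608)
 (.leaf 9349))))))

def ruClOfB48 : RT := .node (.node (.node (.node (.node (.node (.leaf 8874)
 (.leaf 10060))
 (.node (.leaf 4858)
 (.leaf 10288)))
 (.node (.node (.leaf 4273)
 (.leaf 9556))
 (.node (.leaf 9446)
 (.leaf 9980))))
 (.node (.node (.node (.leaf 4528)
 (.leaf 5208))
 (.node (.leaf 5099)
 (.leaf 4641)))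
 (.node (.node (.leaf 9609)
 (.leaf 9216))
 (.node (.leaf 8658)
 (.leaf 4146)))))
 (.node (.node (.node (.node (.leaf 8494)
 (.leaf 10405))
 (.node (.leaf 5545)
 (.leaf 4566)))
 (.node (.node (.leaf 9621)
 (.leaf 8581))
 (.node (.leaf 8954)
 (.leaf 8913))))
 (.node (.node (.node (.leaf 5535)
 (.leaf 9773))
 (.node (.leaf 5795)
 (.leaf 8382)))
 (.node (.node (.leaf 10154)
 (.leaf 8500))
 (.node (.leaf 9721)
 (.leaf 10377))))))
 (.node (.node (.node (.node (.node (.leaf 8526)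
 (.leaf 10247))
 (.node (.leaf 8774)
 (.leaf 4298)))
 (.node (.node (.leaf 5276)
 (.leaf 9655))
 (.node (.leaf 8596)
 (.leaf 9258))))
 (.node (.node (.node (.leaf 9133)
 (.leaf 5049))
 (.node (.leaf 5348)
 (.leaf 5337)))
 (.node (.node (.leaf 8919)
 (.leaf 10212))
 (.node (.leaf 10163)
 (.leaf 5517)))))
 (.node (.node (.node (.node (.leaf 5763)
 (.leaf 4972))
 (.node (.leaf 9742)
 (.leaf 4577)))
 (.node (.node (.leaf 9684)
 (.leaf 9111))
 (.node (.leaf 5685)
 (.leaf 5706))))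
 (.node (.node (.node (.leaf 5213)
 (.leaf 4750))
 (.node (.leaf 9508)
 (.leaf 4588)))
 (.node (.node (.leaf 4254)
 (.leaf 5438))
 (.node (.leaf 9782)
 (.leaf 10044))))))

def ruClOfB49 : RT := .node (.node (.node (.node (.node (.node (.leaf 4718)
 (.leaf 4191))
 (.node (.leaf 4596)
 (.leaf 5050)))
 (.node (.node (.leaf 8918)
 (.leaf 5095))
 (.node (.leaf 10460)
 (.leaf 4404))))
 (.node (.node (.node (.leaf 9600)
 (.leaf 5678))
 (.node (.leaf 5551)
 (.leaf 8955)))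
 (.node (.node (.leaf 9563)
 (.leaf 4729))
 (.node (.leaf 8617)
 (.leaf 9432)))))
 (.node (.node (.node (.node (.leaf 5130)
 (.leaf 9177))
 (.node (.leaf 4176)
 (.leaf 5475)))
 (.node (.node (.leaf 5825)
 (.leaf 8698))
 (.node (.leaf 4834)
 (.leaf 10269))))
 (.node (.node (.node (.leaf 4584)
 (.leaf 10394))
 (.node (.leaf 8820)
 (.leaf 9665)))
 (.node (.node (.leaf 4410)
 (.leaf 9651))
 (.node (.leaf 8894)
 (.leaf 5849))))))
 (.node (.node (.node (.node (.node (.leaf 4359)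
 (.leaf 5454))
 (.node (.leaf 9491)
 (.leaf 5312)))
 (.node (.node (.leaf 4849)
 (.leaf 4626))
 (.node (.leaf 10171)
 (.leaf 9203))))
 (.node (.node (.node (.leaf 5519)
 (.leaf 9501))
 (.node (.leaf 10422)
 (.leaf 10251)))
 (.node (.node (.leaf 4417)
 (.leaf 4126))
 (.node (.leaf 4639)
 (.leaf 4595)))))
 (.node (.node (.node (.node (.leaf 8712)
 (.leaf 8478))
 (.node (.leaf 9798)
 (.leaf 10445)))
 (.node (.node (.leaf 5294)
 (.leaf 10389))
 (.node (.leaf 5117)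
 (.leaf 4478))))
 (.node (.node (.node (.leaf 10261)
 (.leaf 8444))
 (.node (.leaf 9075)
 (.leaf 5215)))
 (.node (.node (.leaf 5128)
 (.leaf 8259))
 (.node (.leaf 8842)
 (.leaf 9176))))))

def ruClOfB50 : RT := .node (.node (.node (.node (.node (.node (.leaf 8871)
 (.leaf 10181))
 (.node (.leaf 9102)
 (.leaf 5055)))
 (.node (.node (.leaf 9701)
 (.leaf 10139))
 (.node (.leaf 8723)
 (.leaf 9290))))
 (.node (.node (.node (.leaf 8325)
 (.leaf 8508))
 (.node (.leaf 8298)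
 (.leaf 9991)))
 (.node (.node (.leaf 9239)
 (.leaf 9291))
 (.node (.leaf 5279)
 (.leaf 10030)))))
 (.node (.node (.node (.node (.leaf 9875)
 (.leaf 9944))
 (.node (.leaf 9151)
 (.leaf 5281)))
 (.node (.node (.leaf 4693)
 (.leaf 4333))
 (.node (.leaf 9717)
 (.leaf 5078))))
 (.node (.node (.node (.leaf 5164)
 (.leaf 5663))
 (.node (.leaf 5018)
 (.leaf 8700)))
 (.node (.node (.leaf 8318)
 (.leaf 4275))
 (.node (.leaf 10384)
 (.leaf 8643))))))
 (.node (.node (.node (.node (.node (.leaf 9417)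
 (.leaf 4776))
 (.node (.leaf 8310)
 (.leaf 9606)))
 (.node (.node (.leaf 5780)
 (.leaf 4721))
 (.node (.leaf 9528)
 (.leaf 4903))))
 (.node (.node (.node (.leaf 10159)
 (.leaf 4133))
 (.node (.leaf 9765)
 (.leaf 9747)))
 (.node (.node (.leaf 8278)
 (.leaf 10359))
 (.node (.leaf 10015)
 (.leaf 9519)))))
 (.node (.node (.node (.node (.leaf 9370)
 (.leaf 5828))
 (.node (.leaf 9254)
 (.leaf 5637)))
 (.node (.node (.leaf 5619)
 (.leaf 8406))
 (.node (.leaf 5301)
 (.leaf 9055))))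
 (.node (.node (.node (.leaf 10229)
 (.leaf 5651))
 (.node (.leaf 4694)
 (.leaf 8530)))
 (.node (.node (.leaf 8790)
 (.leaf 4828))
 (.node (.leaf 10304)
 (.leaf 9074))))))

def ruClOfB51 : RT := .node (.node (.node (.node (.node (.node (.leaf 10136)
 (.leaf 8405))
 (.node (.leaf 10008)
 (.leaf 5755)))
 (.node (.node (.leaf 4169)
 (.leaf 5038))
 (.node (.leaf 9480)
 (.leaf 8641))))
 (.node (.node (.node (.leaf 9094)
 (.leaf 9248))
 (.node (.leaf 9816)
 (.leaf 4354)))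
 (.node (.node (.leaf 10306)
 (.leaf 10124))
 (.node (.leaf 10201)
 (.leaf 9959)))))
 (.node (.node (.node (.node (.leaf 8947)
 (.leaf 4879))
 (.node (.leaf 5418)
 (.leaf 9423)))
 (.node (.node (.leaf 10250)
 (.leaf 9595))
 (.node (.leaf 9723)
 (.leaf 4806))))
 (.node (.node (.node (.leaf 5772)
 (.leaf 8400))
 (.node (.leaf 8702)
 (.leaf 8296)))
 (.node (.node (.leaf 8685)
 (.leaf 10222))
 (.node (.leaf 4668)
 (.leaf 5845))))))
 (.node (.node (.node (.node (.node (.leaf 9440)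
 (.leaf 5713))
 (.node (.leaf 5210)
 (.leaf 4182)))
 (.node (.node (.leaf 5293)
 (.leaf 8628))
 (.node (.leaf 5758)
 (.leaf 8465))))
 (.node (.node (.node (.leaf 5506)
 (.leaf 5752))
 (.node (.leaf 9455)
 (.leaf 8963)))
 (.node (.node (.leaf 10426)
 (.leaf 4444))
 (.node (.leaf 9031)
 (.leaf 8344)))))
 (.node (.node (.node (.node (.leaf 8796)
 (.leaf 9653))
 (.node (.leaf 9883)
 (.leaf 5435)))
 (.node (.node (.leaf 9872)
 (.leaf 9336))
 (.node (.leaf 4993)
 (.leaf 10197))))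
 (.node (.node (.node (.leaf 8827)
 (.leaf 10462))
 (.node (.leaf 8873)
 (.leaf 9895)))
 (.node (.node (.leaf 9926)
 (.leaf 5830))
 (.node (.leaf 4480)
 (.leaf 9937))))))

def ruClOfB52 : RT := .node (.node (.node (.node (.node (.node (.leaf 4138)
 (.leaf 8747))
 (.node (.leaf 9306)
 (.leaf 9928)))
 (.node (.node (.leaf 9880)
 (.leaf 5075))
 (.node (.leaf 8542)
 (.leaf 10193))))
 (.node (.node (.node (.leaf 8355)
 (.leaf 8897))
 (.node (.leaf 8392)
 (.leaf 10149)))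
 (.node (.node (.leaf 5500)
 (.leaf 4249))
 (.node (.leaf 5137)
 (.leaf 5527)))))
 (.node (.node (.node (.node (.leaf 5656)
 (.leaf 4197))
 (.node (.leaf 4698)
 (.leaf 4838)))
 (.node (.node (.leaf 9673)
 (.leaf 4542))
 (.node (.leaf 9960)
 (.leaf 4887))))
 (.node (.node (.node (.leaf 10182)
 (.leaf 4977))
 (.node (.leaf 4912)
 (.leaf 5523)))
 (.node (.node (.leaf 10161)
 (.leaf 4860))
 (.node (.leaf 9402)
 (.leaf 8569))))))
 (.node (.node (.node (.node (.node (.leaf 10252)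
 (.leaf 10010))
 (.node (.leaf 5565)
 (.leaf 9167)))
 (.node (.node (.leaf 10057)
 (.leaf 10021))
 (.node (.leaf 9888)
 (.leaf 5090))))
 (.node (.node (.node (.leaf 9103)
 (.leaf 5027))
 (.node (.leaf 4554)
 (.leaf 4621)))
 (.node (.node (.leaf 10424)
 (.leaf 9610))
 (.node (.leaf 5633)
 (.leaf 4325)))))
 (.node (.node (.node (.node (.leaf 5012)
 (.leaf 9255))
 (.node (.leaf 4839)
 (.leaf 9715)))
 (.node (.node (.leaf 10454)
 (.leaf 10282))
 (.node (.leaf 9205)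
 (.leaf 4501))))
 (.node (.node (.node (.leaf 8634)
 (.leaf 9824))
 (.node (.leaf 8290)
 (.leaf 5456)))
 (.node (.node (.leaf 5255)
 (.leaf 9267))
 (.node (.leaf 8613)
 (.leaf 4830))))))

def ruClOfB53 : RT := .node (.node (.node (.node (.node (.node (.leaf 5101)
 (.leaf 10034))
 (.node (.leaf 4352)
 (.leaf 9276)))
 (.node (.node (.leaf 9896)
 (.leaf 8666))
 (.node (.leaf 8985)
 (.leaf 9766))))
 (.node (.node (.node (.leaf 8505)
 (.leaf 8554))
 (.node (.leaf 5821)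
 (.leaf 8906)))
 (.node (.node (.leaf 5071)
 (.leaf 8469))
 (.node (.leaf 4163)
 (.leaf 9403)))))
 (.node (.node (.node (.node (.leaf 8841)
 (.leaf 5584))
 (.node (.leaf 10334)
 (.leaf 4710)))
 (.node (.node (.leaf 4486)
 (.leaf 4389))
 (.node (.leaf 4707)
 (.leaf 4545))))
 (.node (.node (.node (.leaf 8451)
 (.leaf 9081))
 (.node (.leaf 8682)
 (.leaf 8847)))
 (.node (.node (.leaf 4802)
 (.leaf 4580))
 (.node (.leaf 9368)
 (.leaf 4586))))))
 (.node (.node (.node (.node (.node (.leaf 4278)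
 (.leaf 9246))
 (.node (.leaf 10355)
 (.leaf 8384)))
 (.node (.node (.leaf 5305)
 (.leaf 8949))
 (.node (.leaf 9010)
 (.leaf 9746))))
 (.node (.node (.node (.leaf 4168)
 (.leaf 4841))
 (.node (.leaf 10439)
 (.leaf 8739)))
 (.node (.node (.leaf 9961)
 (.leaf 5563))
 (.node (.leaf 4170)
 (.leaf 9022)))))
 (.node (.node (.node (.node (.leaf 9662)
 (.leaf 4329))
 (.node (.leaf 4624)
 (.leaf 4516)))
 (.node (.node (.leaf 4825)
 (.leaf 8973))
 (.node (.leaf 4793)
 (.leaf 5824))))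
 (.node (.node (.node (.leaf 4499)
 (.leaf 4881))
 (.node (.leaf 8753)
 (.leaf 8282)))
 (.node (.node (.leaf 4591)
 (.leaf 5818))
 (.node (.leaf 10314)
 (.leaf 4367))))))

def ruClOfB54 : RT := .node (.node (.node (.node (.node (.node (.leaf 10443)
 (.leaf 5542))
 (.node (.leaf 9547)
 (.leaf 4855)))
 (.node (.node (.leaf 5206)
 (.leaf 4127))
 (.node (.leaf 5487)
 (.leaf 5495))))
 (.node (.node (.node (.leaf 5022)
 (.leaf 5754))
 (.node (.leaf 5677)
 (.leaf 10127)))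
 (.node (.node (.leaf 9704)
 (.leaf 5314))
 (.node (.leaf 9412)
 (.leaf 9646)))))
 (.node (.node (.node (.node (.leaf 5356)
 (.leaf 5834))
 (.node (.leaf 10341)
 (.leaf 10205)))
 (.node (.node (.leaf 5790)
 (.leaf 8713))
 (.node (.leaf 4525)
 (.leaf 4210))))
 (.node (.node (.node (.leaf 9868)
 (.leaf 10281))
 (.node (.leaf 8616)
 (.leaf 5739)))
 (.node (.node (.leaf 4864)
 (.leaf 8338))
 (.node (.leaf 4195)
 (.leaf 5664))))))
 (.node (.node (.node (.node (.node (.leaf 8792)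
 (.leaf 10062))
 (.node (.leaf 5192)
 (.leaf 5629)))
 (.node (.node (.leaf 4392)
 (.leaf 9198))
 (.node (.leaf 5053)
 (.leaf 8477))))
 (.node (.node (.node (.leaf 5617)
 (.leaf 9579))
 (.node (.leaf 9361)
 (.leaf 5698)))
 (.node (.node (.leaf 8240)
 (.leaf 5052))
 (.node (.leaf 5653)
 (.leaf 4268)))))
 (.node (.node (.node (.node (.leaf 4519)
 (.leaf 8836))
 (.node (.leaf 10144)
 (.leaf 9217)))
 (.node (.node (.leaf 10320)
 (.leaf 8914))
 (.node (.leaf 9378)
 (.leaf 5121))))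
 (.node (.node (.node (.leaf 8376)
 (.leaf 5543))
 (.node (.leaf 4695)
 (.leaf 4208)))
 (.node (.node (.leaf 4845)
 (.leaf 10435))
 (.node (.leaf 8797)
 (.leaf 8203))))))

def ruClOfB55 : RT := .node (.node (.node (.node (.node (.node (.leaf 10175)
 (.leaf 9996))
 (.node (.leaf 4506)
 (.leaf 4327)))
 (.node (.node (.leaf 8672)
 (.leaf 4453))
 (.node (.leaf 9901)
 (.leaf 5577))))
 (.node (.node (.node (.leaf 5261)
 (.leaf 5661))
 (.node (.leaf 10071)
 (.leaf 9657)))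
 (.node (.node (.leaf 9750)
 (.leaf 5009))
 (.node (.leaf 9170)
 (.leaf 9781)))))
 (.node (.node (.node (.node (.leaf 4160)
 (.leaf 5546))
 (.node (.leaf 9515)
 (.leaf 9158)))
 (.node (.node (.leaf 9588)
 (.leaf 4609))
 (.node (.leaf 4613)
 (.leaf 8895))))
 (.node (.node (.node (.leaf 10293)
 (.leaf 5693))
 (.node (.leaf 8673)
 (.leaf 9561)))
 (.node (.node (.leaf 4457)
 (.leaf 8539))
 (.node (.leaf 8991)
 (.leaf 8390))))))
 (.node (.node (.node (.node (.node (.leaf 5850)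
 (.leaf 4527))
 (.node (.leaf 9879)
 (.leaf 9713)))
 (.node (.node (.leaf 8250)
 (.leaf 9120))
 (.node (.leaf 9439)
 (.leaf 5024))))
 (.node (.node (.node (.leaf 8966)
 (.leaf 4223))
 (.node (.leaf 5260)
 (.leaf 4752)))
 (.node (.node (.leaf 5383)
 (.leaf 4459))
 (.node (.leaf 10102)
 (.leaf 4807)))))
 (.node (.node (.node (.node (.leaf 5518)
 (.leaf 10357))
 (.node (.leaf 5529)
 (.leaf 10135)))
 (.node (.node (.leaf 4653)
 (.leaf 4676))
 (.node (.leaf 5059)
 (.leaf 4513))))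
 (.node (.node (.node (.leaf 8354)
 (.leaf 4426))
 (.node (.leaf 10119)
 (.leaf 9688)))
 (.node (.node (.leaf 9571)
 (.leaf 5223))
 (.node (.leaf 4111)
 (.leaf 5847))))))

def ruClOfB56 : RT := .node (.node (.node (.node (.node (.node (.leaf 4495)
 (.leaf 10077))
 (.node (.leaf 10349)
 (.leaf 8420)))
 (.node (.node (.leaf 10206)
 (.leaf 10335))
 (.node (.leaf 8499)
 (.leaf 10210))))
 (.node (.node (.node (.leaf 5598)
 (.leaf 5341))
 (.node (.leaf 4537)
 (.leaf 4358)))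
 (.node (.node (.leaf 5306)
 (.leaf 5285))
 (.node (.leaf 9586)
 (.leaf 5350)))))
 (.node (.node (.node (.node (.leaf 4958)
 (.leaf 5525))
 (.node (.leaf 8912)
 (.leaf 9404)))
 (.node (.node (.leaf 5065)
 (.leaf 4162))
 (.node (.leaf 8881)
 (.leaf 4549))))
 (.node (.node (.node (.leaf 9853)
 (.leaf 8271))
 (.node (.leaf 5036)
 (.leaf 5015)))
 (.node (.node (.leaf 9233)
 (.leaf 8535))
 (.node (.leaf 10342)
 (.leaf 5344))))))
 (.node (.node (.node (.node (.node (.leaf 9202)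
 (.leaf 5162))
 (.node (.leaf 4968)
 (.leaf 10391)))
 (.node (.node (.leaf 8920)
 (.leaf 5496))
 (.node (.leaf 4462)
 (.leaf 5488))))
 (.node (.node (.node (.leaf 10479)
 (.leaf 8993))
 (.node (.leaf 4907)
 (.leaf 4360)))
 (.node (.node (.leaf 5387)
 (.leaf 5298))
 (.node (.leaf 9795)
 (.leaf 4442)))))
 (.node (.node (.node (.node (.leaf 4821)
 (.leaf 4518))
 (.node (.leaf 5247)
 (.leaf 5632)))
 (.node (.node (.leaf 4139)
 (.leaf 8885))
 (.node (.leaf 5421)
 (.leaf 8876))))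
 (.node (.node (.node (.leaf 9709)
 (.leaf 10409))
 (.node (.leaf 5574)
 (.leaf 4434)))
 (.node (.node (.leaf 9061)
 (.leaf 10218))
 (.node (.leaf 10493)
 (.leaf 5813))))))

def ruClOfB57 : RT := .node (.node (.node (.node (.node (.node (.leaf 4131)
 (.leaf 5363))
 (.node (.leaf 5163)
 (.leaf 8695)))
 (.node (.node (.leaf 4751)
 (.leaf 10262))
 (.node (.leaf 5082)
 (.leaf 4396))))
 (.node (.node (.node (.leaf 5588)
 (.leaf 4951))
 (.node (.leaf 8340)
 (.leaf 5345)))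
 (.node (.node (.leaf 5625)
 (.leaf 8809))
 (.node (.leaf 8453)
 (.leaf 8825)))))
 (.node (.node (.node (.node (.leaf 5396)
 (.leaf 4837))
 (.node (.leaf 5452)
 (.leaf 5720)))
 (.node (.node (.leaf 10402)
 (.leaf 9145))
 (.node (.leaf 9810)
 (.leaf 5399))))
 (.node (.node (.node (.leaf 4572)
 (.leaf 9163))
 (.node (.leaf 5115)
 (.leaf 4959)))
 (.node (.node (.leaf 10096)
 (.leaf 9696))
 (.node (.leaf 5512)
 (.leaf 5092))))))
 (.node (.node (.node (.node (.node (.leaf 9915)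
 (.leaf 4102))
 (.node (.leaf 5127)
 (.leaf 5493)))
 (.node (.node (.leaf 4099)
 (.leaf 8821))
 (.node (.leaf 8872)
 (.leaf 8678))))
 (.node (.node (.node (.leaf 8794)
 (.leaf 9504))
 (.node (.leaf 9948)
 (.leaf 9160)))
 (.node (.node (.leaf 9906)
 (.leaf 10310))
 (.node (.leaf 8860)
 (.leaf 8936)))))
 (.node (.node (.node (.node (.leaf 5594)
 (.leaf 4755))
 (.node (.leaf 4567)
 (.leaf 4924)))
 (.node (.node (.leaf 4703)
 (.leaf 4324))
 (.node (.leaf 9415)
 (.leaf 8858))))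
 (.node (.node (.node (.leaf 10474)
 (.leaf 10101))
 (.node (.leaf 4276)
 (.leaf 4889)))
 (.node (.node (.leaf 9182)
 (.leaf 8722))
 (.node (.leaf 10061)
 (.leaf 4512))))))

def ruClOfB58 : RT := .node (.node (.node (.node (.node (.node (.leaf 4299)
 (.leaf 4158))
 (.node (.leaf 4760)
 (.leaf 9049)))
 (.node (.node (.leaf 10067)
 (.leaf 8732))
 (.node (.leaf 9694)
 (.leaf 8557))))
 (.node (.node (.node (.leaf 4232)
 (.leaf 9650))
 (.node (.leaf 9005)
 (.leaf 9799)))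
 (.node (.node (.leaf 9343)
 (.leaf 5690))
 (.node (.leaf 8232)
 (.leaf 9359)))))
 (.node (.node (.node (.node (.leaf 8591)
 (.leaf 9780))
 (.node (.leaf 10356)
 (.leaf 10248)))
 (.node (.node (.leaf 9251)
 (.leaf 10378))
 (.node (.leaf 4940)
 (.leaf 4401))))
 (.node (.node (.node (.leaf 5338)
 (.leaf 9460))
 (.node (.leaf 5425)
 (.leaf 4282)))
 (.node (.node (.leaf 9259)
 (.leaf 8379))
 (.node (.leaf 10208)
 (.leaf 9025))))))
 (.node (.node (.node (.node (.node (.leaf 10407)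
 (.leaf 8943))
 (.node (.leaf 4747)
 (.leaf 4756)))
 (.node (.node (.leaf 4988)
 (.leaf 5229))
 (.node (.leaf 8551)
 (.leaf 10438))))
 (.node (.node (.node (.leaf 5365)
 (.leaf 10387))
 (.node (.leaf 5807)
 (.leaf 5738)))
 (.node (.node (.leaf 5636)
 (.leaf 9718))
 (.node (.leaf 4556)
 (.leaf 10297)))))
 (.node (.node (.node (.node (.leaf 8512)
 (.leaf 8267))
 (.node (.leaf 8763)
 (.leaf 5347)))
 (.node (.node (.leaf 10332)
 (.leaf 8248))
 (.node (.leaf 9962)
 (.leaf 4183))))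
 (.node (.node (.node (.leaf 5378)
 (.leaf 10486))
 (.node (.leaf 4859)
 (.leaf 4429)))
 (.node (.node (.leaf 8877)
 (.leaf 4727))
 (.node (.leaf 5815)
 (.leaf 5445))))))

def ruClOfB59 : RT := .node (.node (.node (.node (.node (.node (.leaf 8328)
 (.leaf 4452))
 (.node (.leaf 8775)
 (.leaf 5086)))
 (.node (.node (.leaf 5277)
 (.leaf 8424))
 (.node (.leaf 9697)
 (.leaf 4942))))
 (.node (.node (.node (.leaf 5514)
 (.leaf 4430))
 (.node (.leaf 5443)
 (.leaf 8228)))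
 (.node (.node (.leaf 10285)
 (.leaf 5054))
 (.node (.leaf 5066)
 (.leaf 5040)))))
 (.node (.node (.node (.node (.leaf 5540)
 (.leaf 5552))
 (.node (.leaf 10125)
 (.leaf 4617)))
 (.node (.node (.leaf 9995)
 (.leaf 4952))
 (.node (.leaf 9958)
 (.leaf 5209))))
 (.node (.node (.node (.leaf 5202)
 (.leaf 9990))
 (.node (.leaf 8669)
 (.leaf 5531)))
 (.node (.node (.leaf 5714)
 (.leaf 10146))
 (.node (.leaf 9605)
 (.leaf 8785))))))
 (.node (.node (.node (.node (.node (.leaf 5733)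
 (.leaf 5093))
 (.node (.leaf 10456)
 (.leaf 10307)))
 (.node (.node (.leaf 4255)
 (.leaf 9409))
 (.node (.leaf 8482)
 (.leaf 4312))))
 (.node (.node (.node (.leaf 5175)
 (.leaf 4569))
 (.node (.leaf 9305)
 (.leaf 9039)))
 (.node (.node (.leaf 8859)
 (.leaf 8311))
 (.node (.leaf 5622)
 (.leaf 4570)))))
 (.node (.node (.node (.node (.leaf 10168)
 (.leaf 4717))
 (.node (.leaf 4171)
 (.leaf 4681)))
 (.node (.node (.leaf 9498)
 (.leaf 5382))
 (.node (.leaf 8329)
 (.leaf 8490))))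
 (.node (.node (.node (.leaf 8737)
 (.leaf 5340))
 (.node (.leaf 4592)
 (.leaf 5088)))
 (.node (.node (.leaf 8819)
 (.leaf 9754))
 (.node (.leaf 5766)
 (.leaf 9373))))))

def ruClOfB60 : RT := .node (.node (.node (.node (.node (.node (.leaf 8880)
 (.leaf 10292))
 (.node (.leaf 8417)
 (.leaf 4634)))
 (.node (.node (.leaf 4543)
 (.leaf 4647))
 (.node (.leaf 8466)
 (.leaf 9256))))
 (.node (.node (.node (.leaf 8316)
 (.leaf 8586))
 (.node (.leaf 9442)
 (.leaf 4219)))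
 (.node (.node (.leaf 9354)
 (.leaf 10411))
 (.node (.leaf 9499)
 (.leaf 5669)))))
 (.node (.node (.node (.node (.leaf 9086)
 (.leaf 9905))
 (.node (.leaf 9533)
 (.leaf 8297)))
 (.node (.node (.leaf 8427)
 (.leaf 9008))
 (.node (.leaf 4831)
 (.leaf 8543))))
 (.node (.node (.node (.leaf 10042)
 (.leaf 9910))
 (.node (.leaf 8667)
 (.leaf 8637)))
 (.node (.node (.leaf 5189)
 (.leaf 8930))
 (.node (.leaf 8926)
 (.leaf 4991))))))
 (.node (.node (.node (.node (.node (.leaf 5666)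
 (.leaf 4562))
 (.node (.leaf 4290)
 (.leaf 5810)))
 (.node (.node (.leaf 4144)
 (.leaf 9126))
 (.node (.leaf 4220)
 (.leaf 9984))))
 (.node (.node (.node (.leaf 4875)
 (.leaf 5187))
 (.node (.leaf 10449)
 (.leaf 4872)))
 (.node (.node (.leaf 5474)
 (.leaf 5467))
 (.node (.leaf 5154)
 (.leaf 4893)))))
 (.node (.node (.node (.node (.leaf 5805)
 (.leaf 10274))
 (.node (.leaf 5606)
 (.leaf 5225)))
 (.node (.node (.leaf 9091)
 (.leaf 4097))
 (.node (.leaf 5670)
 (.leaf 9331))))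
 (.node (.node (.node (.leaf 9530)
 (.leaf 5111))
 (.node (.leaf 5395)
 (.leaf 4901)))
 (.node (.node (.leaf 4967)
 (.leaf 9391))
 (.node (.leaf 4250)
 (.leaf 9030))))))

def ruClOfB61 : RT := .node (.node (.node (.node (.node (.node (.leaf 9191)
 (.leaf 9753))
 (.node (.leaf 10241)
 (.leaf 5214)))
 (.node (.node (.leaf 4941)
 (.leaf 10450))
 (.node (.leaf 8342)
 (.leaf 9138))))
 (.node (.node (.node (.leaf 8924)
 (.leaf 10346))
 (.node (.leaf 5295)
 (.leaf 8724)))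
 (.node (.node (.leaf 5459)
 (.leaf 9999))
 (.node (.leaf 5457)
 (.leaf 5504)))))
 (.node (.node (.node (.node (.leaf 9851)
 (.leaf 8967))
 (.node (.leaf 9903)
 (.leaf 9628)))
 (.node (.node (.leaf 10264)
 (.leaf 9884))
 (.node (.leaf 5513)
 (.leaf 8720))))
 (.node (.node (.node (.leaf 4466)
 (.leaf 9676))
 (.node (.leaf 5484)
 (.leaf 9916)))
 (.node (.node (.leaf 10448)
 (.leaf 4674))
 (.node (.leaf 9720)
 (.leaf 4388))))))
 (.node (.node (.node (.node (.node (.leaf 4680)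
 (.leaf 9326))
 (.node (.leaf 10100)
 (.leaf 8431)))
 (.node (.node (.leaf 9146)
 (.leaf 4971))
 (.node (.leaf 5708)
 (.leaf 5073))))
 (.node (.node (.node (.leaf 5245)
 (.leaf 8261))
 (.node (.leaf 5642)
 (.leaf 4280)))
 (.node (.node (.leaf 9892)
 (.leaf 4532))
 (.node (.leaf 8800)
 (.leaf 4492)))))
 (.node (.node (.node (.node (.leaf 8593)
 (.leaf 10063))
 (.node (.leaf 9640)
 (.leaf 5808)))
 (.node (.node (.leaf 4986)
 (.leaf 9210))
 (.node (.leaf 8492)
 (.leaf 4151))))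
 (.node (.node (.node (.leaf 5446)
 (.leaf 5786))
 (.node (.leaf 4612)
 (.leaf 9037)))
 (.node (.node (.leaf 4239)
 (.leaf 4409))
 (.node (.leaf 4363)
 (.leaf 4797))))))

def ruClOfB62 : RT := .node (.node (.node (.node (.node (.node (.leaf 4340)
 (.leaf 8999))
 (.node (.leaf 4368)
 (.leaf 9505)))
 (.node (.node (.leaf 4107)
 (.leaf 9080))
 (.node (.leaf 9566)
 (.leaf 9955))))
 (.node (.node (.node (.leaf 9069)
 (.leaf 5482))
 (.node (.leaf 9778)
 (.leaf 4116)))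
 (.node (.node (.leaf 5697)
 (.leaf 8829))
 (.node (.leaf 4291)
 (.leaf 8661)))))
 (.node (.node (.node (.node (.leaf 4188)
 (.leaf 5171))
 (.node (.leaf 9257)
 (.leaf 4236)))
 (.node (.node (.leaf 4956)
 (.leaf 5366))
 (.node (.leaf 5005)
 (.leaf 8326))))
 (.node (.node (.node (.leaf 4843)
 (.leaf 4504))
 (.node (.leaf 5134)
 (.leaf 8528)))
 (.node (.node (.leaf 5744)
 (.leaf 5833))
 (.node (.leaf 4575)
 (.leaf 8635))))))
 (.node (.node (.node (.node (.node (.leaf 5309)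
 (.leaf 5268))
 (.node (.leaf 4172)
 (.leaf 8941)))
 (.node (.node (.leaf 5385)
 (.leaf 10157))
 (.node (.leaf 5241)
 (.leaf 8975))))
 (.node (.node (.node (.leaf 8716)
 (.leaf 8448))
 (.node (.leaf 5376)
 (.leaf 4741)))
 (.node (.node (.leaf 4187)
 (.leaf 5429))
 (.node (.leaf 5684)
 (.leaf 4119)))))
 (.node (.node (.node (.node (.leaf 8281)
 (.leaf 8223))
 (.node (.leaf 9764)
 (.leaf 9048)))
 (.node (.node (.leaf 8195)
 (.leaf 8265))
 (.node (.leaf 4317)
 (.leaf 8236))))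
 (.node (.node (.node (.leaf 5364)
 (.leaf 4489))
 (.node (.leaf 10280)
 (.leaf 5599)))
 (.node (.node (.leaf 8555)
 (.leaf 10087))
 (.node (.leaf 4157)
 (.leaf 5511))))))

def ruClOfB63 : RT := .node (.node (.node (.node (.node (.node (.leaf 9014)
 (.leaf 10084))
 (.node (.leaf 4230)
 (.leaf 4665)))
 (.node (.node (.leaf 9636)
 (.leaf 8211))
 (.node (.leaf 4387)
 (.leaf 10457))))
 (.node (.node (.node (.leaf 8854)
 (.leaf 5243))
 (.node (.leaf 8226)
 (.leaf 5207)))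
 (.node (.node (.leaf 5145)
 (.leaf 8633))
 (.node (.leaf 8903)
 (.leaf 5681)))))
 (.node (.node (.node (.node (.leaf 4999)
 (.leaf 5303))
 (.node (.leaf 5270)
 (.leaf 9294)))
 (.node (.node (.leaf 4488)
 (.leaf 5032))
 (.node (.leaf 9967)
 (.leaf 4813))))
 (.node (.node (.node (.leaf 10004)
 (.leaf 10027))
 (.node (.leaf 5480)
 (.leaf 4128)))
 (.leaf 0))))
 (.leaf 0)

def ruClOf : RT := .node (.node (.node (.node (.node (.node (ruClOfB0)
 (ruClOfB1))
 (.node (ruClOfB2)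
 (ruClOfB3)))
 (.node (.node (ruClOfB4)
 (ruClOfB5))
 (.node (ruClOfB6)
 (ruClOfB7))))
 (.node (.node (.node (ruClOfB8)
 (ruClOfB9))
 (.node (ruClOfB10)
 (ruClOfB11)))
 (.node (.node (ruClOfB12)
 (ruClOfB13))
 (.node (ruClOfB14)
 (ruClOfB15)))))
 (.node (.node (.node (.node (ruClOfB16)
 (ruClOfB17))
 (.node (ruClOfB18)
 (ruClOfB19)))
 (.node (.node (ruClOfB20)
 (ruClOfB21))
 (.node (ruClOfB22)
 (ruClOfB23))))
 (.node (.node (.node (ruClOfB24)
 (ruClOfB25))
 (.node (ruClOfB26)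
 (ruClOfB27)))
 (.node (.node (ruClOfB28)
 (ruClOfB29))
 (.node (ruClOfB30)
 (ruClOfB31))))))
 (.node (.node (.node (.node (.node (ruClOfB32)
 (ruClOfB33))
 (.node (ruClOfB34)
 (ruClOfB35)))
 (.node (.node (ruClOfB36)
 (ruClOfB37))
 (.node (ruClOfB38)
 (ruClOfB39))))
 (.node (.node (.node (ruClOfB40)
 (ruClOfB41))
 (.node (ruClOfB42)
 (ruClOfB43)))
 (.node (.node (ruClOfB44)
 (ruClOfB45))
 (.node (ruClOfB46)
 (ruClOfB47)))))
 (.node (.node (.node (.node (ruClOfB48)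
 (ruClOfB49))
 (.node (ruClOfB50)
 (ruClOfB51)))
 (.node (.node (ruClOfB52)
 (ruClOfB53))
 (.node (ruClOfB54)
 (ruClOfB55))))
 (.node (.node (.node (ruClOfB56)
 (ruClOfB57))
 (.node (ruClOfB58)
 (ruClOfB59)))
 (.node (.node (ruClOfB60)
 (ruClOfB61))
 (.node (ruClOfB62)
 (ruClOfB63))))))

def tiClOfB0 : RT := .node (.node (.node (.node (.node (.node (.leaf 4095)
 (.leaf 0))
 (.node (.leaf 4095)
 (.leaf 4095)))
 (.node (.node (.leaf 4095)
 (.leaf 4095))
 (.node (.leaf 4555)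
 (.leaf 12733))))
 (.node (.node (.node (.leaf 4095)
 (.leaf 4095))
 (.node (.leaf 4095)
 (.leaf 4341)))
 (.node (.node (.leaf 4095)
 (.leaf 4095))
 (.node (.leaf 4095)
 (.leaf 8238)))))
 (.node (.node (.node (.node (.leaf 4095)
 (.leaf 4095))
 (.node (.leaf 4095)
 (.leaf 4095)))
 (.node (.node (.leaf 4095)
 (.leaf 4095))
 (.node (.leaf 4095)
 (.leaf 4095))))
 (.node (.node (.node (.leaf 4295)
 (.leaf 4095))
 (.node (.leaf 4314)
 (.leaf 4631)))
 (.node (.node (.leaf 4095)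
 (.leaf 12383))
 (.node (.leaf 4095)
 (.leaf 4095))))))
 (.node (.node (.node (.node (.node (.leaf 4095)
 (.leaf 4095))
 (.node (.leaf 4095)
 (.leaf 8240)))
 (.node (.node (.leaf 4095)
 (.leaf 4095))
 (.node (.leaf 4095)
 (.leaf 12475))))
 (.node (.node (.node (.leaf 12314)
 (.leaf 8196))
 (.node (.leaf 4095)
 (.leaf 4095)))
 (.node (.node (.leaf 4095)
 (.leaf 12323))
 (.node (.leaf 4095)
 (.leaf 4095)))))
 (.node (.node (.node (.node (.leaf 12536)
 (.leaf 4477))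
 (.node (.leaf 4095)
 (.leaf 4095)))
 (.node (.node (.leaf 8251)
 (.leaf 4095))
 (.node (.leaf 13294)
 (.leaf 13095))))
 (.node (.node (.node (.leaf 4095)
 (.leaf 4095))
 (.node (.leaf 4095)
 (.leaf 12412)))
 (.node (.node (.leaf 4232)
 (.leaf 4562))
 (.node (.leaf 4095)
 (.leaf 4095))))))

def tiClOfB1 : RT := .node (.node (.node (.node (.node (.node (.leaf 12520)
 (.leaf 4095))
 (.node (.leaf 4095)
 (.leaf 4095)))
 (.node (.node (.leaf 4095)
 (.leaf 4095))
 (.node (.leaf 4095)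
 (.leaf 12640))))
 (.node (.node (.node (.leaf 4095)
 (.leaf 4095))
 (.node (.leaf 4387)
 (.leaf 4600)))
 (.node (.node (.leaf 4095)
 (.leaf 4276))
 (.node (.leaf 4095)
 (.leaf 4095)))))
 (.node (.node (.node (.node (.leaf 4095)
 (.leaf 4095))
 (.node (.leaf 4095)
 (.leaf 4729)))
 (.node (.node (.leaf 4095)
 (.leaf 4095))
 (.node (.leaf 4095)
 (.leaf 13187))))
 (.node (.node (.node (.leaf 4095)
 (.leaf 4136))
 (.node (.leaf 4095)
 (.leaf 4643)))
 (.node (.node (.leaf 4095)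
 (.leaf 8268))
 (.node (.leaf 13116)
 (.leaf 4095))))))
 (.node (.node (.node (.node (.node (.leaf 4095)
 (.leaf 12796))
 (.node (.leaf 8232)
 (.leaf 4095)))
 (.node (.node (.leaf 4095)
 (.leaf 12931))
 (.node (.leaf 4095)
 (.leaf 8263))))
 (.node (.node (.node (.leaf 13175)
 (.leaf 8218))
 (.node (.leaf 4095)
 (.leaf 4095)))
 (.node (.node (.leaf 12828)
 (.leaf 12834))
 (.node (.leaf 4095)
 (.leaf 4095)))))
 (.node (.node (.node (.node (.leaf 4095)
 (.leaf 4481))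
 (.node (.leaf 12999)
 (.leaf 4095)))
 (.node (.node (.leaf 4095)
 (.leaf 12449))
 (.node (.leaf 12531)
 (.leaf 13139))))
 (.node (.node (.node (.leaf 4095)
 (.leaf 4095))
 (.node (.leaf 12306)
 (.leaf 4095)))
 (.node (.node (.leaf 4095)
 (.leaf 4095))
 (.node (.leaf 4095)
 (.leaf 4095))))))

def tiClOfB2 : RT := .node (.node (.node (.node (.node (.node (.leaf 4095)
 (.leaf 12758))
 (.node (.leaf 4095)
 (.leaf 4095)))
 (.node (.node (.leaf 4095)
 (.leaf 4095))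
 (.node (.leaf 4095)
 (.leaf 4095))))
 (.node (.node (.node (.leaf 4095)
 (.leaf 4095))
 (.node (.leaf 4364)
 (.leaf 4095)))
 (.node (.node (.leaf 4095)
 (.leaf 4095))
 (.node (.leaf 4095)
 (.leaf 4095)))))
 (.node (.node (.node (.node (.leaf 4095)
 (.leaf 4095))
 (.node (.leaf 8221)
 (.leaf 4095)))
 (.node (.node (.leaf 12878)
 (.leaf 4095))
 (.node (.leaf 4095)
 (.leaf 12959))))
 (.node (.node (.node (.leaf 4095)
 (.leaf 4480))
 (.node (.leaf 4095)
 (.leaf 8222)))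
 (.node (.node (.leaf 4095)
 (.leaf 8219))
 (.node (.leaf 4095)
 (.leaf 12565))))))
 (.node (.node (.node (.node (.node (.leaf 4339)
 (.leaf 4095))
 (.node (.leaf 12726)
 (.leaf 13000)))
 (.node (.node (.leaf 13168)
 (.leaf 4289))
 (.node (.leaf 4095)
 (.leaf 4095))))
 (.node (.node (.node (.leaf 4095)
 (.leaf 4095))
 (.node (.leaf 8200)
 (.leaf 12428)))
 (.node (.node (.leaf 4095)
 (.leaf 4095))
 (.node (.leaf 4095)
 (.leaf 4095)))))
 (.node (.node (.node (.node (.leaf 4095)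
 (.leaf 12854))
 (.node (.leaf 12322)
 (.leaf 4095)))
 (.node (.node (.leaf 12984)
 (.leaf 12515))
 (.node (.leaf 13032)
 (.leaf 4095))))
 (.node (.node (.node (.leaf 13030)
 (.leaf 4724))
 (.node (.leaf 13198)
 (.leaf 4095)))
 (.node (.node (.leaf 12319)
 (.leaf 12566))
 (.node (.leaf 12784)
 (.leaf 13071))))))

def tiClOfB3 : RT := .node (.node (.node (.node (.node (.node (.leaf 8197)
 (.leaf 12342))
 (.node (.leaf 4095)
 (.leaf 8202)))
 (.node (.node (.leaf 4247)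
 (.leaf 13015))
 (.node (.leaf 12433)
 (.leaf 8210))))
 (.node (.node (.node (.leaf 4230)
 (.leaf 4095))
 (.node (.leaf 8257)
 (.leaf 4095)))
 (.node (.node (.leaf 4359)
 (.leaf 8262))
 (.node (.leaf 13299)
 (.leaf 4095)))))
 (.node (.node (.node (.node (.leaf 12832)
 (.leaf 4095))
 (.node (.leaf 4095)
 (.leaf 13211)))
 (.node (.node (.leaf 4095)
 (.leaf 4095))
 (.node (.leaf 4103)
 (.leaf 4095))))
 (.node (.node (.node (.leaf 12742)
 (.leaf 4095))
 (.node (.leaf 4095)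
 (.leaf 4095)))
 (.node (.node (.leaf 13267)
 (.leaf 4095))
 (.node (.leaf 12903)
 (.leaf 13284))))))
 (.node (.node (.node (.node (.node (.leaf 4095)
 (.leaf 4095))
 (.node (.leaf 4581)
 (.leaf 8239)))
 (.node (.node (.leaf 13292)
 (.leaf 12670))
 (.node (.leaf 4095)
 (.leaf 12992))))
 (.node (.node (.node (.leaf 4095)
 (.leaf 12496))
 (.node (.leaf 4095)
 (.leaf 4095)))
 (.node (.node (.leaf 4399)
 (.leaf 12691))
 (.node (.leaf 4095)
 (.leaf 4095)))))
 (.node (.node (.node (.node (.leaf 12510)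
 (.leaf 12783))
 (.node (.leaf 4095)
 (.leaf 4280)))
 (.node (.node (.leaf 4095)
 (.leaf 4095))
 (.node (.leaf 4095)
 (.leaf 4095))))
 (.node (.node (.node (.leaf 4095)
 (.leaf 4095))
 (.node (.leaf 4095)
 (.leaf 4095)))
 (.node (.node (.leaf 12699)
 (.leaf 4095))
 (.node (.leaf 12442)
 (.leaf 4095))))))

def tiClOfB4 : RT := .node (.node (.node (.node (.node (.node (.leaf 12907)
 (.leaf 4095))
 (.node (.leaf 12799)
 (.leaf 13096)))
 (.node (.node (.leaf 4511)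
 (.leaf 4095))
 (.node (.leaf 4554)
 (.leaf 4095))))
 (.node (.node (.node (.leaf 4095)
 (.leaf 4095))
 (.node (.leaf 4095)
 (.leaf 4095)))
 (.node (.node (.leaf 4095)
 (.leaf 12470))
 (.node (.leaf 4487)
 (.leaf 12749)))))
 (.node (.node (.node (.node (.leaf 13119)
 (.leaf 4095))
 (.node (.leaf 4095)
 (.leaf 4095)))
 (.node (.node (.leaf 13182)
 (.leaf 4132))
 (.node (.leaf 4164)
 (.leaf 13038))))
 (.node (.node (.node (.leaf 12745)
 (.leaf 12407))
 (.node (.leaf 4095)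
 (.leaf 13311)))
 (.node (.node (.leaf 4095)
 (.leaf 12789))
 (.node (.leaf 12605)
 (.leaf 4095))))))
 (.node (.node (.node (.node (.node (.leaf 4095)
 (.leaf 4095))
 (.node (.leaf 4095)
 (.leaf 4095)))
 (.node (.node (.leaf 13133)
 (.leaf 4398))
 (.node (.leaf 4095)
 (.leaf 4095))))
 (.node (.node (.node (.leaf 4095)
 (.leaf 12942))
 (.node (.leaf 4095)
 (.leaf 4095)))
 (.node (.node (.leaf 4109)
 (.leaf 4095))
 (.node (.leaf 4095)
 (.leaf 12651)))))
 (.node (.node (.node (.node (.leaf 13153)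
 (.leaf 4315))
 (.node (.leaf 4095)
 (.leaf 4095)))
 (.node (.node (.leaf 4095)
 (.leaf 4095))
 (.node (.leaf 4095)
 (.leaf 12921))))
 (.node (.node (.node (.leaf 4095)
 (.leaf 4095))
 (.node (.leaf 4095)
 (.leaf 12608)))
 (.node (.node (.leaf 4095)
 (.leaf 4095))
 (.node (.leaf 4095)
 (.leaf 13020))))))

def tiClOfB5 : RT := .node (.node (.node (.node (.node (.node (.leaf 4095)
 (.leaf 12723))
 (.node (.leaf 4095)
 (.leaf 4095)))
 (.node (.node (.leaf 4122)
 (.leaf 4095))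
 (.node (.leaf 4095)
 (.leaf 4095))))
 (.node (.node (.node (.leaf 4095)
 (.leaf 4095))
 (.node (.leaf 12926)
 (.leaf 4095)))
 (.node (.node (.leaf 4095)
 (.leaf 4095))
 (.node (.leaf 12402)
 (.leaf 4095)))))
 (.node (.node (.node (.node (.leaf 12349)
 (.leaf 4095))
 (.node (.leaf 12634)
 (.leaf 4095)))
 (.node (.node (.leaf 13184)
 (.leaf 4095))
 (.node (.leaf 4095)
 (.leaf 4379))))
 (.node (.node (.node (.leaf 4095)
 (.leaf 4095))
 (.node (.leaf 4095)
 (.leaf 4095)))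
 (.node (.node (.leaf 4095)
 (.leaf 4095))
 (.node (.leaf 4244)
 (.leaf 4095))))))
 (.node (.node (.node (.node (.node (.leaf 12688)
 (.leaf 4095))
 (.node (.leaf 4095)
 (.leaf 4095)))
 (.node (.node (.leaf 4095)
 (.leaf 4095))
 (.node (.leaf 12753)
 (.leaf 4296))))
 (.node (.node (.node (.leaf 4095)
 (.leaf 4095))
 (.node (.leaf 4095)
 (.leaf 4095)))
 (.node (.node (.leaf 4095)
 (.leaf 4095))
 (.node (.leaf 4095)
 (.leaf 4095)))))
 (.node (.node (.node (.node (.leaf 4095)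
 (.leaf 4095))
 (.node (.leaf 13199)
 (.leaf 4095)))
 (.node (.node (.leaf 4095)
 (.leaf 12376))
 (.node (.leaf 12419)
 (.leaf 4095))))
 (.node (.node (.node (.leaf 13180)
 (.leaf 12369))
 (.node (.leaf 12978)
 (.leaf 4095)))
 (.node (.node (.leaf 4095)
 (.leaf 13112))
 (.node (.leaf 13216)
 (.leaf 12491))))))

def tiClOfB6 : RT := .node (.node (.node (.node (.node (.node (.leaf 12902)
 (.leaf 4095))
 (.node (.leaf 12750)
 (.leaf 12413)))
 (.node (.node (.leaf 4095)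
 (.leaf 4095))
 (.node (.leaf 4291)
 (.leaf 4095))))
 (.node (.node (.node (.leaf 4095)
 (.leaf 4095))
 (.node (.leaf 4095)
 (.leaf 4095)))
 (.node (.node (.leaf 4165)
 (.leaf 13239))
 (.node (.leaf 4095)
 (.leaf 4095)))))
 (.node (.node (.node (.node (.leaf 4095)
 (.leaf 4095))
 (.node (.leaf 4095)
 (.leaf 4095)))
 (.node (.node (.leaf 4095)
 (.leaf 4396))
 (.node (.leaf 13041)
 (.leaf 4373))))
 (.node (.node (.node (.leaf 12622)
 (.leaf 4095))
 (.node (.leaf 12768)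
 (.leaf 4239)))
 (.node (.node (.leaf 4095)
 (.leaf 4095))
 (.node (.leaf 4095)
 (.leaf 12933))))))
 (.node (.node (.node (.node (.node (.leaf 4095)
 (.leaf 12806))
 (.node (.leaf 12860)
 (.leaf 4095)))
 (.node (.node (.leaf 4095)
 (.leaf 12958))
 (.node (.leaf 4095)
 (.leaf 4095))))
 (.node (.node (.node (.leaf 4095)
 (.leaf 4095))
 (.node (.leaf 4492)
 (.leaf 4095)))
 (.node (.node (.leaf 4095)
 (.leaf 4616))
 (.node (.leaf 12625)
 (.leaf 4141)))))
 (.node (.node (.node (.node (.leaf 12829)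
 (.leaf 13240))
 (.node (.leaf 4355)
 (.leaf 4095)))
 (.node (.node (.leaf 4095)
 (.leaf 4095))
 (.node (.leaf 4095)
 (.leaf 4095))))
 (.node (.node (.node (.leaf 4095)
 (.leaf 4095))
 (.node (.leaf 4095)
 (.leaf 4095)))
 (.node (.node (.leaf 13225)
 (.leaf 4095))
 (.node (.leaf 4095)
 (.leaf 12923))))))

def tiClOfB7 : RT := .node (.node (.node (.node (.node (.node (.leaf 13309)
 (.leaf 4095))
 (.node (.leaf 12618)
 (.leaf 4281)))
 (.node (.node (.leaf 4095)
 (.leaf 4095))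
 (.node (.leaf 4095)
 (.leaf 4095))))
 (.node (.node (.node (.leaf 4095)
 (.leaf 4095))
 (.node (.leaf 4095)
 (.leaf 13251)))
 (.node (.node (.leaf 4095)
 (.leaf 4095))
 (.node (.leaf 4203)
 (.leaf 4095)))))
 (.node (.node (.node (.node (.leaf 12338)
 (.leaf 4358))
 (.node (.leaf 4095)
 (.leaf 13174)))
 (.node (.node (.leaf 4095)
 (.leaf 4095))
 (.node (.leaf 4095)
 (.leaf 4095))))
 (.node (.node (.node (.leaf 12714)
 (.leaf 4095))
 (.node (.leaf 4095)
 (.leaf 4173)))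
 (.node (.node (.leaf 4095)
 (.leaf 4095))
 (.node (.leaf 4095)
 (.leaf 4095))))))
 (.node (.node (.node (.node (.node (.leaf 4095)
 (.leaf 12564))
 (.node (.leaf 13053)
 (.leaf 4095)))
 (.node (.node (.leaf 4095)
 (.leaf 4095))
 (.node (.leaf 4095)
 (.leaf 4095))))
 (.node (.node (.node (.leaf 4095)
 (.leaf 4095))
 (.node (.leaf 4095)
 (.leaf 12480)))
 (.node (.node (.leaf 12848)
 (.leaf 13177))
 (.node (.leaf 4183)
 (.leaf 12542)))))
 (.node (.node (.node (.node (.leaf 12663)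
 (.leaf 4095))
 (.node (.leaf 4095)
 (.leaf 4095)))
 (.node (.node (.leaf 4095)
 (.leaf 4095))
 (.node (.leaf 4095)
 (.leaf 4300))))
 (.node (.node (.node (.leaf 12374)
 (.leaf 4095))
 (.node (.leaf 12486)
 (.leaf 12297)))
 (.node (.node (.leaf 4095)
 (.leaf 4095))
 (.node (.leaf 4095)
 (.leaf 4095))))))

def tiClOfB8 : RT := .node (.node (.node (.node (.node (.node (.leaf 4167)
 (.leaf 13206))
 (.node (.leaf 4095)
 (.leaf 4095)))
 (.node (.node (.leaf 4095)
 (.leaf 4498))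
 (.node (.leaf 4095)
 (.leaf 4095))))
 (.node (.node (.node (.leaf 12394)
 (.leaf 4095))
 (.node (.leaf 4095)
 (.leaf 4095)))
 (.node (.node (.leaf 4095)
 (.leaf 4095))
 (.node (.leaf 4095)
 (.leaf 12484)))))
 (.node (.node (.node (.node (.leaf 4690)
 (.leaf 4095))
 (.node (.leaf 4420)
 (.leaf 4095)))
 (.node (.node (.leaf 4468)
 (.leaf 13246))
 (.node (.leaf 4095)
 (.leaf 4095))))
 (.node (.node (.node (.leaf 4095)
 (.leaf 4095))
 (.node (.leaf 4095)
 (.leaf 4095)))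
 (.node (.node (.leaf 4095)
 (.leaf 4095))
 (.node (.leaf 4095)
 (.leaf 4095))))))
 (.node (.node (.node (.node (.node (.leaf 4095)
 (.leaf 4095))
 (.node (.leaf 4095)
 (.leaf 4095)))
 (.node (.node (.leaf 4095)
 (.leaf 4095))
 (.node (.leaf 12453)
 (.leaf 13158))))
 (.node (.node (.node (.leaf 13026)
 (.leaf 4095))
 (.node (.leaf 4219)
 (.leaf 4095)))
 (.node (.node (.leaf 12664)
 (.leaf 4095))
 (.node (.leaf 4095)
 (.leaf 4095)))))
 (.node (.node (.node (.node (.leaf 4095)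
 (.leaf 4095))
 (.node (.leaf 4095)
 (.leaf 13247)))
 (.node (.node (.leaf 4095)
 (.leaf 4095))
 (.node (.leaf 4095)
 (.leaf 4095))))
 (.node (.node (.node (.leaf 4095)
 (.leaf 4095))
 (.node (.leaf 4095)
 (.leaf 4493)))
 (.node (.node (.leaf 4192)
 (.leaf 12886))
 (.node (.leaf 4095)
 (.leaf 4095))))))

def tiClOfB9 : RT := .node (.node (.node (.node (.node (.node (.leaf 12692)
 (.leaf 13172))
 (.node (.leaf 4095)
 (.leaf 13306)))
 (.node (.node (.leaf 4336)
 (.leaf 4095))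
 (.node (.leaf 4433)
 (.leaf 4391))))
 (.node (.node (.node (.leaf 4095)
 (.leaf 4095))
 (.node (.leaf 4095)
 (.leaf 4624)))
 (.node (.node (.leaf 12574)
 (.leaf 4095))
 (.node (.leaf 13285)
 (.leaf 4430)))))
 (.node (.node (.node (.node (.leaf 4095)
 (.leaf 13047))
 (.node (.leaf 4095)
 (.leaf 4095)))
 (.node (.node (.leaf 4095)
 (.leaf 12757))
 (.node (.leaf 4261)
 (.leaf 12946))))
 (.node (.node (.node (.leaf 4095)
 (.leaf 12391))
 (.node (.leaf 4095)
 (.leaf 4095)))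
 (.node (.node (.leaf 12934)
 (.leaf 4095))
 (.node (.leaf 12963)
 (.leaf 4095))))))
 (.node (.node (.node (.node (.node (.leaf 4095)
 (.leaf 4510))
 (.node (.leaf 4095)
 (.leaf 4095)))
 (.node (.node (.leaf 4095)
 (.leaf 12962))
 (.node (.leaf 4095)
 (.leaf 4095))))
 (.node (.node (.node (.leaf 4168)
 (.leaf 4095))
 (.node (.leaf 4095)
 (.leaf 4095)))
 (.node (.node (.leaf 12895)
 (.leaf 4095))
 (.node (.leaf 13036)
 (.leaf 4095)))))
 (.node (.node (.node (.node (.leaf 4095)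
 (.leaf 4095))
 (.node (.leaf 4679)
 (.leaf 12463)))
 (.node (.node (.leaf 4095)
 (.leaf 4095))
 (.node (.leaf 4686)
 (.leaf 4095))))
 (.node (.node (.node (.leaf 4519)
 (.leaf 4095))
 (.node (.leaf 4095)
 (.leaf 4095)))
 (.node (.node (.leaf 12913)
 (.leaf 4095))
 (.node (.leaf 12668)
 (.leaf 4184))))))

def tiClOfB10 : RT := .node (.node (.node (.node (.node (.node (.leaf 12359)
 (.leaf 4095))
 (.node (.leaf 4095)
 (.leaf 12334)))
 (.node (.node (.leaf 4095)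
 (.leaf 4095))
 (.node (.leaf 12466)
 (.leaf 12435))))
 (.node (.node (.node (.leaf 4095)
 (.leaf 4095))
 (.node (.leaf 12501)
 (.leaf 4095)))
 (.node (.node (.leaf 12910)
 (.leaf 4095))
 (.node (.leaf 4095)
 (.leaf 4095)))))
 (.node (.node (.node (.node (.leaf 12779)
 (.leaf 4095))
 (.node (.leaf 4095)
 (.leaf 12471)))
 (.node (.node (.leaf 4095)
 (.leaf 4095))
 (.node (.leaf 4095)
 (.leaf 4095))))
 (.node (.node (.node (.leaf 13034)
 (.leaf 12593))
 (.node (.leaf 4095)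
 (.leaf 4095)))
 (.node (.node (.leaf 12388)
 (.leaf 4095))
 (.node (.leaf 4095)
 (.leaf 4095))))))
 (.node (.node (.node (.node (.node (.leaf 4199)
 (.leaf 12809))
 (.node (.leaf 4095)
 (.leaf 12436)))
 (.node (.node (.leaf 13195)
 (.leaf 12880))
 (.node (.leaf 13236)
 (.leaf 4095))))
 (.node (.node (.node (.leaf 13273)
 (.leaf 4095))
 (.node (.leaf 13127)
 (.leaf 4095)))
 (.node (.node (.leaf 4095)
 (.leaf 4095))
 (.node (.leaf 4095)
 (.leaf 4095)))))
 (.node (.node (.node (.node (.leaf 4095)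
 (.leaf 4095))
 (.node (.leaf 12918)
 (.leaf 4712)))
 (.node (.node (.leaf 4095)
 (.leaf 4095))
 (.node (.leaf 4461)
 (.leaf 4095))))
 (.node (.node (.node (.leaf 4095)
 (.leaf 4095))
 (.node (.leaf 4095)
 (.leaf 4095)))
 (.node (.node (.leaf 4095)
 (.leaf 4095))
 (.node (.leaf 12569)
 (.leaf 4095))))))

def tiClOfB11 : RT := .node (.node (.node (.node (.node (.node (.leaf 4095)
 (.leaf 12765))
 (.node (.leaf 4095)
 (.leaf 13207)))
 (.node (.node (.leaf 4095)
 (.leaf 4095))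
 (.node (.leaf 4095)
 (.leaf 4095))))
 (.node (.node (.node (.leaf 4151)
 (.leaf 4095))
 (.node (.leaf 12842)
 (.leaf 4095)))
 (.node (.node (.leaf 4095)
 (.leaf 4095))
 (.node (.leaf 13107)
 (.leaf 4095)))))
 (.node (.node (.node (.node (.leaf 4416)
 (.leaf 12498))
 (.node (.leaf 13025)
 (.leaf 4095)))
 (.node (.node (.leaf 12561)
 (.leaf 4095))
 (.node (.leaf 4095)
 (.leaf 4277))))
 (.node (.node (.node (.leaf 4095)
 (.leaf 4095))
 (.node (.leaf 4095)
 (.leaf 4095)))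
 (.node (.node (.leaf 4095)
 (.leaf 4095))
 (.node (.leaf 4095)
 (.leaf 4356))))))
 (.node (.node (.node (.node (.node (.leaf 4095)
 (.leaf 4294))
 (.node (.leaf 13077)
 (.leaf 12892)))
 (.node (.node (.leaf 4419)
 (.leaf 4095))
 (.node (.leaf 4095)
 (.leaf 4095))))
 (.node (.node (.node (.leaf 4457)
 (.leaf 13249))
 (.node (.leaf 4515)
 (.leaf 4095)))
 (.node (.node (.leaf 4549)
 (.leaf 4095))
 (.node (.leaf 4095)
 (.leaf 4095)))))
 (.node (.node (.node (.node (.leaf 4095)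
 (.leaf 12712))
 (.node (.leaf 4095)
 (.leaf 4095)))
 (.node (.node (.leaf 4431)
 (.leaf 8208))
 (.node (.leaf 4095)
 (.leaf 4095))))
 (.node (.node (.node (.leaf 4580)
 (.leaf 12400))
 (.node (.leaf 4095)
 (.leaf 4095)))
 (.node (.node (.leaf 4095)
 (.leaf 4390))
 (.node (.leaf 4095)
 (.leaf 4095))))))

def tiClOfB12 : RT := .node (.node (.node (.node (.node (.node (.leaf 12329)
 (.leaf 4095))
 (.node (.leaf 4241)
 (.leaf 4352)))
 (.node (.node (.leaf 4582)
 (.leaf 4095))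
 (.node (.leaf 4095)
 (.leaf 4351))))
 (.node (.node (.node (.leaf 13183)
 (.leaf 4095))
 (.node (.leaf 4497)
 (.leaf 4095)))
 (.node (.node (.leaf 8235)
 (.leaf 4095))
 (.node (.leaf 4095)
 (.leaf 4282)))))
 (.node (.node (.node (.node (.leaf 4095)
 (.leaf 4297))
 (.node (.leaf 4095)
 (.leaf 8213)))
 (.node (.node (.leaf 4116)
 (.leaf 4726))
 (.node (.leaf 4564)
 (.leaf 4095))))
 (.node (.node (.node (.leaf 4095)
 (.leaf 12964))
 (.node (.leaf 4095)
 (.leaf 4395)))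
 (.node (.node (.leaf 4583)
 (.leaf 4095))
 (.node (.leaf 12838)
 (.leaf 12803))))))
 (.node (.node (.node (.node (.node (.leaf 12583)
 (.leaf 4095))
 (.node (.leaf 4095)
 (.leaf 4095)))
 (.node (.node (.leaf 4095)
 (.leaf 13218))
 (.node (.leaf 4095)
 (.leaf 13102))))
 (.node (.node (.node (.leaf 4095)
 (.leaf 4246))
 (.node (.leaf 12872)
 (.leaf 4095)))
 (.node (.node (.leaf 4095)
 (.leaf 4639))
 (.node (.leaf 4095)
 (.leaf 8266)))))
 (.node (.node (.node (.node (.leaf 4095)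
 (.leaf 4667))
 (.node (.leaf 4095)
 (.leaf 13290)))
 (.node (.node (.leaf 4095)
 (.leaf 4095))
 (.node (.leaf 4095)
 (.leaf 4095))))
 (.node (.node (.node (.leaf 4095)
 (.leaf 4095))
 (.node (.leaf 4095)
 (.leaf 4098)))
 (.node (.node (.leaf 4095)
 (.leaf 12326))
 (.node (.leaf 4095)
 (.leaf 13118))))))

def tiClOfB13 : RT := .node (.node (.node (.node (.node (.node (.leaf 13065)
 (.leaf 4095))
 (.node (.leaf 4095)
 (.leaf 4571)))
 (.node (.node (.leaf 4149)
 (.leaf 13196))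
 (.node (.leaf 4451)
 (.leaf 4095))))
 (.node (.node (.node (.leaf 12827)
 (.leaf 4095))
 (.node (.leaf 4095)
 (.leaf 4095)))
 (.node (.node (.leaf 4095)
 (.leaf 16391))
 (.node (.leaf 4594)
 (.leaf 4095)))))
 (.node (.node (.node (.node (.leaf 4095)
 (.leaf 4095))
 (.node (.leaf 4095)
 (.leaf 4452)))
 (.node (.node (.leaf 4095)
 (.leaf 4227))
 (.node (.leaf 16390)
 (.leaf 4095))))
 (.node (.node (.node (.leaf 4095)
 (.leaf 4153))
 (.node (.leaf 4735)
 (.leaf 4305)))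
 (.node (.node (.leaf 4656)
 (.leaf 12562))
 (.node (.leaf 12557)
 (.leaf 12867))))))
 (.node (.node (.node (.node (.node (.leaf 12452)
 (.leaf 4095))
 (.node (.leaf 4095)
 (.leaf 4095)))
 (.node (.node (.leaf 4095)
 (.leaf 4155))
 (.node (.leaf 8269)
 (.leaf 12427))))
 (.node (.node (.node (.leaf 4095)
 (.leaf 4438))
 (.node (.leaf 4095)
 (.leaf 12530)))
 (.node (.node (.leaf 4095)
 (.leaf 4095))
 (.node (.leaf 4095)
 (.leaf 13201)))))
 (.node (.node (.node (.node (.leaf 4198)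
 (.leaf 4095))
 (.node (.leaf 12682)
 (.leaf 4095)))
 (.node (.node (.leaf 4095)
 (.leaf 12754))
 (.node (.leaf 4095)
 (.leaf 8207))))
 (.node (.node (.node (.leaf 4095)
 (.leaf 4095))
 (.node (.leaf 4162)
 (.leaf 4095)))
 (.node (.node (.leaf 4288)
 (.leaf 12760))
 (.node (.leaf 12300)
 (.leaf 4137))))))

def tiClOfB14 : RT := .node (.node (.node (.node (.node (.node (.leaf 4115)
 (.leaf 4095))
 (.node (.leaf 4095)
 (.leaf 13230)))
 (.node (.node (.leaf 4095)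
 (.leaf 4095))
 (.node (.leaf 4095)
 (.leaf 4095))))
 (.node (.node (.node (.leaf 4095)
 (.leaf 4095))
 (.node (.leaf 12762)
 (.leaf 12610)))
 (.node (.node (.leaf 4095)
 (.leaf 4524))
 (.node (.leaf 13270)
 (.leaf 8255)))))
 (.node (.node (.node (.node (.leaf 4133)
 (.leaf 13271))
 (.node (.leaf 4095)
 (.leaf 12858)))
 (.node (.node (.leaf 8231)
 (.leaf 8203))
 (.node (.leaf 4150)
 (.leaf 8261))))
 (.node (.node (.node (.leaf 4095)
 (.leaf 13291))
 (.node (.leaf 8214)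
 (.leaf 4361)))
 (.node (.node (.leaf 4095)
 (.leaf 4095))
 (.node (.leaf 4095)
 (.leaf 13024))))))
 (.node (.node (.node (.node (.node (.leaf 12717)
 (.leaf 4095))
 (.node (.leaf 12380)
 (.leaf 4095)))
 (.node (.node (.leaf 4095)
 (.leaf 8206))
 (.node (.leaf 4347)
 (.leaf 4095))))
 (.node (.node (.node (.leaf 4095)
 (.leaf 4095))
 (.node (.leaf 12379)
 (.leaf 4095)))
 (.node (.node (.leaf 13001)
 (.leaf 4095))
 (.node (.leaf 4095)
 (.leaf 13105)))))
 (.node (.node (.node (.node (.leaf 4095)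
 (.leaf 4514))
 (.node (.leaf 4095)
 (.leaf 12897)))
 (.node (.node (.leaf 12340)
 (.leaf 4095))
 (.node (.leaf 13110)
 (.leaf 4095))))
 (.node (.node (.node (.leaf 4095)
 (.leaf 12478))
 (.node (.leaf 4095)
 (.leaf 13123)))
 (.node (.node (.leaf 4095)
 (.leaf 12725))
 (.node (.leaf 4095)
 (.leaf 4095))))))

def tiClOfB15 : RT := .node (.node (.node (.node (.node (.node (.leaf 4095)
 (.leaf 4095))
 (.node (.leaf 4095)
 (.leaf 4221)))
 (.node (.node (.leaf 8199)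
 (.leaf 4095))
 (.node (.leaf 4235)
 (.leaf 4095))))
 (.node (.node (.node (.leaf 4095)
 (.leaf 4095))
 (.node (.leaf 13013)
 (.leaf 13242)))
 (.node (.node (.leaf 4095)
 (.leaf 4095))
 (.node (.leaf 12386)
 (.leaf 4095)))))
 (.node (.node (.node (.node (.leaf 4095)
 (.leaf 4095))
 (.node (.leaf 4095)
 (.leaf 4463)))
 (.node (.node (.leaf 4539)
 (.leaf 12776))
 (.node (.leaf 4499)
 (.leaf 4095))))
 (.node (.node (.node (.leaf 8234)
 (.leaf 4095))
 (.node (.leaf 4334)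
 (.leaf 4386)))
 (.node (.node (.leaf 4671)
 (.leaf 13300))
 (.node (.leaf 4095)
 (.leaf 13293))))))
 (.node (.node (.node (.node (.node (.leaf 12711)
 (.leaf 4517))
 (.node (.leaf 4095)
 (.leaf 4095)))
 (.node (.node (.leaf 4095)
 (.leaf 12944))
 (.node (.leaf 12666)
 (.leaf 4095))))
 (.node (.node (.node (.leaf 4095)
 (.leaf 12775))
 (.node (.leaf 12807)
 (.leaf 4095)))
 (.node (.node (.leaf 4095)
 (.leaf 4095))
 (.node (.leaf 12894)
 (.leaf 4095)))))
 (.node (.node (.node (.node (.leaf 4095)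
 (.leaf 4095))
 (.node (.leaf 4095)
 (.leaf 4095)))
 (.node (.node (.leaf 4095)
 (.leaf 4200))
 (.node (.leaf 4095)
 (.leaf 12638))))
 (.node (.node (.node (.leaf 13048)
 (.leaf 12549))
 (.node (.leaf 12493)
 (.leaf 13231)))
 (.node (.node (.leaf 4095)
 (.leaf 4095))
 (.node (.leaf 4095)
 (.leaf 4682))))))

def tiClOfB16 : RT := .node (.node (.node (.node (.node (.node (.leaf 13205)
 (.leaf 4095))
 (.node (.leaf 13084)
 (.leaf 4095)))
 (.node (.node (.leaf 4095)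
 (.leaf 12773))
 (.node (.leaf 13260)
 (.leaf 4095))))
 (.node (.node (.node (.leaf 4179)
 (.leaf 13075))
 (.node (.leaf 12367)
 (.leaf 4694)))
 (.node (.node (.leaf 12671)
 (.leaf 4393))
 (.node (.leaf 4095)
 (.leaf 8194)))))
 (.node (.node (.node (.node (.leaf 12397)
 (.leaf 4565))
 (.node (.leaf 4653)
 (.leaf 12889)))
 (.node (.node (.leaf 4095)
 (.leaf 4095))
 (.node (.leaf 12716)
 (.leaf 4095))))
 (.node (.node (.node (.leaf 4662)
 (.leaf 12831))
 (.node (.leaf 4095)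
 (.leaf 12922)))
 (.node (.node (.leaf 4095)
 (.leaf 12687))
 (.node (.leaf 13101)
 (.leaf 12786))))))
 (.node (.node (.node (.node (.node (.leaf 4095)
 (.leaf 4095))
 (.node (.leaf 4095)
 (.leaf 4095)))
 (.node (.node (.leaf 4095)
 (.leaf 12630))
 (.node (.leaf 4095)
 (.leaf 13188))))
 (.node (.node (.node (.leaf 4095)
 (.leaf 4095))
 (.node (.leaf 4095)
 (.leaf 4483)))
 (.node (.node (.leaf 4126)
 (.leaf 12384))
 (.node (.leaf 8265)
 (.leaf 12660)))))
 (.node (.node (.node (.node (.leaf 12332)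
 (.leaf 12395))
 (.node (.leaf 4095)
 (.leaf 4095)))
 (.node (.node (.leaf 4324)
 (.leaf 4095))
 (.node (.leaf 8264)
 (.leaf 4095))))
 (.node (.node (.node (.leaf 4095)
 (.leaf 4095))
 (.node (.leaf 8229)
 (.leaf 12720)))
 (.node (.node (.leaf 12893)
 (.leaf 4095))
 (.node (.leaf 4095)
 (.leaf 12504))))))

def tiClOfB17 : RT := .node (.node (.node (.node (.node (.node (.leaf 4095)
 (.leaf 4095))
 (.node (.leaf 4095)
 (.leaf 4095)))
 (.node (.node (.leaf 4293)
 (.leaf 4095))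
 (.node (.leaf 12920)
 (.leaf 8247))))
 (.node (.node (.node (.leaf 12585)
 (.leaf 12525))
 (.node (.leaf 4095)
 (.leaf 4095)))
 (.node (.node (.leaf 4095)
 (.leaf 4625))
 (.node (.leaf 4384)
 (.leaf 4331)))))
 (.node (.node (.node (.node (.leaf 13209)
 (.leaf 4095))
 (.node (.leaf 4095)
 (.leaf 4641)))
 (.node (.node (.leaf 13011)
 (.leaf 13248))
 (.node (.leaf 4095)
 (.leaf 4095))))
 (.node (.node (.node (.leaf 4095)
 (.leaf 8245))
 (.node (.leaf 12844)
 (.leaf 12529)))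
 (.node (.node (.leaf 12333)
 (.leaf 12752))
 (.node (.leaf 4095)
 (.leaf 4095))))))
 (.node (.node (.node (.node (.node (.leaf 4095)
 (.leaf 12353))
 (.node (.leaf 4095)
 (.leaf 13092)))
 (.node (.node (.leaf 8223)
 (.leaf 4095))
 (.node (.leaf 4095)
 (.leaf 4095))))
 (.node (.node (.node (.leaf 13192)
 (.leaf 4095))
 (.node (.leaf 13148)
 (.leaf 13054)))
 (.node (.node (.leaf 4095)
 (.leaf 4453))
 (.node (.leaf 4095)
 (.leaf 4095)))))
 (.node (.node (.node (.node (.leaf 4095)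
 (.leaf 4095))
 (.node (.leaf 12635)
 (.leaf 4095)))
 (.node (.node (.leaf 4095)
 (.leaf 13213))
 (.node (.leaf 12798)
 (.leaf 4095))))
 (.node (.node (.node (.leaf 4362)
 (.leaf 4095))
 (.node (.leaf 4095)
 (.leaf 4095)))
 (.node (.node (.leaf 4095)
 (.leaf 12677))
 (.node (.leaf 4095)
 (.leaf 4413))))))

def tiClOfB18 : RT := .node (.node (.node (.node (.node (.node (.leaf 4095)
 (.leaf 12443))
 (.node (.leaf 4095)
 (.leaf 4095)))
 (.node (.node (.leaf 4700)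
 (.leaf 4095))
 (.node (.leaf 13067)
 (.leaf 4095))))
 (.node (.node (.node (.leaf 4135)
 (.leaf 4095))
 (.node (.leaf 4095)
 (.leaf 12372)))
 (.node (.node (.leaf 4284)
 (.leaf 4095))
 (.node (.leaf 12911)
 (.leaf 4095)))))
 (.node (.node (.node (.node (.leaf 4421)
 (.leaf 4095))
 (.node (.leaf 13085)
 (.leaf 4095)))
 (.node (.node (.leaf 12939)
 (.leaf 13111))
 (.node (.leaf 4095)
 (.leaf 13070))))
 (.node (.node (.node (.leaf 12755)
 (.leaf 4095))
 (.node (.leaf 8198)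
 (.leaf 13288)))
 (.node (.node (.leaf 13274)
 (.leaf 4095))
 (.node (.leaf 4095)
 (.leaf 4095))))))
 (.node (.node (.node (.node (.node (.leaf 4095)
 (.leaf 4095))
 (.node (.leaf 12572)
 (.leaf 12998)))
 (.node (.node (.leaf 4095)
 (.leaf 4095))
 (.node (.leaf 4397)
 (.leaf 4095))))
 (.node (.node (.node (.leaf 4717)
 (.leaf 4095))
 (.node (.leaf 4095)
 (.leaf 12975)))
 (.node (.node (.leaf 12512)
 (.leaf 4424))
 (.node (.leaf 12355)
 (.leaf 12409)))))
 (.node (.node (.node (.node (.leaf 13021)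
 (.leaf 4225))
 (.node (.leaf 4526)
 (.leaf 4095)))
 (.node (.node (.leaf 4095)
 (.leaf 4095))
 (.node (.leaf 4574)
 (.leaf 4095))))
 (.node (.node (.node (.leaf 12966)
 (.leaf 4095))
 (.node (.leaf 4095)
 (.leaf 4095)))
 (.node (.node (.leaf 4095)
 (.leaf 12678))
 (.node (.leaf 4095)
 (.leaf 13132))))))

def tiClOfB19 : RT := .node (.node (.node (.node (.node (.node (.leaf 12655)
 (.leaf 4095))
 (.node (.leaf 4095)
 (.leaf 13138)))
 (.node (.node (.leaf 4095)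
 (.leaf 4095))
 (.node (.leaf 4095)
 (.leaf 13072))))
 (.node (.node (.node (.leaf 4095)
 (.leaf 4270))
 (.node (.leaf 4166)
 (.leaf 4095)))
 (.node (.node (.leaf 12517)
 (.leaf 4095))
 (.node (.leaf 4095)
 (.leaf 4095)))))
 (.node (.node (.node (.node (.leaf 12862)
 (.leaf 12331))
 (.node (.leaf 4095)
 (.leaf 4095)))
 (.node (.node (.leaf 4095)
 (.leaf 4095))
 (.node (.leaf 4095)
 (.leaf 4342))))
 (.node (.node (.node (.leaf 4142)
 (.leaf 4095))
 (.node (.leaf 4095)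
 (.leaf 13046)))
 (.node (.node (.leaf 4095)
 (.leaf 4095))
 (.node (.leaf 4095)
 (.leaf 4095))))))
 (.node (.node (.node (.node (.node (.leaf 4095)
 (.leaf 4654))
 (.node (.leaf 4095)
 (.leaf 4095)))
 (.node (.node (.leaf 12649)
 (.leaf 4095))
 (.node (.leaf 4095)
 (.leaf 4095))))
 (.node (.node (.node (.leaf 4095)
 (.leaf 12684))
 (.node (.leaf 4095)
 (.leaf 4698)))
 (.node (.node (.leaf 12341)
 (.leaf 4095))
 (.node (.leaf 4095)
 (.leaf 4210)))))
 (.node (.node (.node (.node (.leaf 12293)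
 (.leaf 4095))
 (.node (.leaf 4095)
 (.leaf 4095)))
 (.node (.node (.leaf 4095)
 (.leaf 4681))
 (.node (.leaf 4095)
 (.leaf 4095))))
 (.node (.node (.node (.leaf 4095)
 (.leaf 4095))
 (.node (.leaf 4095)
 (.leaf 4095)))
 (.node (.node (.leaf 4095)
 (.leaf 4095))
 (.node (.leaf 4095)
 (.leaf 4095))))))

def tiClOfB20 : RT := .node (.node (.node (.node (.node (.node (.leaf 4095)
 (.leaf 4095))
 (.node (.leaf 4095)
 (.leaf 12840)))
 (.node (.node (.leaf 4425)
 (.leaf 4095))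
 (.node (.leaf 4095)
 (.leaf 4095))))
 (.node (.node (.node (.leaf 12559)
 (.leaf 4095))
 (.node (.leaf 4095)
 (.leaf 4095)))
 (.node (.node (.leaf 4095)
 (.leaf 4095))
 (.node (.leaf 4095)
 (.leaf 12819)))))
 (.node (.node (.node (.node (.leaf 4095)
 (.leaf 4095))
 (.node (.leaf 13171)
 (.leaf 12362)))
 (.node (.node (.leaf 13214)
 (.leaf 4095))
 (.node (.leaf 4095)
 (.leaf 12884))))
 (.node (.node (.node (.leaf 13254)
 (.leaf 4095))
 (.node (.leaf 4095)
 (.leaf 4095)))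
 (.node (.node (.leaf 4095)
 (.leaf 4095))
 (.node (.leaf 12454)
 (.leaf 4238))))))
 (.node (.node (.node (.node (.node (.leaf 12596)
 (.leaf 4095))
 (.node (.leaf 4095)
 (.leaf 13222)))
 (.node (.node (.leaf 4095)
 (.leaf 12772))
 (.node (.leaf 4144)
 (.leaf 12735))))
 (.node (.node (.node (.leaf 4095)
 (.leaf 4095))
 (.node (.leaf 4508)
 (.leaf 4095)))
 (.node (.node (.leaf 12370)
 (.leaf 4095))
 (.node (.leaf 4095)
 (.leaf 4095)))))
 (.node (.node (.node (.node (.leaf 4701)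
 (.leaf 4095))
 (.node (.leaf 13189)
 (.leaf 4211)))
 (.node (.node (.leaf 12967)
 (.leaf 4095))
 (.node (.leaf 13006)
 (.leaf 4095))))
 (.node (.node (.node (.leaf 4095)
 (.leaf 4095))
 (.node (.leaf 13257)
 (.leaf 4618)))
 (.node (.node (.leaf 4490)
 (.leaf 13173))
 (.node (.leaf 4577)
 (.leaf 4095))))))

def tiClOfB21 : RT := .node (.node (.node (.node (.node (.node (.leaf 4385)
 (.leaf 4095))
 (.node (.leaf 4318)
 (.leaf 4233)))
 (.node (.node (.leaf 4095)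
 (.leaf 4095))
 (.node (.leaf 13037)
 (.leaf 4095))))
 (.node (.node (.node (.leaf 4095)
 (.leaf 4095))
 (.node (.leaf 4095)
 (.leaf 4095)))
 (.node (.node (.leaf 4095)
 (.leaf 4603))
 (.node (.leaf 13228)
 (.leaf 4095)))))
 (.node (.node (.node (.node (.leaf 4095)
 (.leaf 4224))
 (.node (.leaf 12430)
 (.leaf 4095)))
 (.node (.node (.leaf 4095)
 (.leaf 4095))
 (.node (.leaf 12852)
 (.leaf 4095))))
 (.node (.node (.node (.leaf 4648)
 (.leaf 12303))
 (.node (.leaf 12320)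
 (.leaf 4095)))
 (.node (.node (.leaf 4095)
 (.leaf 4095))
 (.node (.leaf 12352)
 (.leaf 4264))))))
 (.node (.node (.node (.node (.node (.leaf 13245)
 (.leaf 4095))
 (.node (.leaf 12787)
 (.leaf 4095)))
 (.node (.node (.leaf 4095)
 (.leaf 12506))
 (.node (.leaf 4467)
 (.leaf 4095))))
 (.node (.node (.node (.leaf 4095)
 (.leaf 13304))
 (.node (.leaf 4095)
 (.leaf 4345)))
 (.node (.node (.leaf 13163)
 (.leaf 4095))
 (.node (.leaf 4095)
 (.leaf 12887)))))
 (.node (.node (.node (.node (.leaf 4095)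
 (.leaf 4095))
 (.node (.leaf 12980)
 (.leaf 4095)))
 (.node (.node (.leaf 4095)
 (.leaf 4513))
 (.node (.leaf 12563)
 (.leaf 4697))))
 (.node (.node (.node (.leaf 4095)
 (.leaf 4095))
 (.node (.leaf 4095)
 (.leaf 4095)))
 (.node (.node (.leaf 4095)
 (.leaf 4642))
 (.node (.leaf 4095)
 (.leaf 4095))))))

def tiClOfB22 : RT := .node (.node (.node (.node (.node (.node (.leaf 12909)
 (.leaf 4095))
 (.node (.leaf 4095)
 (.leaf 4095)))
 (.node (.node (.leaf 4609)
 (.leaf 4095))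
 (.node (.leaf 4095)
 (.leaf 12437))))
 (.node (.node (.node (.leaf 4095)
 (.leaf 13059))
 (.node (.leaf 12705)
 (.leaf 4095)))
 (.node (.node (.leaf 4095)
 (.leaf 4095))
 (.node (.leaf 12790)
 (.leaf 4095)))))
 (.node (.node (.node (.node (.leaf 4095)
 (.leaf 12464))
 (.node (.leaf 4095)
 (.leaf 4095)))
 (.node (.node (.leaf 4095)
 (.leaf 4569))
 (.node (.leaf 13155)
 (.leaf 4501))))
 (.node (.node (.node (.leaf 4095)
 (.leaf 4095))
 (.node (.leaf 4095)
 (.leaf 4095)))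
 (.node (.node (.leaf 12288)
 (.leaf 4095))
 (.node (.leaf 13103)
 (.leaf 4095))))))
 (.node (.node (.node (.node (.node (.leaf 4095)
 (.leaf 4095))
 (.node (.leaf 4095)
 (.leaf 4095)))
 (.node (.node (.leaf 4095)
 (.leaf 4095))
 (.node (.leaf 4095)
 (.leaf 4095))))
 (.node (.node (.node (.leaf 12492)
 (.leaf 13089))
 (.node (.leaf 4095)
 (.leaf 4095)))
 (.node (.node (.leaf 4095)
 (.leaf 12573))
 (.node (.leaf 4095)
 (.leaf 4095)))))
 (.node (.node (.node (.node (.leaf 4095)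
 (.leaf 4095))
 (.node (.leaf 13286)
 (.leaf 4095)))
 (.node (.node (.leaf 4095)
 (.leaf 12291))
 (.node (.leaf 13210)
 (.leaf 13093))))
 (.node (.node (.node (.leaf 12919)
 (.leaf 4095))
 (.node (.leaf 4266)
 (.leaf 4095)))
 (.node (.node (.leaf 4095)
 (.leaf 4437))
 (.node (.leaf 4095)
 (.leaf 4095))))))

def tiClOfB23 : RT := .node (.node (.node (.node (.node (.node (.leaf 4095)
 (.leaf 4095))
 (.node (.leaf 4095)
 (.leaf 4632)))
 (.node (.node (.leaf 12689)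
 (.leaf 4095))
 (.node (.leaf 12467)
 (.leaf 4095))))
 (.node (.node (.node (.leaf 4095)
 (.leaf 4095))
 (.node (.leaf 12706)
 (.leaf 4095)))
 (.node (.node (.leaf 12676)
 (.leaf 4095))
 (.node (.leaf 4095)
 (.leaf 12693)))))
 (.node (.node (.node (.node (.leaf 12802)
 (.leaf 4129))
 (.node (.leaf 4095)
 (.leaf 12658)))
 (.node (.node (.leaf 4095)
 (.leaf 4095))
 (.node (.leaf 4095)
 (.leaf 4338))))
 (.node (.node (.node (.leaf 4095)
 (.leaf 4095))
 (.node (.leaf 4441)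
 (.leaf 4095)))
 (.node (.node (.leaf 4095)
 (.leaf 4095))
 (.node (.leaf 4095)
 (.leaf 13076))))))
 (.node (.node (.node (.node (.node (.leaf 4095)
 (.leaf 12873))
 (.node (.leaf 4095)
 (.leaf 12597)))
 (.node (.node (.leaf 4095)
 (.leaf 4095))
 (.node (.leaf 12818)
 (.leaf 4095))))
 (.node (.node (.node (.leaf 4095)
 (.leaf 4095))
 (.node (.leaf 4095)
 (.leaf 4095)))
 (.node (.node (.leaf 4095)
 (.leaf 4095))
 (.node (.leaf 4095)
 (.leaf 13244)))))
 (.node (.node (.node (.node (.leaf 4095)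
 (.leaf 4095))
 (.node (.leaf 4095)
 (.leaf 4095)))
 (.node (.node (.leaf 4471)
 (.leaf 4095))
 (.node (.leaf 13066)
 (.leaf 12968))))
 (.node (.node (.node (.leaf 4095)
 (.leaf 4095))
 (.node (.leaf 13166)
 (.leaf 4095)))
 (.node (.node (.leaf 13117)
 (.leaf 4720))
 (.node (.leaf 4095)
 (.leaf 4095))))))

def tiClOfB24 : RT := .node (.node (.node (.node (.node (.node (.leaf 4645)
 (.leaf 4095))
 (.node (.leaf 4095)
 (.leaf 12426)))
 (.node (.node (.leaf 4590)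
 (.leaf 12972))
 (.node (.leaf 12702)
 (.leaf 12737))))
 (.node (.node (.node (.leaf 4454)
 (.leaf 4095))
 (.node (.leaf 12590)
 (.leaf 12307)))
 (.node (.node (.leaf 4095)
 (.leaf 4095))
 (.node (.leaf 4095)
 (.leaf 4095)))))
 (.node (.node (.node (.node (.leaf 13176)
 (.leaf 4095))
 (.node (.leaf 4095)
 (.leaf 12662)))
 (.node (.node (.leaf 4114)
 (.leaf 4095))
 (.node (.leaf 4095)
 (.leaf 4095))))
 (.node (.node (.node (.leaf 4095)
 (.leaf 4095))
 (.node (.leaf 13302)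
 (.leaf 4495)))
 (.node (.node (.leaf 13287)
 (.leaf 4095))
 (.node (.leaf 4095)
 (.leaf 12399))))))
 (.node (.node (.node (.node (.node (.leaf 4095)
 (.leaf 4695))
 (.node (.leaf 4095)
 (.leaf 4550)))
 (.node (.node (.leaf 4095)
 (.leaf 4095))
 (.node (.leaf 4095)
 (.leaf 4095))))
 (.node (.node (.node (.leaf 4095)
 (.leaf 4095))
 (.node (.leaf 4095)
 (.leaf 13278)))
 (.node (.node (.leaf 13226)
 (.leaf 12577))
 (.node (.leaf 4095)
 (.leaf 4095)))))
 (.node (.node (.node (.node (.leaf 4095)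
 (.leaf 4095))
 (.node (.leaf 4095)
 (.leaf 4095)))
 (.node (.node (.leaf 4529)
 (.leaf 4095))
 (.node (.leaf 4095)
 (.leaf 4095))))
 (.node (.node (.node (.leaf 4448)
 (.leaf 4095))
 (.node (.leaf 4095)
 (.leaf 4095)))
 (.node (.node (.leaf 4095)
 (.leaf 4545))
 (.node (.leaf 13215)
 (.leaf 4095))))))

def tiClOfB25 : RT := .node (.node (.node (.node (.node (.node (.leaf 4178)
 (.leaf 4095))
 (.node (.leaf 12981)
 (.leaf 4095)))
 (.node (.node (.leaf 4673)
 (.leaf 4415))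
 (.node (.leaf 4095)
 (.leaf 4095))))
 (.node (.node (.node (.leaf 12885)
 (.leaf 12985))
 (.node (.leaf 4482)
 (.leaf 4095)))
 (.node (.node (.leaf 12930)
 (.leaf 4095))
 (.node (.leaf 4095)
 (.leaf 4095)))))
 (.node (.node (.node (.node (.leaf 4455)
 (.leaf 4095))
 (.node (.leaf 4095)
 (.leaf 4095)))
 (.node (.node (.leaf 4095)
 (.leaf 4095))
 (.node (.leaf 13269)
 (.leaf 12690))))
 (.node (.node (.node (.leaf 13157)
 (.leaf 4450))
 (.node (.leaf 13186)
 (.leaf 4095)))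
 (.node (.node (.leaf 4095)
 (.leaf 4095))
 (.node (.leaf 4205)
 (.leaf 4095))))))
 (.node (.node (.node (.node (.node (.leaf 13062)
 (.leaf 12774))
 (.node (.leaf 13149)
 (.leaf 13179)))
 (.node (.node (.leaf 12621)
 (.leaf 12548))
 (.node (.leaf 4095)
 (.leaf 4687))))
 (.node (.node (.node (.leaf 4095)
 (.leaf 12514))
 (.node (.leaf 12924)
 (.leaf 4095)))
 (.node (.node (.leaf 4426)
 (.leaf 4095))
 (.node (.leaf 4251)
 (.leaf 12438)))))
 (.node (.node (.node (.node (.leaf 13266)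
 (.leaf 4095))
 (.node (.leaf 4095)
 (.leaf 4095)))
 (.node (.node (.leaf 4095)
 (.leaf 4095))
 (.node (.leaf 4302)
 (.leaf 4095))))
 (.node (.node (.node (.leaf 12976)
 (.leaf 4095))
 (.node (.leaf 12488)
 (.leaf 12425)))
 (.node (.node (.leaf 4611)
 (.leaf 4095))
 (.node (.leaf 4095)
 (.leaf 4095))))))

def tiClOfB26 : RT := .node (.node (.node (.node (.node (.node (.leaf 4095)
 (.leaf 4095))
 (.node (.leaf 4440)
 (.leaf 4095)))
 (.node (.node (.leaf 4095)
 (.leaf 4095))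
 (.node (.leaf 4095)
 (.leaf 4095))))
 (.node (.node (.node (.leaf 4095)
 (.leaf 4095))
 (.node (.leaf 4095)
 (.leaf 4095)))
 (.node (.node (.leaf 4095)
 (.leaf 12328))
 (.node (.leaf 4095)
 (.leaf 4095)))))
 (.node (.node (.node (.node (.leaf 4095)
 (.leaf 4095))
 (.node (.leaf 4095)
 (.leaf 4095)))
 (.node (.node (.leaf 4095)
 (.leaf 4095))
 (.node (.leaf 4469)
 (.leaf 4095))))
 (.node (.node (.node (.leaf 4095)
 (.leaf 4095))
 (.node (.leaf 4252)
 (.leaf 4095)))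
 (.node (.node (.leaf 4095)
 (.leaf 12949))
 (.node (.leaf 4287)
 (.leaf 4095))))))
 (.node (.node (.node (.node (.node (.leaf 4095)
 (.leaf 12403))
 (.node (.leaf 12908)
 (.leaf 13130)))
 (.node (.node (.leaf 4095)
 (.leaf 12404))
 (.node (.leaf 13042)
 (.leaf 4095))))
 (.node (.node (.node (.leaf 12356)
 (.leaf 4095))
 (.node (.leaf 4095)
 (.leaf 4095)))
 (.node (.node (.leaf 12718)
 (.leaf 4316))
 (.node (.leaf 12505)
 (.leaf 12411)))))
 (.node (.node (.node (.node (.leaf 4505)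
 (.leaf 4095))
 (.node (.leaf 4647)
 (.leaf 4095)))
 (.node (.node (.leaf 12727)
 (.leaf 4095))
 (.node (.leaf 4310)
 (.leaf 4095))))
 (.node (.node (.node (.leaf 4095)
 (.leaf 4095))
 (.node (.leaf 4095)
 (.leaf 4095)))
 (.node (.node (.leaf 4095)
 (.leaf 4095))
 (.node (.leaf 4095)
 (.leaf 12814))))))

def tiClOfB27 : RT := .node (.node (.node (.node (.node (.node (.leaf 4095)
 (.leaf 4095))
 (.node (.leaf 12417)
 (.leaf 4095)))
 (.node (.node (.leaf 4095)
 (.leaf 4520))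
 (.node (.leaf 4646)
 (.leaf 4095))))
 (.node (.node (.node (.leaf 4095)
 (.leaf 12989))
 (.node (.leaf 4095)
 (.leaf 4095)))
 (.node (.node (.leaf 4095)
 (.leaf 4095))
 (.node (.leaf 4095)
 (.leaf 4095)))))
 (.node (.node (.node (.node (.leaf 4095)
 (.leaf 4095))
 (.node (.leaf 12851)
 (.leaf 4095)))
 (.node (.node (.leaf 12576)
 (.leaf 4095))
 (.node (.leaf 4095)
 (.leaf 4256))))
 (.node (.node (.node (.leaf 4095)
 (.leaf 12987))
 (.node (.leaf 13303)
 (.leaf 4402)))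
 (.node (.node (.leaf 4095)
 (.leaf 4095))
 (.node (.leaf 4095)
 (.leaf 4559))))))
 (.node (.node (.node (.node (.node (.leaf 13074)
 (.leaf 4095))
 (.node (.leaf 4095)
 (.leaf 4095)))
 (.node (.node (.leaf 4095)
 (.leaf 4095))
 (.node (.leaf 4095)
 (.leaf 4095))))
 (.node (.node (.node (.leaf 12385)
 (.leaf 13114))
 (.node (.leaf 13137)
 (.leaf 4095)))
 (.node (.node (.leaf 12408)
 (.leaf 4095))
 (.node (.leaf 4306)
 (.leaf 4095)))))
 (.node (.node (.node (.node (.leaf 4095)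
 (.leaf 4095))
 (.node (.leaf 4095)
 (.leaf 4095)))
 (.node (.node (.leaf 4095)
 (.leaf 13129))
 (.node (.leaf 13141)
 (.leaf 4095))))
 (.node (.node (.node (.leaf 12296)
 (.leaf 12792))
 (.node (.leaf 4095)
 (.leaf 13235)))
 (.node (.node (.leaf 4095)
 (.leaf 4095))
 (.node (.leaf 4733)
 (.leaf 12815))))))

def tiClOfB28 : RT := .node (.node (.node (.node (.node (.node (.leaf 12406)
 (.leaf 13181))
 (.node (.leaf 4095)
 (.leaf 4095)))
 (.node (.node (.leaf 4095)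
 (.leaf 4095))
 (.node (.leaf 4095)
 (.leaf 4095))))
 (.node (.node (.node (.leaf 4095)
 (.leaf 12694))
 (.node (.leaf 4095)
 (.leaf 13159)))
 (.node (.node (.leaf 4095)
 (.leaf 4095))
 (.node (.leaf 12759)
 (.leaf 4095)))))
 (.node (.node (.node (.node (.leaf 4095)
 (.leaf 4095))
 (.node (.leaf 12619)
 (.leaf 4095)))
 (.node (.node (.leaf 4095)
 (.leaf 4095))
 (.node (.leaf 4095)
 (.leaf 4095))))
 (.node (.node (.node (.leaf 12513)
 (.leaf 4095))
 (.node (.leaf 4666)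
 (.leaf 4095)))
 (.node (.node (.leaf 4095)
 (.leaf 4095))
 (.node (.leaf 12392)
 (.leaf 12522))))))
 (.node (.node (.node (.node (.node (.leaf 4095)
 (.leaf 13022))
 (.node (.leaf 12731)
 (.leaf 4095)))
 (.node (.node (.leaf 4095)
 (.leaf 4095))
 (.node (.leaf 12304)
 (.leaf 4095))))
 (.node (.node (.node (.leaf 13140)
 (.leaf 12611))
 (.node (.leaf 12954)
 (.leaf 4095)))
 (.node (.node (.leaf 13310)
 (.leaf 4095))
 (.node (.leaf 4095)
 (.leaf 4506)))))
 (.node (.node (.node (.node (.leaf 4095)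
 (.leaf 4095))
 (.node (.leaf 4095)
 (.leaf 12587)))
 (.node (.node (.leaf 4148)
 (.leaf 4095))
 (.node (.leaf 4095)
 (.leaf 4095))))
 (.node (.node (.node (.leaf 4095)
 (.leaf 4095))
 (.node (.leaf 4095)
 (.leaf 13017)))
 (.node (.node (.leaf 12667)
 (.leaf 4628))
 (.node (.leaf 4095)
 (.leaf 4095))))))

def tiClOfB29 : RT := .node (.node (.node (.node (.node (.node (.leaf 4095)
 (.leaf 4095))
 (.node (.leaf 4568)
 (.leaf 4095)))
 (.node (.node (.leaf 4095)
 (.leaf 12780))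
 (.node (.leaf 12917)
 (.leaf 12523))))
 (.node (.node (.node (.leaf 4095)
 (.leaf 12439))
 (.node (.leaf 12734)
 (.leaf 4095)))
 (.node (.node (.leaf 4095)
 (.leaf 4095))
 (.node (.leaf 4444)
 (.leaf 4095)))))
 (.node (.node (.node (.node (.leaf 12659)
 (.leaf 4636))
 (.node (.leaf 4095)
 (.leaf 12312)))
 (.node (.node (.leaf 4650)
 (.leaf 12354))
 (.node (.leaf 4095)
 (.leaf 4095))))
 (.node (.node (.node (.leaf 4095)
 (.leaf 12709))
 (.node (.leaf 4207)
 (.leaf 4095)))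
 (.node (.node (.leaf 4095)
 (.leaf 4095))
 (.node (.leaf 4095)
 (.leaf 4095))))))
 (.node (.node (.node (.node (.node (.leaf 13264)
 (.leaf 4095))
 (.node (.leaf 4095)
 (.leaf 12743)))
 (.node (.node (.leaf 4095)
 (.leaf 4095))
 (.node (.leaf 4095)
 (.leaf 4095))))
 (.node (.node (.node (.leaf 4095)
 (.leaf 12927))
 (.node (.leaf 4095)
 (.leaf 4095)))
 (.node (.node (.leaf 4329)
 (.leaf 4095))
 (.node (.leaf 4095)
 (.leaf 4095)))))
 (.node (.node (.node (.node (.leaf 4095)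
 (.leaf 4095))
 (.node (.leaf 12900)
 (.leaf 4095)))
 (.node (.node (.leaf 13068)
 (.leaf 4727))
 (.node (.leaf 4095)
 (.leaf 4095))))
 (.node (.node (.node (.leaf 12805)
 (.leaf 4095))
 (.node (.leaf 4095)
 (.leaf 4095)))
 (.node (.node (.leaf 4095)
 (.leaf 4095))
 (.node (.leaf 4095)
 (.leaf 13227))))))

def tiClOfB30 : RT := .node (.node (.node (.node (.node (.node (.leaf 4095)
 (.leaf 4095))
 (.node (.leaf 12730)
 (.leaf 4095)))
 (.node (.node (.leaf 4095)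
 (.leaf 4095))
 (.node (.leaf 4095)
 (.leaf 12541))))
 (.node (.node (.node (.leaf 4095)
 (.leaf 4095))
 (.node (.leaf 4095)
 (.leaf 12458)))
 (.node (.node (.leaf 4095)
 (.leaf 4095))
 (.node (.leaf 4095)
 (.leaf 12459)))))
 (.node (.node (.node (.node (.leaf 4095)
 (.leaf 4716))
 (.node (.leaf 4095)
 (.leaf 4095)))
 (.node (.node (.leaf 4095)
 (.leaf 4307))
 (.node (.leaf 4095)
 (.leaf 4095))))
 (.node (.node (.node (.leaf 4095)
 (.leaf 4285))
 (.node (.leaf 4095)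
 (.leaf 4095)))
 (.node (.node (.leaf 12836)
 (.leaf 4675))
 (.node (.leaf 4095)
 (.leaf 4095))))))
 (.node (.node (.node (.node (.node (.leaf 4271)
 (.leaf 4711))
 (.node (.leaf 4159)
 (.leaf 4095)))
 (.node (.node (.leaf 4095)
 (.leaf 4095))
 (.node (.leaf 4095)
 (.leaf 4095))))
 (.node (.node (.node (.leaf 12575)
 (.leaf 4095))
 (.node (.leaf 4095)
 (.leaf 4095)))
 (.node (.node (.leaf 4095)
 (.leaf 4095))
 (.node (.leaf 4204)
 (.leaf 4095)))))
 (.node (.node (.node (.node (.leaf 4095)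
 (.leaf 4095))
 (.node (.leaf 4095)
 (.leaf 4130)))
 (.node (.node (.leaf 4202)
 (.leaf 4095))
 (.node (.leaf 12528)
 (.leaf 4095))))
 (.node (.node (.node (.leaf 4095)
 (.leaf 12665))
 (.node (.leaf 4095)
 (.leaf 4095)))
 (.node (.node (.leaf 4095)
 (.leaf 12489))
 (.node (.leaf 4432)
 (.leaf 12295))))))

def tiClOfB31 : RT := .node (.node (.node (.node (.node (.node (.leaf 4095)
 (.leaf 4095))
 (.node (.leaf 4095)
 (.leaf 12330)))
 (.node (.node (.leaf 12465)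
 (.leaf 4101))
 (.node (.leaf 4095)
 (.leaf 4095))))
 (.node (.node (.node (.leaf 13097)
 (.leaf 4095))
 (.node (.leaf 4095)
 (.leaf 4095)))
 (.node (.node (.leaf 4095)
 (.leaf 4095))
 (.node (.leaf 4095)
 (.leaf 4095)))))
 (.node (.node (.node (.node (.leaf 4095)
 (.leaf 4095))
 (.node (.leaf 4543)
 (.leaf 12914)))
 (.node (.node (.leaf 13169)
 (.leaf 12812))
 (.node (.leaf 4095)
 (.leaf 4223))))
 (.node (.node (.node (.leaf 4095)
 (.leaf 13121))
 (.node (.leaf 12653)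
 (.leaf 4095)))
 (.node (.node (.leaf 13081)
 (.leaf 4095))
 (.node (.leaf 4095)
 (.leaf 12350))))))
 (.node (.node (.node (.node (.node (.leaf 4095)
 (.leaf 4095))
 (.node (.leaf 4095)
 (.leaf 4095)))
 (.node (.node (.leaf 4095)
 (.leaf 12925))
 (.node (.leaf 4095)
 (.leaf 4095))))
 (.node (.node (.node (.leaf 13058)
 (.leaf 4604))
 (.node (.leaf 12346)
 (.leaf 4095)))
 (.node (.node (.leaf 4095)
 (.leaf 4095))
 (.node (.leaf 12728)
 (.leaf 13122)))))
 (.node (.node (.node (.node (.leaf 4095)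
 (.leaf 4095))
 (.node (.leaf 4095)
 (.leaf 4095)))
 (.node (.node (.leaf 4095)
 (.leaf 4095))
 (.node (.leaf 12988)
 (.leaf 4095))))
 (.node (.node (.node (.leaf 4095)
 (.leaf 4095))
 (.node (.leaf 4381)
 (.leaf 13106)))
 (.node (.node (.leaf 4095)
 (.leaf 12315))
 (.node (.leaf 4095)
 (.leaf 4095))))))

def tiClOfB32 : RT := .node (.node (.node (.node (.node (.node (.leaf 4095)
 (.leaf 4095))
 (.node (.leaf 4095)
 (.leaf 12578)))
 (.node (.node (.leaf 4095)
 (.leaf 4095))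
 (.node (.leaf 12674)
 (.leaf 4095))))
 (.node (.node (.node (.leaf 4095)
 (.leaf 4095))
 (.node (.leaf 4328)
 (.leaf 12951)))
 (.node (.node (.leaf 12448)
 (.leaf 4095))
 (.node (.leaf 4095)
 (.leaf 4201)))))
 (.node (.node (.node (.node (.leaf 4095)
 (.leaf 13087))
 (.node (.leaf 12537)
 (.leaf 4095)))
 (.node (.node (.leaf 4095)
 (.leaf 12637))
 (.node (.leaf 13279)
 (.leaf 4095))))
 (.node (.node (.node (.leaf 4095)
 (.leaf 4095))
 (.node (.leaf 4095)
 (.leaf 12969)))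
 (.node (.node (.leaf 4095)
 (.leaf 12579))
 (.node (.leaf 4095)
 (.leaf 12751))))))
 (.node (.node (.node (.node (.node (.leaf 4095)
 (.leaf 4095))
 (.node (.leaf 4095)
 (.leaf 4095)))
 (.node (.node (.leaf 4509)
 (.leaf 4095))
 (.node (.leaf 12904)
 (.leaf 12993))))
 (.node (.node (.node (.leaf 4095)
 (.leaf 13160))
 (.node (.leaf 4104)
 (.leaf 4243)))
 (.node (.node (.leaf 4229)
 (.leaf 4095))
 (.node (.leaf 4095)
 (.leaf 4095)))))
 (.node (.node (.node (.node (.leaf 4095)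
 (.leaf 4206))
 (.node (.leaf 4095)
 (.leaf 12387)))
 (.node (.node (.leaf 13252)
 (.leaf 4095))
 (.node (.leaf 4095)
 (.leaf 13120))))
 (.node (.node (.node (.leaf 4095)
 (.leaf 4095))
 (.node (.leaf 4095)
 (.leaf 12309)))
 (.node (.node (.leaf 4095)
 (.leaf 4171))
 (.node (.leaf 4095)
 (.leaf 4095))))))

def tiClOfB33 : RT := .node (.node (.node (.node (.node (.node (.leaf 4095)
 (.leaf 4095))
 (.node (.leaf 12423)
 (.leaf 4095)))
 (.node (.node (.leaf 4095)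
 (.leaf 13016))
 (.node (.leaf 4095)
 (.leaf 13276))))
 (.node (.node (.node (.leaf 4095)
 (.leaf 4095))
 (.node (.leaf 4095)
 (.leaf 4095)))
 (.node (.node (.leaf 12945)
 (.leaf 13253))
 (.node (.leaf 4160)
 (.leaf 4095)))))
 (.node (.node (.node (.node (.leaf 4095)
 (.leaf 4095))
 (.node (.leaf 4095)
 (.leaf 4095)))
 (.node (.node (.leaf 4095)
 (.leaf 12546))
 (.node (.leaf 4095)
 (.leaf 4095))))
 (.node (.node (.node (.leaf 4095)
 (.leaf 4095))
 (.node (.leaf 4095)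
 (.leaf 4095)))
 (.node (.node (.leaf 4095)
 (.leaf 4095))
 (.node (.leaf 4337)
 (.leaf 4095))))))
 (.node (.node (.node (.node (.node (.leaf 4095)
 (.leaf 12891))
 (.node (.leaf 4095)
 (.leaf 4095)))
 (.node (.node (.leaf 4095)
 (.leaf 4095))
 (.node (.leaf 4095)
 (.leaf 4678))))
 (.node (.node (.node (.leaf 4095)
 (.leaf 4095))
 (.node (.leaf 12495)
 (.leaf 4095)))
 (.node (.node (.leaf 4095)
 (.leaf 4095))
 (.node (.leaf 4095)
 (.leaf 4095)))))
 (.node (.node (.node (.node (.leaf 4095)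
 (.leaf 4095))
 (.node (.leaf 4578)
 (.leaf 12970)))
 (.node (.node (.leaf 12494)
 (.leaf 4489))
 (.node (.leaf 4095)
 (.leaf 4095))))
 (.node (.node (.node (.leaf 12344)
 (.leaf 4095))
 (.node (.leaf 4095)
 (.leaf 4095)))
 (.node (.node (.leaf 12882)
 (.leaf 4095))
 (.node (.leaf 4705)
 (.leaf 4095))))))

def tiClOfB34 : RT := .node (.node (.node (.node (.node (.node (.leaf 4592)
 (.leaf 4095))
 (.node (.leaf 4095)
 (.leaf 4095)))
 (.node (.node (.leaf 4095)
 (.leaf 12601))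
 (.node (.leaf 13019)
 (.leaf 4095))))
 (.node (.node (.node (.leaf 4095)
 (.leaf 4095))
 (.node (.leaf 4095)
 (.leaf 4095)))
 (.node (.node (.leaf 4615)
 (.leaf 4095))
 (.node (.leaf 4095)
 (.leaf 4474)))))
 (.node (.node (.node (.node (.leaf 4095)
 (.leaf 12589))
 (.node (.leaf 4095)
 (.leaf 12615)))
 (.node (.node (.leaf 12301)
 (.leaf 4121))
 (.node (.leaf 12929)
 (.leaf 12629))))
 (.node (.node (.node (.leaf 4095)
 (.leaf 4095))
 (.node (.leaf 12748)
 (.leaf 4095)))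
 (.node (.node (.leaf 4095)
 (.leaf 13144))
 (.node (.leaf 13128)
 (.leaf 4095))))))
 (.node (.node (.node (.node (.node (.leaf 4612)
 (.leaf 4095))
 (.node (.leaf 4095)
 (.leaf 4095)))
 (.node (.node (.leaf 12982)
 (.leaf 4095))
 (.node (.leaf 4095)
 (.leaf 4095))))
 (.node (.node (.node (.leaf 4095)
 (.leaf 4095))
 (.node (.leaf 4269)
 (.leaf 4095)))
 (.node (.node (.leaf 4095)
 (.leaf 4095))
 (.node (.leaf 4095)
 (.leaf 4095)))))
 (.node (.node (.node (.node (.leaf 13255)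
 (.leaf 4175))
 (.node (.leaf 13203)
 (.leaf 4095)))
 (.node (.node (.leaf 4095)
 (.leaf 4491))
 (.node (.leaf 4095)
 (.leaf 4095))))
 (.node (.node (.node (.leaf 4095)
 (.leaf 4095))
 (.node (.leaf 4095)
 (.leaf 4095)))
 (.node (.node (.leaf 12588)
 (.leaf 4095))
 (.node (.leaf 4156)
 (.leaf 4321))))))

def tiClOfB35 : RT := .node (.node (.node (.node (.node (.node (.leaf 4095)
 (.leaf 4095))
 (.node (.leaf 4095)
 (.leaf 12317)))
 (.node (.node (.leaf 13027)
 (.leaf 12461))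
 (.node (.leaf 4095)
 (.leaf 4556))))
 (.node (.node (.node (.leaf 4095)
 (.leaf 4095))
 (.node (.leaf 4095)
 (.leaf 4095)))
 (.node (.node (.leaf 4095)
 (.leaf 13297))
 (.node (.leaf 4548)
 (.leaf 4095)))))
 (.node (.node (.node (.node (.leaf 4095)
 (.leaf 4095))
 (.node (.leaf 4095)
 (.leaf 12859)))
 (.node (.node (.leaf 4226)
 (.leaf 13275))
 (.node (.leaf 4095)
 (.leaf 12381))))
 (.node (.node (.node (.leaf 4099)
 (.leaf 12628))
 (.node (.leaf 4380)
 (.leaf 4579)))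
 (.node (.node (.leaf 12901)
 (.leaf 4095))
 (.node (.leaf 4095)
 (.leaf 4095))))))
 (.node (.node (.node (.node (.node (.leaf 4095)
 (.leaf 12707))
 (.node (.leaf 12648)
 (.leaf 4095)))
 (.node (.node (.leaf 4095)
 (.leaf 4095))
 (.node (.leaf 4593)
 (.leaf 4290))))
 (.node (.node (.node (.leaf 4095)
 (.leaf 4670))
 (.node (.leaf 4095)
 (.leaf 4154)))
 (.node (.node (.leaf 4651)
 (.leaf 4095))
 (.node (.leaf 4174)
 (.leaf 4228)))))
 (.node (.node (.node (.node (.leaf 8195)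
 (.leaf 4095))
 (.node (.leaf 4095)
 (.leaf 4095)))
 (.node (.node (.leaf 12850)
 (.leaf 4095))
 (.node (.leaf 4623)
 (.leaf 4095))))
 (.node (.node (.node (.leaf 4095)
 (.leaf 4095))
 (.node (.leaf 4095)
 (.leaf 12888)))
 (.node (.node (.leaf 4095)
 (.leaf 4095))
 (.node (.leaf 4095)
 (.leaf 4163))))))

def tiClOfB36 : RT := .node (.node (.node (.node (.node (.node (.leaf 4095)
 (.leaf 12846))
 (.node (.leaf 12378)
 (.leaf 4095)))
 (.node (.node (.leaf 4325)
 (.leaf 4095))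
 (.node (.leaf 4503)
 (.leaf 4095))))
 (.node (.node (.node (.leaf 13164)
 (.leaf 4117))
 (.node (.leaf 16386)
 (.leaf 4095)))
 (.node (.node (.leaf 4095)
 (.leaf 4095))
 (.node (.leaf 4286)
 (.leaf 4095)))))
 (.node (.node (.node (.node (.leaf 4095)
 (.leaf 4095))
 (.node (.leaf 8241)
 (.leaf 4095)))
 (.node (.node (.leaf 4422)
 (.leaf 4267))
 (.node (.leaf 12704)
 (.leaf 4095))))
 (.node (.node (.node (.leaf 4095)
 (.leaf 12837))
 (.node (.leaf 4095)
 (.leaf 12586)))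
 (.node (.node (.leaf 16387)
 (.leaf 4708))
 (.node (.leaf 4734)
 (.leaf 4095))))))
 (.node (.node (.node (.node (.node (.leaf 4234)
 (.leaf 4096))
 (.node (.leaf 4095)
 (.leaf 4363)))
 (.node (.node (.leaf 4095)
 (.leaf 4095))
 (.node (.leaf 4157)
 (.leaf 4443))))
 (.node (.node (.node (.leaf 13023)
 (.leaf 4403))
 (.node (.leaf 4095)
 (.leaf 4095)))
 (.node (.node (.leaf 4095)
 (.leaf 4095))
 (.node (.leaf 8237)
 (.leaf 12421)))))
 (.node (.node (.node (.node (.leaf 13161)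
 (.leaf 4435))
 (.node (.leaf 4575)
 (.leaf 4309)))
 (.node (.node (.leaf 12808)
 (.leaf 4095))
 (.node (.leaf 12952)
 (.leaf 4095))))
 (.node (.node (.node (.leaf 4095)
 (.leaf 4473))
 (.node (.leaf 12971)
 (.leaf 4095)))
 (.node (.node (.leaf 13109)
 (.leaf 4095))
 (.node (.leaf 4095)
 (.leaf 4095))))))

def tiClOfB37 : RT := .node (.node (.node (.node (.node (.node (.leaf 13004)
 (.leaf 4095))
 (.node (.leaf 4095)
 (.leaf 4544)))
 (.node (.node (.leaf 4185)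
 (.leaf 4095))
 (.node (.leaf 4532)
 (.leaf 4095))))
 (.node (.node (.node (.leaf 4439)
 (.leaf 4412))
 (.node (.leaf 4095)
 (.leaf 8212)))
 (.node (.node (.leaf 4095)
 (.leaf 12526))
 (.node (.leaf 4095)
 (.leaf 4095)))))
 (.node (.node (.node (.node (.leaf 13056)
 (.leaf 4095))
 (.node (.leaf 4095)
 (.leaf 4292)))
 (.node (.node (.leaf 4608)
 (.leaf 4446))
 (.node (.leaf 4095)
 (.leaf 4095))))
 (.node (.node (.node (.leaf 4587)
 (.leaf 4389))
 (.node (.leaf 12974)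
 (.leaf 4427)))
 (.node (.node (.leaf 4634)
 (.leaf 13229))
 (.node (.leaf 4095)
 (.leaf 4095))))))
 (.node (.node (.node (.node (.node (.leaf 4095)
 (.leaf 4095))
 (.node (.leaf 8205)
 (.leaf 4095)))
 (.node (.node (.leaf 4095)
 (.leaf 4095))
 (.node (.leaf 4095)
 (.leaf 12877))))
 (.node (.node (.node (.leaf 4507)
 (.leaf 4095))
 (.node (.leaf 13217)
 (.leaf 4095)))
 (.node (.node (.leaf 4095)
 (.leaf 12420))
 (.node (.leaf 4095)
 (.leaf 4095)))))
 (.node (.node (.node (.node (.leaf 4365)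
 (.leaf 12817))
 (.node (.leaf 8204)
 (.leaf 12451)))
 (.node (.node (.leaf 13049)
 (.leaf 4095))
 (.node (.leaf 12599)
 (.leaf 4730))))
 (.node (.node (.node (.leaf 4095)
 (.leaf 8192))
 (.node (.leaf 12721)
 (.leaf 4212)))
 (.node (.node (.leaf 4095)
 (.leaf 12543))
 (.node (.leaf 4095)
 (.leaf 4095))))))

def tiClOfB38 : RT := .node (.node (.node (.node (.node (.node (.leaf 4298)
 (.leaf 4095))
 (.node (.leaf 4095)
 (.leaf 4095)))
 (.node (.node (.leaf 12669)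
 (.leaf 12870))
 (.node (.leaf 13238)
 (.leaf 13219))))
 (.node (.node (.node (.leaf 12485)
 (.leaf 8248))
 (.node (.leaf 4095)
 (.leaf 4095)))
 (.node (.node (.leaf 4563)
 (.leaf 4095))
 (.node (.leaf 12363)
 (.leaf 4095)))))
 (.node (.node (.node (.node (.leaf 4614)
 (.leaf 12856))
 (.node (.leaf 4661)
 (.leaf 4095)))
 (.node (.node (.leaf 12778)
 (.leaf 12327))
 (.node (.leaf 12595)
 (.leaf 13295))))
 (.node (.node (.node (.leaf 4095)
 (.leaf 13263))
 (.node (.leaf 4095)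
 (.leaf 4095)))
 (.node (.node (.leaf 4095)
 (.leaf 4095))
 (.node (.leaf 4095)
 (.leaf 4095))))))
 (.node (.node (.node (.node (.node (.leaf 12740)
 (.leaf 12487))
 (.node (.leaf 12479)
 (.leaf 4095)))
 (.node (.node (.leaf 4095)
 (.leaf 4095))
 (.node (.leaf 12656)
 (.leaf 4095))))
 (.node (.node (.node (.leaf 4095)
 (.leaf 4095))
 (.node (.leaf 13178)
 (.leaf 4095)))
 (.node (.node (.leaf 4196)
 (.leaf 12414))
 (.node (.leaf 4547)
 (.leaf 4111)))))
 (.node (.node (.node (.node (.leaf 4333)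
 (.leaf 4095))
 (.node (.leaf 4095)
 (.leaf 4240)))
 (.node (.node (.leaf 4095)
 (.leaf 4257))
 (.node (.leaf 4546)
 (.leaf 13057))))
 (.node (.node (.node (.leaf 4095)
 (.leaf 8228))
 (.node (.leaf 4095)
 (.leaf 4095)))
 (.node (.node (.leaf 4095)
 (.leaf 4095))
 (.node (.leaf 12556)
 (.leaf 4095))))))

def tiClOfB39 : RT := .node (.node (.node (.node (.node (.node (.leaf 12874)
 (.leaf 4095))
 (.node (.leaf 13099)
 (.leaf 12445)))
 (.node (.node (.leaf 8217)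
 (.leaf 13272))
 (.node (.leaf 13147)
 (.leaf 13223))))
 (.node (.node (.node (.leaf 4533)
 (.leaf 4301))
 (.node (.leaf 4504)
 (.leaf 4095)))
 (.node (.node (.leaf 12898)
 (.leaf 12366))
 (.node (.leaf 4095)
 (.leaf 4095)))))
 (.node (.node (.node (.node (.leaf 12482)
 (.leaf 4095))
 (.node (.leaf 13028)
 (.leaf 4095)))
 (.node (.node (.leaf 12469)
 (.leaf 12358))
 (.node (.leaf 4456)
 (.leaf 4095))))
 (.node (.node (.node (.leaf 4095)
 (.leaf 4250))
 (.node (.leaf 4095)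
 (.leaf 12979)))
 (.node (.node (.leaf 4095)
 (.leaf 4095))
 (.node (.leaf 8224)
 (.leaf 12592))))))
 (.node (.node (.node (.node (.node (.leaf 4095)
 (.leaf 4370))
 (.node (.leaf 4095)
 (.leaf 4095)))
 (.node (.node (.leaf 12643)
 (.leaf 4095))
 (.node (.leaf 4095)
 (.leaf 4449))))
 (.node (.node (.node (.leaf 4095)
 (.leaf 4128))
 (.node (.leaf 12308)
 (.leaf 4095)))
 (.node (.node (.leaf 12672)
 (.leaf 12503))
 (.node (.leaf 4095)
 (.leaf 12294)))))
 (.node (.node (.node (.node (.leaf 4095)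
 (.leaf 4095))
 (.node (.leaf 8270)
 (.leaf 4095)))
 (.node (.node (.leaf 4095)
 (.leaf 4095))
 (.node (.leaf 12905)
 (.leaf 4095))))
 (.node (.node (.node (.leaf 4095)
 (.leaf 12822))
 (.node (.leaf 4095)
 (.leaf 12290)))
 (.node (.node (.leaf 12545)
 (.leaf 13298))
 (.node (.leaf 4095)
 (.leaf 4458))))))

def tiClOfB40 : RT := .node (.node (.node (.node (.node (.node (.leaf 12957)
 (.leaf 12534))
 (.node (.leaf 4095)
 (.leaf 12915)))
 (.node (.node (.leaf 4095)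
 (.leaf 4170))
 (.node (.leaf 4095)
 (.leaf 4589))))
 (.node (.node (.node (.leaf 4095)
 (.leaf 4095))
 (.node (.leaf 4596)
 (.leaf 4095)))
 (.node (.node (.leaf 4095)
 (.leaf 12591))
 (.node (.leaf 4095)
 (.leaf 4095)))))
 (.node (.node (.node (.node (.leaf 4095)
 (.leaf 4464))
 (.node (.leaf 4095)
 (.leaf 4095)))
 (.node (.node (.leaf 4095)
 (.leaf 4095))
 (.node (.leaf 4095)
 (.leaf 4095))))
 (.node (.node (.node (.leaf 4530)
 (.leaf 4095))
 (.node (.leaf 8233)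
 (.leaf 4095)))
 (.node (.node (.leaf 4095)
 (.leaf 4095))
 (.node (.leaf 13061)
 (.leaf 4552))))))
 (.node (.node (.node (.node (.node (.leaf 4095)
 (.leaf 13170))
 (.node (.leaf 8246)
 (.leaf 4095)))
 (.node (.node (.leaf 4640)
 (.leaf 4095))
 (.node (.leaf 4095)
 (.leaf 12351))))
 (.node (.node (.node (.leaf 4095)
 (.leaf 4095))
 (.node (.leaf 12473)
 (.leaf 12681)))
 (.node (.node (.leaf 4095)
 (.leaf 12883))
 (.node (.leaf 4095)
 (.leaf 8193)))))
 (.node (.node (.node (.node (.leaf 4598)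
 (.leaf 4095))
 (.node (.leaf 4095)
 (.leaf 4095)))
 (.node (.node (.leaf 12997)
 (.leaf 4095))
 (.node (.leaf 4349)
 (.leaf 4095))))
 (.node (.node (.node (.leaf 4095)
 (.leaf 4095))
 (.node (.leaf 4095)
 (.leaf 4095)))
 (.node (.node (.leaf 12770)
 (.leaf 8236))
 (.node (.leaf 4095)
 (.leaf 4095))))))

def tiClOfB41 : RT := .node (.node (.node (.node (.node (.node (.leaf 4095)
 (.leaf 12499))
 (.node (.leaf 4095)
 (.leaf 4095)))
 (.node (.node (.leaf 12685)
 (.leaf 4095))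
 (.node (.leaf 12532)
 (.leaf 13280))))
 (.node (.node (.node (.leaf 12627)
 (.leaf 4095))
 (.node (.leaf 12476)
 (.leaf 4095)))
 (.node (.node (.leaf 4095)
 (.leaf 4095))
 (.node (.leaf 13152)
 (.leaf 4095)))))
 (.node (.node (.node (.node (.leaf 4095)
 (.leaf 4095))
 (.node (.leaf 4095)
 (.leaf 4095)))
 (.node (.node (.leaf 4095)
 (.leaf 12396))
 (.node (.leaf 4095)
 (.leaf 8260))))
 (.node (.node (.node (.leaf 4095)
 (.leaf 4095))
 (.node (.leaf 4304)
 (.leaf 4095)))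
 (.node (.node (.leaf 4095)
 (.leaf 12582))
 (.node (.leaf 13224)
 (.leaf 4095))))))
 (.node (.node (.node (.node (.node (.leaf 8220)
 (.leaf 4095))
 (.node (.leaf 4095)
 (.leaf 4095)))
 (.node (.node (.leaf 4410)
 (.leaf 12652))
 (.node (.leaf 4254)
 (.leaf 4317))))
 (.node (.node (.node (.leaf 4613)
 (.leaf 12657))
 (.node (.leaf 4095)
 (.leaf 4095)))
 (.node (.node (.leaf 12310)
 (.leaf 12616))
 (.node (.leaf 4095)
 (.leaf 12973)))))
 (.node (.node (.node (.node (.leaf 4319)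
 (.leaf 4095))
 (.node (.leaf 4095)
 (.leaf 4268)))
 (.node (.node (.leaf 4095)
 (.leaf 4095))
 (.node (.leaf 4095)
 (.leaf 4408))))
 (.node (.node (.node (.leaf 4095)
 (.leaf 13125))
 (.node (.leaf 4663)
 (.leaf 4095)))
 (.node (.node (.leaf 12324)
 (.leaf 4095))
 (.node (.leaf 4095)
 (.leaf 12881))))))

def tiClOfB42 : RT := .node (.node (.node (.node (.node (.node (.leaf 12606)
 (.leaf 12675))
 (.node (.leaf 13232)
 (.leaf 4095)))
 (.node (.node (.leaf 12761)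
 (.leaf 12450))
 (.node (.leaf 12645)
 (.leaf 13098))))
 (.node (.node (.node (.leaf 4255)
 (.leaf 12955))
 (.node (.leaf 4095)
 (.leaf 4095)))
 (.node (.node (.leaf 4095)
 (.leaf 4095))
 (.node (.leaf 12570)
 (.leaf 12539)))))
 (.node (.node (.node (.node (.leaf 4429)
 (.leaf 12785))
 (.node (.leaf 12943)
 (.leaf 4108)))
 (.node (.node (.leaf 13078)
 (.leaf 4095))
 (.node (.leaf 4660)
 (.leaf 4095))))
 (.node (.node (.node (.leaf 4095)
 (.leaf 4095))
 (.node (.leaf 4095)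
 (.leaf 4475)))
 (.node (.node (.leaf 4407)
 (.leaf 4095))
 (.node (.leaf 4147)
 (.leaf 12477))))))
 (.node (.node (.node (.node (.node (.leaf 4095)
 (.leaf 4095))
 (.node (.leaf 4357)
 (.leaf 13150)))
 (.node (.node (.leaf 12581)
 (.leaf 4680))
 (.node (.leaf 4573)
 (.leaf 12871))))
 (.node (.node (.node (.leaf 4245)
 (.leaf 4095))
 (.node (.leaf 4095)
 (.leaf 4095)))
 (.node (.node (.leaf 4095)
 (.leaf 4095))
 (.node (.leaf 12788)
 (.leaf 12654)))))
 (.node (.node (.node (.node (.leaf 12932)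
 (.leaf 12661))
 (.node (.leaf 13154)
 (.leaf 4637)))
 (.node (.node (.leaf 12804)
 (.leaf 4095))
 (.node (.leaf 4095)
 (.leaf 4222))))
 (.node (.node (.node (.leaf 4095)
 (.leaf 4095))
 (.node (.leaf 8227)
 (.leaf 4095)))
 (.node (.node (.leaf 12305)
 (.leaf 4095))
 (.node (.leaf 4095)
 (.leaf 12960))))))

def tiClOfB43 : RT := .node (.node (.node (.node (.node (.node (.leaf 8254)
 (.leaf 12431))
 (.node (.leaf 4095)
 (.leaf 4189)))
 (.node (.node (.leaf 8216)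
 (.leaf 4095))
 (.node (.leaf 4218)
 (.leaf 4095))))
 (.node (.node (.node (.leaf 4095)
 (.leaf 4377))
 (.node (.leaf 12764)
 (.leaf 4214)))
 (.node (.node (.leaf 4095)
 (.leaf 4095))
 (.node (.leaf 4095)
 (.leaf 4693)))))
 (.node (.node (.node (.node (.leaf 13018)
 (.leaf 13142))
 (.node (.leaf 4095)
 (.leaf 13124)))
 (.node (.node (.leaf 4586)
 (.leaf 13262))
 (.node (.leaf 12830)
 (.leaf 4095))))
 (.node (.node (.node (.leaf 8201)
 (.leaf 4095))
 (.node (.leaf 4095)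
 (.leaf 4095)))
 (.node (.node (.leaf 12398)
 (.leaf 4095))
 (.node (.leaf 4095)
 (.leaf 4095))))))
 (.node (.node (.node (.node (.node (.leaf 4095)
 (.leaf 13010))
 (.node (.leaf 4095)
 (.leaf 4095)))
 (.node (.node (.leaf 4095)
 (.leaf 4095))
 (.node (.leaf 12345)
 (.leaf 4095))))
 (.node (.node (.node (.leaf 4095)
 (.leaf 4095))
 (.node (.leaf 4685)
 (.leaf 4095)))
 (.node (.node (.leaf 4095)
 (.leaf 4095))
 (.node (.leaf 4095)
 (.leaf 13202)))))
 (.node (.node (.node (.node (.leaf 4095)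
 (.leaf 4095))
 (.node (.leaf 4095)
 (.leaf 12481)))
 (.node (.node (.leaf 4095)
 (.leaf 4095))
 (.node (.leaf 4388)
 (.leaf 13073))))
 (.node (.node (.node (.leaf 4095)
 (.leaf 4095))
 (.node (.leaf 4557)
 (.leaf 4095)))
 (.node (.node (.leaf 4095)
 (.leaf 4095))
 (.node (.leaf 4095)
 (.leaf 4095))))))

def tiClOfB44 : RT := .node (.node (.node (.node (.node (.node (.leaf 4095)
 (.leaf 4095))
 (.node (.leaf 4095)
 (.leaf 4095)))
 (.node (.node (.leaf 12948)
 (.leaf 4095))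
 (.node (.leaf 4095)
 (.leaf 12602))))
 (.node (.node (.node (.leaf 4095)
 (.leaf 4095))
 (.node (.leaf 13167)
 (.leaf 4095)))
 (.node (.node (.leaf 4095)
 (.leaf 12853))
 (.node (.leaf 4095)
 (.leaf 4095)))))
 (.node (.node (.node (.node (.leaf 4095)
 (.leaf 4095))
 (.node (.leaf 4658)
 (.leaf 12626)))
 (.node (.node (.leaf 12825)
 (.leaf 4095))
 (.node (.leaf 4095)
 (.leaf 4095))))
 (.node (.node (.node (.leaf 4095)
 (.leaf 4095))
 (.node (.leaf 4095)
 (.leaf 4095)))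
 (.node (.node (.leaf 4095)
 (.leaf 12950))
 (.node (.leaf 12580)
 (.leaf 4095))))))
 (.node (.node (.node (.node (.node (.leaf 12781)
 (.leaf 12518))
 (.node (.leaf 4095)
 (.leaf 4095)))
 (.node (.node (.leaf 4713)
 (.leaf 4095))
 (.node (.leaf 4095)
 (.leaf 4635))))
 (.node (.node (.node (.leaf 4095)
 (.leaf 4401))
 (.node (.leaf 13283)
 (.leaf 4095)))
 (.node (.node (.leaf 4095)
 (.leaf 4095))
 (.node (.leaf 12990)
 (.leaf 4095)))))
 (.node (.node (.node (.node (.leaf 12418)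
 (.leaf 4095))
 (.node (.leaf 4095)
 (.leaf 4095)))
 (.node (.node (.leaf 13190)
 (.leaf 13108))
 (.node (.leaf 4100)
 (.leaf 12994))))
 (.node (.node (.node (.leaf 4095)
 (.leaf 4095))
 (.node (.leaf 4095)
 (.leaf 4095)))
 (.node (.node (.leaf 4095)
 (.leaf 12896))
 (.node (.leaf 4263)
 (.leaf 4095))))))

def tiClOfB45 : RT := .node (.node (.node (.node (.node (.node (.leaf 4095)
 (.leaf 12855))
 (.node (.leaf 12339)
 (.leaf 4095)))
 (.node (.node (.leaf 12741)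
 (.leaf 4095))
 (.node (.leaf 12713)
 (.leaf 4095))))
 (.node (.node (.node (.leaf 4665)
 (.leaf 4095))
 (.node (.leaf 4095)
 (.leaf 4095)))
 (.node (.node (.leaf 4095)
 (.leaf 4095))
 (.node (.leaf 4095)
 (.leaf 4095)))))
 (.node (.node (.node (.node (.leaf 12983)
 (.leaf 4470))
 (.node (.leaf 4095)
 (.leaf 4522)))
 (.node (.node (.leaf 12936)
 (.leaf 4095))
 (.node (.leaf 12698)
 (.leaf 4112))))
 (.node (.node (.node (.leaf 4095)
 (.leaf 4095))
 (.node (.leaf 4095)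
 (.leaf 4494)))
 (.node (.node (.leaf 4095)
 (.leaf 12607))
 (.node (.leaf 12697)
 (.leaf 4095))))))
 (.node (.node (.node (.node (.node (.leaf 4095)
 (.leaf 4095))
 (.node (.leaf 12771)
 (.leaf 4095)))
 (.node (.node (.leaf 4095)
 (.leaf 4095))
 (.node (.leaf 13261)
 (.leaf 13146))))
 (.node (.node (.node (.leaf 4518)
 (.leaf 4633))
 (.node (.leaf 4095)
 (.leaf 4095)))
 (.node (.node (.leaf 4095)
 (.leaf 4095))
 (.node (.leaf 4095)
 (.leaf 4095)))))
 (.node (.node (.node (.node (.leaf 12617)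
 (.leaf 4095))
 (.node (.leaf 4095)
 (.leaf 12311)))
 (.node (.node (.leaf 4332)
 (.leaf 12456))
 (.node (.leaf 4095)
 (.leaf 4095))))
 (.node (.node (.node (.leaf 4095)
 (.leaf 4095))
 (.node (.leaf 4095)
 (.leaf 4095)))
 (.node (.node (.leaf 4343)
 (.leaf 12813))
 (.node (.leaf 4696)
 (.leaf 4095))))))

def tiClOfB46 : RT := .node (.node (.node (.node (.node (.node (.leaf 4095)
 (.leaf 12795))
 (.node (.leaf 4095)
 (.leaf 4118)))
 (.node (.node (.leaf 4095)
 (.leaf 4213))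
 (.node (.leaf 12538)
 (.leaf 4095))))
 (.node (.node (.node (.leaf 4124)
 (.leaf 4249))
 (.node (.leaf 4095)
 (.leaf 12509)))
 (.node (.node (.leaf 4095)
 (.leaf 4095))
 (.node (.leaf 4095)
 (.leaf 4095)))))
 (.node (.node (.node (.node (.leaf 4095)
 (.leaf 4095))
 (.node (.leaf 12791)
 (.leaf 4095)))
 (.node (.node (.leaf 12377)
 (.leaf 13005))
 (.node (.leaf 4095)
 (.leaf 4095))))
 (.node (.node (.node (.leaf 4095)
 (.leaf 4095))
 (.node (.leaf 12744)
 (.leaf 4095)))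
 (.node (.node (.leaf 4668)
 (.leaf 4095))
 (.node (.leaf 4095)
 (.leaf 4095))))))
 (.node (.node (.node (.node (.node (.leaf 4664)
 (.leaf 4095))
 (.node (.leaf 4095)
 (.leaf 4095)))
 (.node (.node (.leaf 12746)
 (.leaf 4095))
 (.node (.leaf 4095)
 (.leaf 12767))))
 (.node (.node (.node (.leaf 4095)
 (.leaf 12609))
 (.node (.leaf 12365)
 (.leaf 12928)))
 (.node (.node (.leaf 4095)
 (.leaf 12497))
 (.node (.leaf 4095)
 (.leaf 13258)))))
 (.node (.node (.node (.node (.leaf 12961)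
 (.leaf 4601))
 (.node (.leaf 4095)
 (.leaf 12636)))
 (.node (.node (.leaf 4566)
 (.leaf 4326))
 (.node (.leaf 4095)
 (.leaf 4095))))
 (.node (.node (.node (.leaf 4127)
 (.leaf 4262))
 (.node (.leaf 12890)
 (.leaf 4466)))
 (.node (.node (.leaf 4095)
 (.leaf 4209))
 (.node (.leaf 4095)
 (.leaf 4095))))))

def tiClOfB47 : RT := .node (.node (.node (.node (.node (.node (.leaf 4095)
 (.leaf 4095))
 (.node (.leaf 4095)
 (.leaf 12864)))
 (.node (.node (.leaf 12335)
 (.leaf 4188))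
 (.node (.leaf 4095)
 (.leaf 12841))))
 (.node (.node (.node (.leaf 4095)
 (.leaf 4095))
 (.node (.leaf 4095)
 (.leaf 4095)))
 (.node (.node (.leaf 4418)
 (.leaf 12555))
 (.node (.leaf 4161)
 (.leaf 4095)))))
 (.node (.node (.node (.node (.leaf 4095)
 (.leaf 4095))
 (.node (.leaf 4095)
 (.leaf 12866)))
 (.node (.node (.leaf 12511)
 (.leaf 4095))
 (.node (.leaf 4095)
 (.leaf 4626))))
 (.node (.node (.node (.leaf 13051)
 (.leaf 4095))
 (.node (.leaf 12483)
 (.leaf 4095)))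
 (.node (.node (.leaf 4095)
 (.leaf 4095))
 (.node (.leaf 4095)
 (.leaf 4095))))))
 (.node (.node (.node (.node (.node (.leaf 4095)
 (.leaf 4095))
 (.node (.leaf 4095)
 (.leaf 4097)))
 (.node (.node (.leaf 4095)
 (.leaf 4095))
 (.node (.leaf 4095)
 (.leaf 4095))))
 (.node (.node (.node (.leaf 4095)
 (.leaf 13204))
 (.node (.leaf 4095)
 (.leaf 4095)))
 (.node (.node (.leaf 4095)
 (.leaf 13090))
 (.node (.leaf 4095)
 (.leaf 4095)))))
 (.node (.node (.node (.node (.leaf 4095)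
 (.leaf 4095))
 (.node (.leaf 13281)
 (.leaf 4095)))
 (.node (.node (.leaf 4095)
 (.leaf 4095))
 (.node (.leaf 4095)
 (.leaf 4095))))
 (.node (.node (.node (.leaf 4095)
 (.leaf 12468))
 (.node (.leaf 4095)
 (.leaf 13265)))
 (.node (.node (.leaf 4095)
 (.leaf 4095))
 (.node (.leaf 4095)
 (.leaf 4095))))))

def tiClOfB48 : RT := .node (.node (.node (.node (.node (.node (.leaf 4095)
 (.leaf 4095))
 (.node (.leaf 12560)
 (.leaf 4095)))
 (.node (.node (.leaf 12633)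
 (.leaf 4095))
 (.node (.leaf 4095)
 (.leaf 4095))))
 (.node (.node (.node (.leaf 4597)
 (.leaf 12364))
 (.node (.leaf 12424)
 (.leaf 4140)))
 (.node (.node (.leaf 4095)
 (.leaf 4095))
 (.node (.leaf 4095)
 (.leaf 12298)))))
 (.node (.node (.node (.node (.leaf 4095)
 (.leaf 4095))
 (.node (.leaf 12647)
 (.leaf 12600)))
 (.node (.node (.leaf 4095)
 (.leaf 4095))
 (.node (.leaf 4095)
 (.leaf 4095))))
 (.node (.node (.node (.leaf 12552)
 (.leaf 4095))
 (.node (.leaf 4478)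
 (.leaf 4095)))
 (.node (.node (.leaf 4095)
 (.leaf 4095))
 (.node (.leaf 4095)
 (.leaf 4095))))))
 (.node (.node (.node (.node (.node (.leaf 4095)
 (.leaf 4095))
 (.node (.leaf 4095)
 (.leaf 12337)))
 (.node (.node (.leaf 12793)
 (.leaf 4095))
 (.node (.leaf 4095)
 (.leaf 4095))))
 (.node (.node (.node (.leaf 4095)
 (.leaf 12801))
 (.node (.leaf 4242)
 (.leaf 12313)))
 (.node (.node (.leaf 4095)
 (.leaf 4095))
 (.node (.leaf 4095)
 (.leaf 12826)))))
 (.node (.node (.node (.node (.leaf 13200)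
 (.leaf 13301))
 (.node (.leaf 4095)
 (.leaf 12567)))
 (.node (.node (.leaf 4095)
 (.leaf 4095))
 (.node (.leaf 12292)
 (.leaf 12766))))
 (.node (.node (.node (.leaf 4553)
 (.leaf 4692))
 (.node (.leaf 4095)
 (.leaf 13307)))
 (.node (.node (.leaf 13256)
 (.leaf 4442))
 (.node (.leaf 4095)
 (.leaf 4095))))))

def tiClOfB49 : RT := .node (.node (.node (.node (.node (.node (.leaf 4684)
 (.leaf 4299))
 (.node (.leaf 4102)
 (.leaf 4215)))
 (.node (.node (.leaf 4095)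
 (.leaf 4542))
 (.node (.leaf 4095)
 (.leaf 12641))))
 (.node (.node (.node (.leaf 4095)
 (.leaf 13002))
 (.node (.leaf 12847)
 (.leaf 4095)))
 (.node (.node (.leaf 4095)
 (.leaf 12869))
 (.node (.leaf 4095)
 (.leaf 4095)))))
 (.node (.node (.node (.node (.leaf 13091)
 (.leaf 4095))
 (.node (.leaf 12732)
 (.leaf 4311)))
 (.node (.node (.leaf 12446)
 (.leaf 4095))
 (.node (.leaf 13094)
 (.leaf 4095))))
 (.node (.node (.node (.leaf 13143)
 (.leaf 4095))
 (.node (.leaf 4095)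
 (.leaf 4095)))
 (.node (.node (.leaf 12432)
 (.leaf 4095))
 (.node (.leaf 4095)
 (.leaf 13014))))))
 (.node (.node (.node (.node (.node (.leaf 12462)
 (.leaf 12325))
 (.node (.leaf 4095)
 (.leaf 4394)))
 (.node (.node (.leaf 12794)
 (.leaf 12533))
 (.node (.leaf 4095)
 (.leaf 4095))))
 (.node (.node (.node (.leaf 4502)
 (.leaf 4095))
 (.node (.leaf 4095)
 (.leaf 4095)))
 (.node (.node (.leaf 12422)
 (.leaf 12639))
 (.node (.leaf 4181)
 (.leaf 12612)))))
 (.node (.node (.node (.node (.leaf 4095)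
 (.leaf 4095))
 (.node (.leaf 4095)
 (.leaf 4095)))
 (.node (.node (.leaf 12875)
 (.leaf 4095))
 (.node (.leaf 4369)
 (.leaf 12347))))
 (.node (.node (.node (.leaf 4095)
 (.leaf 4095))
 (.node (.leaf 4095)
 (.leaf 12444)))
 (.node (.node (.leaf 12507)
 (.leaf 4095))
 (.node (.leaf 4095)
 (.leaf 4095))))))

def tiClOfB50 : RT := .node (.node (.node (.node (.node (.node (.leaf 4095)
 (.leaf 4095))
 (.node (.leaf 4095)
 (.leaf 13191)))
 (.node (.node (.leaf 4095)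
 (.leaf 4095))
 (.node (.leaf 4095)
 (.leaf 4095))))
 (.node (.node (.node (.leaf 4095)
 (.leaf 4095))
 (.node (.leaf 4095)
 (.leaf 4095)))
 (.node (.node (.leaf 4095)
 (.leaf 4095))
 (.node (.leaf 12554)
 (.leaf 4095)))))
 (.node (.node (.node (.node (.leaf 4095)
 (.leaf 4095))
 (.node (.leaf 4095)
 (.leaf 4570)))
 (.node (.node (.leaf 12390)
 (.leaf 12769))
 (.node (.leaf 4095)
 (.leaf 4531))))
 (.node (.node (.node (.leaf 12650)
 (.leaf 13156))
 (.node (.leaf 4728)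
 (.leaf 4095)))
 (.node (.node (.leaf 4095)
 (.leaf 4272))
 (.node (.leaf 4095)
 (.leaf 4095))))))
 (.node (.node (.node (.node (.node (.leaf 4095)
 (.leaf 4479))
 (.node (.leaf 4095)
 (.leaf 4095)))
 (.node (.node (.leaf 13100)
 (.leaf 13045))
 (.node (.leaf 4095)
 (.leaf 13035))))
 (.node (.node (.node (.leaf 4095)
 (.leaf 12594))
 (.node (.leaf 4095)
 (.leaf 4095)))
 (.node (.node (.leaf 4095)
 (.leaf 4095))
 (.node (.leaf 4095)
 (.leaf 4095)))))
 (.node (.node (.node (.node (.leaf 4095)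
 (.leaf 4535))
 (.node (.leaf 4095)
 (.leaf 4237)))
 (.node (.node (.leaf 4414)
 (.leaf 4095))
 (.node (.leaf 13194)
 (.leaf 4095))))
 (.node (.node (.node (.leaf 4095)
 (.leaf 13212))
 (.node (.leaf 4572)
 (.leaf 4095)))
 (.node (.node (.leaf 4095)
 (.leaf 4707))
 (.node (.leaf 4095)
 (.leaf 4095))))))

def tiClOfB51 : RT := .node (.node (.node (.node (.node (.node (.leaf 4095)
 (.leaf 4095))
 (.node (.leaf 4095)
 (.leaf 12613)))
 (.node (.node (.leaf 4436)
 (.leaf 12361))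
 (.node (.leaf 4095)
 (.leaf 4095))))
 (.node (.node (.node (.leaf 4095)
 (.leaf 4095))
 (.node (.leaf 4095)
 (.leaf 4376)))
 (.node (.node (.leaf 4095)
 (.leaf 4095))
 (.node (.leaf 4095)
 (.leaf 4095)))))
 (.node (.node (.node (.node (.leaf 4095)
 (.leaf 12460))
 (.node (.leaf 12614)
 (.leaf 4095)))
 (.node (.node (.leaf 4095)
 (.leaf 4095))
 (.node (.leaf 4095)
 (.leaf 4113))))
 (.node (.node (.node (.leaf 12357)
 (.leaf 4095))
 (.node (.leaf 4095)
 (.leaf 4095)))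
 (.node (.node (.leaf 4095)
 (.leaf 4095))
 (.node (.leaf 13126)
 (.leaf 4169))))))
 (.node (.node (.node (.node (.node (.leaf 4095)
 (.leaf 4375))
 (.node (.leaf 4320)
 (.leaf 13165)))
 (.node (.node (.leaf 4400)
 (.leaf 4095))
 (.node (.leaf 13009)
 (.leaf 4095))))
 (.node (.node (.node (.leaf 4134)
 (.leaf 4411))
 (.node (.leaf 4095)
 (.leaf 4095)))
 (.node (.node (.leaf 4095)
 (.leaf 4366))
 (.node (.leaf 4095)
 (.leaf 4095)))))
 (.node (.node (.node (.node (.leaf 4095)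
 (.leaf 4095))
 (.node (.leaf 4095)
 (.leaf 12416)))
 (.node (.node (.leaf 4095)
 (.leaf 4095))
 (.node (.leaf 12947)
 (.leaf 4095))))
 (.node (.node (.node (.leaf 4095)
 (.leaf 4095))
 (.node (.leaf 4095)
 (.leaf 4095)))
 (.node (.node (.leaf 4095)
 (.leaf 4409))
 (.node (.leaf 4260)
 (.leaf 4095))))))

def tiClOfB52 : RT := .node (.node (.node (.node (.node (.node (.leaf 13029)
 (.leaf 4095))
 (.node (.leaf 4095)
 (.leaf 4095)))
 (.node (.node (.leaf 4095)
 (.leaf 4644))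
 (.node (.leaf 4095)
 (.leaf 4095))))
 (.node (.node (.node (.leaf 4095)
 (.leaf 4095))
 (.node (.leaf 4095)
 (.leaf 4095)))
 (.node (.node (.leaf 13088)
 (.leaf 13250))
 (.node (.leaf 4273)
 (.leaf 12603)))))
 (.node (.node (.node (.node (.leaf 4486)
 (.leaf 12695))
 (.node (.leaf 12490)
 (.leaf 12839)))
 (.node (.node (.leaf 4095)
 (.leaf 12940))
 (.node (.leaf 4095)
 (.leaf 13039))))
 (.node (.node (.node (.leaf 4095)
 (.leaf 13220))
 (.node (.leaf 4718)
 (.leaf 13069)))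
 (.node (.node (.leaf 4095)
 (.leaf 12623))
 (.node (.leaf 4095)
 (.leaf 4095))))))
 (.node (.node (.node (.node (.node (.leaf 4095)
 (.leaf 4095))
 (.node (.leaf 4216)
 (.leaf 4095)))
 (.node (.node (.leaf 4095)
 (.leaf 4095))
 (.node (.leaf 4095)
 (.leaf 4278))))
 (.node (.node (.node (.leaf 4095)
 (.leaf 12371))
 (.node (.leaf 12321)
 (.leaf 4138)))
 (.node (.node (.leaf 4095)
 (.leaf 4095))
 (.node (.leaf 8267)
 (.leaf 12598)))))
 (.node (.node (.node (.node (.leaf 12516)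
 (.leaf 4095))
 (.node (.leaf 4275)
 (.leaf 4095)))
 (.node (.node (.leaf 4095)
 (.leaf 4095))
 (.node (.leaf 4095)
 (.leaf 4279))))
 (.node (.node (.node (.leaf 4095)
 (.leaf 4095))
 (.node (.leaf 4095)
 (.leaf 4638)))
 (.node (.node (.leaf 4527)
 (.leaf 4095))
 (.node (.leaf 4095)
 (.leaf 4709))))))

def tiClOfB53 : RT := .node (.node (.node (.node (.node (.node (.leaf 12763)
 (.leaf 4095))
 (.node (.leaf 13086)
 (.leaf 4095)))
 (.node (.node (.leaf 4095)
 (.leaf 4095))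
 (.node (.leaf 4095)
 (.leaf 4095))))
 (.node (.node (.node (.leaf 4095)
 (.leaf 4095))
 (.node (.leaf 8209)
 (.leaf 4095)))
 (.node (.node (.leaf 13115)
 (.leaf 4095))
 (.node (.leaf 4107)
 (.leaf 4095)))))
 (.node (.node (.node (.node (.leaf 4095)
 (.leaf 4220))
 (.node (.leaf 4095)
 (.leaf 13050)))
 (.node (.node (.leaf 13060)
 (.leaf 12991))
 (.node (.leaf 4340)
 (.leaf 12373))))
 (.node (.node (.node (.leaf 4095)
 (.leaf 4095))
 (.node (.leaf 4095)
 (.leaf 4095)))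
 (.node (.node (.leaf 12912)
 (.leaf 4649))
 (.node (.leaf 4095)
 (.leaf 4512))))))
 (.node (.node (.node (.node (.node (.leaf 4187)
 (.leaf 4095))
 (.node (.leaf 4095)
 (.leaf 4095)))
 (.node (.node (.leaf 4445)
 (.leaf 4095))
 (.node (.leaf 4095)
 (.leaf 4095))))
 (.node (.node (.node (.leaf 12624)
 (.leaf 12502))
 (.node (.leaf 4095)
 (.leaf 4095)))
 (.node (.node (.leaf 4095)
 (.leaf 12935))
 (.node (.leaf 13052)
 (.leaf 4095)))))
 (.node (.node (.node (.node (.leaf 4095)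
 (.leaf 12824))
 (.node (.leaf 4558)
 (.leaf 12710)))
 (.node (.node (.leaf 4588)
 (.leaf 4095))
 (.node (.leaf 12472)
 (.leaf 8250))))
 (.node (.node (.node (.leaf 4689)
 (.leaf 12524))
 (.node (.leaf 4095)
 (.leaf 4095)))
 (.node (.node (.leaf 4312)
 (.leaf 4131))
 (.node (.leaf 4095)
 (.leaf 13008))))))

def tiClOfB54 : RT := .node (.node (.node (.node (.node (.node (.leaf 4095)
 (.leaf 16388))
 (.node (.leaf 4095)
 (.leaf 12849)))
 (.node (.node (.leaf 4540)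
 (.leaf 4180))
 (.node (.leaf 4322)
 (.leaf 4595))))
 (.node (.node (.node (.leaf 12632)
 (.leaf 8242))
 (.node (.leaf 4500)
 (.leaf 4095)))
 (.node (.node (.leaf 4095)
 (.leaf 12715))
 (.node (.leaf 4095)
 (.leaf 4095)))))
 (.node (.node (.node (.node (.leaf 4360)
 (.leaf 4704))
 (.node (.leaf 4095)
 (.leaf 4095)))
 (.node (.node (.leaf 4652)
 (.leaf 4095))
 (.node (.leaf 12868)
 (.leaf 4541))))
 (.node (.node (.node (.leaf 4095)
 (.leaf 4095))
 (.node (.leaf 4095)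
 (.leaf 4146)))
 (.node (.node (.leaf 12811)
 (.leaf 4095))
 (.node (.leaf 13221)
 (.leaf 4620))))))
 (.node (.node (.node (.node (.node (.leaf 4095)
 (.leaf 4095))
 (.node (.leaf 16389)
 (.leaf 4627)))
 (.node (.node (.leaf 4335)
 (.leaf 4095))
 (.node (.leaf 12410)
 (.leaf 4095))))
 (.node (.node (.node (.leaf 4459)
 (.leaf 4095))
 (.node (.leaf 4095)
 (.leaf 12700)))
 (.node (.node (.leaf 4095)
 (.leaf 13003))
 (.node (.leaf 12686)
 (.leaf 4197)))))
 (.node (.node (.node (.node (.leaf 4119)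
 (.leaf 4095))
 (.node (.leaf 4095)
 (.leaf 4095)))
 (.node (.node (.leaf 4095)
 (.leaf 4095))
 (.node (.leaf 4095)
 (.leaf 4143))))
 (.node (.node (.node (.leaf 4095)
 (.leaf 4182))
 (.node (.leaf 4617)
 (.leaf 4354)))
 (.node (.node (.leaf 4537)
 (.leaf 4095))
 (.node (.leaf 4095)
 (.leaf 4095))))))

def tiClOfB55 : RT := .node (.node (.node (.node (.node (.node (.leaf 4095)
 (.leaf 4095))
 (.node (.leaf 4599)
 (.leaf 13193)))
 (.node (.node (.leaf 4095)
 (.leaf 12429))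
 (.node (.leaf 4095)
 (.leaf 4447))))
 (.node (.node (.node (.leaf 4523)
 (.leaf 4621))
 (.node (.leaf 4095)
 (.leaf 4095)))
 (.node (.node (.leaf 4095)
 (.leaf 13134))
 (.node (.leaf 4095)
 (.leaf 4095)))))
 (.node (.node (.node (.node (.leaf 13151)
 (.leaf 4265))
 (.node (.leaf 4095)
 (.leaf 4095)))
 (.node (.node (.leaf 4095)
 (.leaf 4732))
 (.node (.leaf 4723)
 (.leaf 4095))))
 (.node (.node (.node (.leaf 4095)
 (.leaf 4193))
 (.node (.leaf 4095)
 (.leaf 4095)))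
 (.node (.node (.leaf 4217)
 (.leaf 4095))
 (.node (.leaf 4095)
 (.leaf 4095))))))
 (.node (.node (.node (.node (.node (.leaf 4584)
 (.leaf 13136))
 (.node (.leaf 4095)
 (.leaf 4095)))
 (.node (.node (.leaf 4095)
 (.leaf 4095))
 (.node (.leaf 4095)
 (.leaf 4259))))
 (.node (.node (.node (.leaf 4095)
 (.leaf 4484))
 (.node (.leaf 4120)
 (.leaf 4371)))
 (.node (.node (.leaf 12937)
 (.leaf 4372))
 (.node (.leaf 4095)
 (.leaf 12703)))))
 (.node (.node (.node (.node (.leaf 4382)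
 (.leaf 4095))
 (.node (.leaf 4190)
 (.leaf 4095)))
 (.node (.node (.leaf 4706)
 (.leaf 4236))
 (.node (.leaf 4231)
 (.leaf 4404))))
 (.node (.node (.node (.leaf 4095)
 (.leaf 16384))
 (.node (.leaf 4095)
 (.leaf 4095)))
 (.node (.node (.leaf 4095)
 (.leaf 4313))
 (.node (.leaf 4561)
 (.leaf 4516))))))

def tiClOfB56 : RT := .node (.node (.node (.node (.node (.node (.leaf 12455)
 (.leaf 4095))
 (.node (.leaf 4095)
 (.leaf 4095)))
 (.node (.node (.leaf 4095)
 (.leaf 4095))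
 (.node (.leaf 4095)
 (.leaf 4095))))
 (.node (.node (.node (.leaf 16385)
 (.leaf 13033))
 (.node (.leaf 12521)
 (.leaf 4699)))
 (.node (.node (.leaf 4392)
 (.leaf 4710))
 (.node (.leaf 4095)
 (.leaf 4585)))))
 (.node (.node (.node (.node (.leaf 4619)
 (.leaf 4405))
 (.node (.leaf 4095)
 (.leaf 4095)))
 (.node (.node (.leaf 4703)
 (.leaf 4423))
 (.node (.leaf 4095)
 (.leaf 12447))))
 (.node (.node (.node (.leaf 4095)
 (.leaf 4095))
 (.node (.leaf 13012)
 (.leaf 12986)))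
 (.node (.node (.leaf 4095)
 (.leaf 4095))
 (.node (.leaf 4095)
 (.leaf 12729))))))
 (.node (.node (.node (.node (.node (.leaf 4095)
 (.leaf 13063))
 (.node (.leaf 4606)
 (.leaf 4095)))
 (.node (.node (.leaf 4095)
 (.leaf 4655))
 (.node (.leaf 4657)
 (.leaf 4195))))
 (.node (.node (.node (.leaf 4095)
 (.leaf 4095))
 (.node (.leaf 4158)
 (.leaf 16392)))
 (.node (.node (.leaf 12906)
 (.leaf 13082))
 (.node (.leaf 4095)
 (.leaf 4303)))))
 (.node (.node (.node (.node (.leaf 4327)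
 (.leaf 12863))
 (.node (.leaf 4258)
 (.leaf 4719)))
 (.node (.node (.leaf 12544)
 (.leaf 4095))
 (.node (.leaf 4139)
 (.leaf 4095))))
 (.node (.node (.node (.leaf 4095)
 (.leaf 4095))
 (.node (.leaf 13197)
 (.leaf 4622)))
 (.node (.node (.leaf 4095)
 (.leaf 4095))
 (.node (.leaf 4095)
 (.leaf 4576))))))

def tiClOfB57 : RT := .node (.node (.node (.node (.node (.node (.leaf 4722)
 (.leaf 4465))
 (.node (.leaf 12584)
 (.leaf 4095)))
 (.node (.node (.leaf 12719)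
 (.leaf 4095))
 (.node (.leaf 13104)
 (.leaf 4488))))
 (.node (.node (.node (.leaf 4323)
 (.leaf 4177))
 (.node (.leaf 4095)
 (.leaf 4346)))
 (.node (.node (.leaf 4348)
 (.leaf 4095))
 (.node (.leaf 4095)
 (.leaf 4095)))))
 (.node (.node (.node (.node (.leaf 12800)
 (.leaf 16393))
 (.node (.leaf 12434)
 (.leaf 12941)))
 (.node (.node (.leaf 4095)
 (.leaf 4095))
 (.node (.leaf 4095)
 (.leaf 4274))))
 (.node (.node (.node (.leaf 12289)
 (.leaf 4095))
 (.node (.leaf 4125)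
 (.leaf 12683)))
 (.node (.node (.leaf 4095)
 (.leaf 4095))
 (.node (.leaf 12553)
 (.leaf 12631))))))
 (.node (.node (.node (.node (.node (.leaf 4095)
 (.leaf 8258))
 (.node (.leaf 4368)
 (.leaf 4485)))
 (.node (.node (.leaf 13040)
 (.leaf 4095))
 (.node (.leaf 4095)
 (.leaf 4095))))
 (.node (.node (.node (.leaf 4095)
 (.leaf 4095))
 (.node (.leaf 4095)
 (.leaf 4095)))
 (.node (.node (.leaf 4095)
 (.leaf 4095))
 (.node (.leaf 4095)
 (.leaf 4095)))))
 (.node (.node (.node (.node (.leaf 12441)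
 (.leaf 12899))
 (.node (.leaf 12642)
 (.leaf 13268)))
 (.node (.node (.leaf 8244)
 (.leaf 4145))
 (.node (.leaf 4095)
 (.leaf 4095))))
 (.node (.node (.node (.leaf 4095)
 (.leaf 4095))
 (.node (.leaf 13113)
 (.leaf 13259)))
 (.node (.node (.leaf 4095)
 (.leaf 4095))
 (.node (.leaf 4095)
 (.leaf 12708))))))

def tiClOfB58 : RT := .node (.node (.node (.node (.node (.node (.leaf 4283)
 (.leaf 12821))
 (.node (.leaf 12604)
 (.leaf 4095)))
 (.node (.node (.leaf 4095)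
 (.leaf 4095))
 (.node (.leaf 4095)
 (.leaf 4095))))
 (.node (.node (.node (.leaf 4560)
 (.leaf 4095))
 (.node (.leaf 4095)
 (.leaf 4095)))
 (.node (.node (.leaf 4095)
 (.leaf 4350))
 (.node (.leaf 4095)
 (.leaf 4095)))))
 (.node (.node (.node (.node (.leaf 4095)
 (.leaf 4095))
 (.node (.leaf 4095)
 (.leaf 4095)))
 (.node (.node (.leaf 4095)
 (.leaf 4095))
 (.node (.leaf 13234)
 (.leaf 4676))))
 (.node (.node (.node (.leaf 12938)
 (.leaf 4095))
 (.node (.leaf 12535)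
 (.leaf 12701)))
 (.node (.node (.leaf 4095)
 (.leaf 4095))
 (.node (.leaf 4095)
 (.leaf 4095))))))
 (.node (.node (.node (.node (.node (.leaf 4095)
 (.leaf 4095))
 (.node (.leaf 4714)
 (.leaf 13044)))
 (.node (.node (.leaf 12540)
 (.leaf 12865))
 (.node (.leaf 4095)
 (.leaf 4095))))
 (.node (.node (.node (.leaf 13237)
 (.leaf 4095))
 (.node (.leaf 13007)
 (.leaf 8243)))
 (.node (.node (.leaf 12389)
 (.leaf 4095))
 (.node (.leaf 12382)
 (.leaf 4095)))))
 (.node (.node (.node (.node (.leaf 4095)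
 (.leaf 4095))
 (.node (.leaf 4095)
 (.leaf 4472)))
 (.node (.node (.leaf 4095)
 (.leaf 4095))
 (.node (.leaf 4095)
 (.leaf 12747))))
 (.node (.node (.node (.leaf 13083)
 (.leaf 4095))
 (.node (.leaf 13282)
 (.leaf 13277)))
 (.node (.node (.leaf 4095)
 (.leaf 13305))
 (.node (.leaf 12500)
 (.leaf 4669))))))

def tiClOfB59 : RT := .node (.node (.node (.node (.node (.node (.leaf 4095)
 (.leaf 4629))
 (.node (.leaf 4095)
 (.leaf 12823)))
 (.node (.node (.leaf 12816)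
 (.leaf 4095))
 (.node (.leaf 4095)
 (.leaf 8225))))
 (.node (.node (.node (.leaf 8259)
 (.leaf 4308))
 (.node (.leaf 4659)
 (.leaf 4095)))
 (.node (.node (.leaf 4095)
 (.leaf 13131))
 (.node (.leaf 12738)
 (.leaf 12316)))))
 (.node (.node (.node (.node (.leaf 12527)
 (.leaf 13241))
 (.node (.leaf 4095)
 (.leaf 13162)))
 (.node (.node (.leaf 4095)
 (.leaf 4194))
 (.node (.leaf 4095)
 (.leaf 8271))))
 (.node (.node (.node (.leaf 12571)
 (.leaf 4095))
 (.node (.leaf 4095)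
 (.leaf 12646)))
 (.node (.node (.leaf 13233)
 (.leaf 4095))
 (.node (.leaf 4095)
 (.leaf 4095))))))
 (.node (.node (.node (.node (.node (.leaf 12845)
 (.leaf 12547))
 (.node (.leaf 4095)
 (.leaf 4095)))
 (.node (.node (.leaf 12916)
 (.leaf 4095))
 (.node (.leaf 4095)
 (.leaf 12415))))
 (.node (.node (.node (.leaf 4406)
 (.leaf 12620))
 (.node (.leaf 4095)
 (.leaf 4095)))
 (.node (.node (.leaf 4095)
 (.leaf 4095))
 (.node (.leaf 12375)
 (.leaf 12393)))))
 (.node (.node (.node (.node (.leaf 4095)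
 (.leaf 4367))
 (.node (.leaf 12679)
 (.leaf 12474)))
 (.node (.node (.leaf 4095)
 (.leaf 13079))
 (.node (.leaf 4095)
 (.leaf 4095))))
 (.node (.node (.node (.leaf 4095)
 (.leaf 13289))
 (.node (.leaf 13135)
 (.leaf 12835)))
 (.node (.node (.leaf 4095)
 (.leaf 4095))
 (.node (.leaf 4172)
 (.leaf 4095))))))

def tiClOfB60 : RT := .node (.node (.node (.node (.node (.node (.leaf 4095)
 (.leaf 4095))
 (.node (.leaf 4095)
 (.leaf 13308)))
 (.node (.node (.leaf 12343)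
 (.leaf 12401))
 (.node (.leaf 4095)
 (.leaf 4095))))
 (.node (.node (.node (.leaf 4095)
 (.leaf 4095))
 (.node (.leaf 4095)
 (.leaf 13064)))
 (.node (.node (.leaf 4095)
 (.leaf 4095))
 (.node (.leaf 4095)
 (.leaf 8226)))))
 (.node (.node (.node (.node (.leaf 4095)
 (.leaf 4095))
 (.node (.leaf 4095)
 (.leaf 4095)))
 (.node (.node (.leaf 4095)
 (.leaf 4095))
 (.node (.leaf 12696)
 (.leaf 4095))))
 (.node (.node (.node (.leaf 4095)
 (.leaf 4095))
 (.node (.leaf 4095)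
 (.leaf 4095)))
 (.node (.node (.leaf 4536)
 (.leaf 4095))
 (.node (.leaf 4095)
 (.leaf 4383))))))
 (.node (.node (.node (.node (.node (.leaf 8249)
 (.leaf 4374))
 (.node (.leaf 4610)
 (.leaf 12440)))
 (.node (.node (.leaf 12724)
 (.leaf 4095))
 (.node (.leaf 13208)
 (.leaf 4095))))
 (.node (.node (.node (.leaf 4186)
 (.leaf 12550))
 (.node (.leaf 4095)
 (.leaf 4462)))
 (.node (.node (.leaf 4105)
 (.leaf 12360))
 (.node (.leaf 4248)
 (.leaf 12673)))))
 (.node (.node (.node (.node (.leaf 4378)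
 (.leaf 4095))
 (.node (.leaf 12782)
 (.leaf 12876)))
 (.node (.node (.leaf 4095)
 (.leaf 12405))
 (.node (.leaf 12977)
 (.leaf 4095))))
 (.node (.node (.node (.leaf 4095)
 (.leaf 12995))
 (.node (.leaf 12739)
 (.leaf 4691)))
 (.node (.node (.leaf 12348)
 (.leaf 4095))
 (.node (.leaf 12722)
 (.leaf 4095))))))

def tiClOfB61 : RT := .node (.node (.node (.node (.node (.node (.leaf 4095)
 (.leaf 4095))
 (.node (.leaf 4095)
 (.leaf 4602)))
 (.node (.node (.leaf 12861)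
 (.leaf 4095))
 (.node (.leaf 4095)
 (.leaf 4095))))
 (.node (.node (.node (.leaf 4095)
 (.leaf 4095))
 (.node (.leaf 13185)
 (.leaf 4095)))
 (.node (.node (.leaf 4683)
 (.leaf 4095))
 (.node (.leaf 13031)
 (.leaf 12965)))))
 (.node (.node (.node (.node (.leaf 4095)
 (.leaf 4095))
 (.node (.leaf 4095)
 (.leaf 4095)))
 (.node (.node (.leaf 4095)
 (.leaf 4095))
 (.node (.leaf 4567)
 (.leaf 4095))))
 (.node (.node (.node (.leaf 4428)
 (.leaf 4095))
 (.node (.leaf 4672)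
 (.leaf 4095)))
 (.node (.node (.leaf 4095)
 (.leaf 13296))
 (.node (.leaf 4095)
 (.leaf 4731))))))
 (.node (.node (.node (.node (.node (.leaf 12777)
 (.leaf 4095))
 (.node (.leaf 4095)
 (.leaf 4095)))
 (.node (.node (.leaf 4095)
 (.leaf 13055))
 (.node (.leaf 12843)
 (.leaf 12956))))
 (.node (.node (.node (.leaf 12953)
 (.leaf 4095))
 (.node (.leaf 4591)
 (.leaf 8252)))
 (.node (.node (.leaf 4095)
 (.leaf 12302))
 (.node (.leaf 4095)
 (.leaf 4496)))))
 (.node (.node (.node (.node (.leaf 4095)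
 (.leaf 4095))
 (.node (.leaf 4095)
 (.leaf 4191)))
 (.node (.node (.leaf 4605)
 (.leaf 4095))
 (.node (.leaf 4095)
 (.leaf 12299))))
 (.node (.node (.node (.leaf 12820)
 (.leaf 12318))
 (.node (.leaf 4521)
 (.leaf 4095)))
 (.node (.node (.leaf 12857)
 (.leaf 12508))
 (.node (.leaf 4725)
 (.leaf 13145))))))

def tiClOfB62 : RT := .node (.node (.node (.node (.node (.node (.leaf 4123)
 (.leaf 4095))
 (.node (.leaf 12810)
 (.leaf 4095)))
 (.node (.node (.leaf 12336)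
 (.leaf 4095))
 (.node (.leaf 4095)
 (.leaf 4095))))
 (.node (.node (.node (.leaf 4095)
 (.leaf 4106))
 (.node (.leaf 4095)
 (.leaf 4534)))
 (.node (.node (.leaf 8230)
 (.leaf 4095))
 (.node (.leaf 13080)
 (.leaf 4095)))))
 (.node (.node (.node (.node (.leaf 12756)
 (.leaf 12879))
 (.node (.leaf 4095)
 (.leaf 12833)))
 (.node (.node (.leaf 8215)
 (.leaf 4702))
 (.node (.leaf 8211)
 (.leaf 4095))))
 (.node (.node (.node (.leaf 4460)
 (.leaf 8256))
 (.node (.leaf 4525)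
 (.leaf 4095)))
 (.node (.node (.leaf 4721)
 (.leaf 12457))
 (.node (.leaf 12680)
 (.leaf 4095))))))
 (.node (.node (.node (.node (.node (.leaf 4715)
 (.leaf 4630))
 (.node (.leaf 4253)
 (.leaf 4095)))
 (.node (.node (.leaf 12736)
 (.leaf 4095))
 (.node (.leaf 4344)
 (.leaf 4095))))
 (.node (.node (.node (.leaf 4095)
 (.leaf 4095))
 (.node (.leaf 4674)
 (.leaf 4434)))
 (.node (.node (.leaf 4528)
 (.leaf 12644))
 (.node (.leaf 12996)
 (.leaf 12568)))))
 (.node (.node (.node (.node (.leaf 4095)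
 (.leaf 4095))
 (.node (.leaf 4095)
 (.leaf 4095)))
 (.node (.node (.leaf 4095)
 (.leaf 4095))
 (.node (.leaf 12797)
 (.leaf 4095))))
 (.node (.node (.node (.leaf 4677)
 (.leaf 4538))
 (.node (.leaf 4095)
 (.leaf 4476)))
 (.node (.node (.leaf 4095)
 (.leaf 4095))
 (.node (.leaf 8253)
 (.leaf 4551))))))

def tiClOfB63 : RT := .node (.node (.node (.node (.node (.node (.leaf 4095)
 (.leaf 4095))
 (.node (.leaf 12368)
 (.leaf 4417)))
 (.node (.node (.leaf 4095)
 (.leaf 4095))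
 (.node (.leaf 12558)
 (.leaf 4095))))
 (.node (.node (.node (.leaf 4095)
 (.leaf 4208))
 (.node (.leaf 4095)
 (.leaf 4110)))
 (.node (.node (.leaf 12551)
 (.leaf 4095))
 (.node (.leaf 4095)
 (.leaf 4176)))))
 (.node (.node (.node (.node (.leaf 13243)
 (.leaf 12519))
 (.node (.leaf 4688)
 (.leaf 4095)))
 (.node (.node (.leaf 13043)
 (.leaf 4607))
 (.node (.leaf 4095)
 (.leaf 4330))))
 (.node (.node (.node (.leaf 4095)
 (.leaf 4095))
 (.node (.leaf 4152)
 (.leaf 4353)))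
 (.leaf 0))))
 (.leaf 0)

def tiClOf : RT := .node (.node (.node (.node (.node (.node (tiClOfB0)
 (tiClOfB1))
 (.node (tiClOfB2)
 (tiClOfB3)))
 (.node (.node (tiClOfB4)
 (tiClOfB5))
 (.node (tiClOfB6)
 (tiClOfB7))))
 (.node (.node (.node (tiClOfB8)
 (tiClOfB9))
 (.node (tiClOfB10)
 (tiClOfB11)))
 (.node (.node (tiClOfB12)
 (tiClOfB13))
 (.node (tiClOfB14)
 (tiClOfB15)))))
 (.node (.node (.node (.node (tiClOfB16)
 (tiClOfB17))
 (.node (tiClOfB18)
 (tiClOfB19)))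
 (.node (.node (tiClOfB20)
 (tiClOfB21))
 (.node (tiClOfB22)
 (tiClOfB23))))
 (.node (.node (.node (tiClOfB24)
 (tiClOfB25))
 (.node (tiClOfB26)
 (tiClOfB27)))
 (.node (.node (tiClOfB28)
 (tiClOfB29))
 (.node (tiClOfB30)
 (tiClOfB31))))))
 (.node (.node (.node (.node (.node (tiClOfB32)
 (tiClOfB33))
 (.node (tiClOfB34)
 (tiClOfB35)))
 (.node (.node (tiClOfB36)
 (tiClOfB37))
 (.node (tiClOfB38)
 (tiClOfB39))))
 (.node (.node (.node (tiClOfB40)
 (tiClOfB41))
 (.node (tiClOfB42)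
 (tiClOfB43)))
 (.node (.node (tiClOfB44)
 (tiClOfB45))
 (.node (tiClOfB46)
 (tiClOfB47)))))
 (.node (.node (.node (.node (tiClOfB48)
 (tiClOfB49))
 (.node (tiClOfB50)
 (tiClOfB51)))
 (.node (.node (tiClOfB52)
 (tiClOfB53))
 (.node (tiClOfB54)
 (tiClOfB55))))
 (.node (.node (.node (tiClOfB56)
 (tiClOfB57))
 (.node (tiClOfB58)
 (tiClOfB59)))
 (.node (.node (tiClOfB60)
 (tiClOfB61))
 (.node (tiClOfB62)
 (tiClOfB63))))))

end Cfsg.Lib.RuModel
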