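import Mathlib

/-!
Simplicity of primitive groups generated by elements of a large prime order, and primitivity from suborbit sizes.
-/

set_option autoImplicit false

namespace Cfsg.Lib.RuModel

open MulAction Pointwise

theorem simple_of_primitive {G X : Type*} [Group G] [Finite G] [MulAction G X] [Finite X] [FaithfulSMul G X]
    [IsPreprimitive G X] {p : ℕ} (hp : p.Prime) (hpX : p ∣ Nat.card X) (hpG : ¬ p ^ 2 ∣ Nat.card G)
    [Nontrivial G] {S : Set G} (hS : Subgroup.closure S = ⊤) (hord : ∀ s ∈ S, s ^ p = 1) : IsSimpleGroup G := by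
  refine ⟨fun N hN => ?_⟩
  by_cases hbot : N = ⊥
  · exact Or.inl hbot
  refine Or.inr ?_
  haveI := hN
  have hNX : fixedPoints N X ≠ Set.univ := by
    intro h
    apply hbot
    rw [Subgroup.eq_bot_iff_forall]
    intro g hg
    refine FaithfulSMul.eq_of_smul_eq_smul (α := X) fun x => ?_
    rw [one_smul]
    have hx : x ∈ fixedPoints N X := by simp [h]
    exact hx ⟨g, hg⟩
  haveI : IsPretransitive N X := IsQuasiPreprimitive.isPretransitive_of_normal hNX
  haveI : Nonempty X := by
    by_contra hne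
    rw [not_nonempty_iff] at hne
    exact hNX (Set.ext fun x => (hne.false x).elim)
  obtain ⟨x⟩ : Nonempty X := inferInstance
  have hpN : p ∣ Nat.card N := by
    refine hpX.trans ?_
    rw [← index_stabilizer_of_transitive N x]
    exact Subgroup.index_dvd_card _
  have hidx : ¬ p ∣ N.index := fun h => hpG (by
    rw [pow_two, ← N.card_mul_index]
    exact Nat.mul_dvd_mul hpN h)
  rw [← top_le_iff, ← hS, Subgroup.closure_le]
  intro s hs
  rw [SetLike.mem_coe, ← QuotientGroup.eq_one_iff]
  have h1 : orderOf (s : G ⧸ N) ∣ p := orderOf_dvd_of_pow_eq_one (by rw [← QuotientGroup.mk_pow, hord s hs]; rfl)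
  have h2 : orderOf (s : G ⧸ N) ∣ N.index := by
    rw [Subgroup.index_eq_card]
    exact orderOf_dvd_natCard _
  rcases hp.eq_one_or_self_of_dvd _ h1 with h | h
  · exact orderOf_eq_one_iff.1 h
  · exact absurd (h ▸ h2) hidx

theorem primitive_of_classes {G X : Type*} [Group G] [MulAction G X] [Finite X] [IsPretransitive G X]
    {k : ℕ} (a : X) (cls : X → Fin k) (rep : Fin k → X) (size : Fin k → ℕ)
    (hrep : ∀ x, ∃ g : G, g • a = a ∧ g • rep (cls x) = x)
    (hsize : ∀ c, {x : X | cls x = c}.ncard = size c)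
    (hone : ∀ x, cls x = cls a → x = a)
    (hdvd : ∀ T : Finset (Fin k), cls a ∈ T → (∑ c ∈ T, size c) ∣ Nat.card X →
      T = {cls a} ∨ T = Finset.univ) : IsPreprimitive G X := by
  classical
  refine IsPreprimitive.of_isTrivialBlock_base a fun {B} haB hB => ?_
  have hinv : ∀ g : G, g • a = a → ∀ x ∈ B, g • x ∈ B := by
    intro g hg x hx
    have : g • B = B := hB.smul_eq_of_mem haB (by rw [hg]; exact haB)
    rw [← this]
    exact Set.smul_mem_smul_set hx
  have key : ∀ x ∈ B, ∀ y, cls y = cls x → y ∈ B := by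
    intro x hx y hy
    obtain ⟨g, hg, hgx⟩ := hrep x
    obtain ⟨h, hh, hhy⟩ := hrep y
    have hr : rep (cls x) ∈ B := by
      have e : g⁻¹ • x = rep (cls x) := by rw [inv_smul_eq_iff, hgx]
      rw [← e]
      exact hinv _ (by rw [inv_smul_eq_iff, hg]) x hx
    rw [← hhy, hy]
    exact hinv h hh _ hr
  let T : Finset (Fin k) := Finset.univ.filter fun c => ∃ x ∈ B, cls x = c
  have hBT : ∀ x, x ∈ B ↔ cls x ∈ T := fun x =>
    ⟨fun hx => Finset.mem_filter.2 ⟨Finset.mem_univ _, x, hx, rfl⟩, fun hx => by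
      obtain ⟨y, hy, e⟩ := (Finset.mem_filter.1 hx).2
      exact key y hy x e.symm⟩
  have hcard : B.ncard = ∑ c ∈ T, size c := by
    haveI := Fintype.ofFinite X
    have e : B = ↑(Finset.univ.filter fun x : X => cls x ∈ T) := by ext x; simp [hBT x]
    rw [e, Set.ncard_coe_finset, Finset.card_eq_sum_card_fiberwise (f := cls) (t := T) (by intro x hx; simpa using hx)]
    refine Finset.sum_congr rfl fun c hc => ?_
    rw [← hsize c, ← Set.ncard_coe_finset]
    congr 1
    ext x
    simp only [Finset.coe_filter, Finset.mem_filter, Finset.mem_univ, true_and]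
    exact ⟨fun h => h.2, fun h => ⟨h ▸ hc, h⟩⟩
  rcases hdvd T ((hBT a).1 haB) (hcard ▸ hB.ncard_dvd_card ⟨a, haB⟩) with h | h
  · exact Or.inl (Set.subsingleton_of_forall_eq a fun x hx => hone x (by simpa [h] using (hBT x).1 hx))
  · exact Or.inr (Set.eq_univ_of_forall fun x => (hBT x).2 (by simp [h]))

end Cfsg.Lib.RuModel
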