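import Cfsg.Agent.RuModel.Setup
import Cfsg.Agent.RuModel.CheckD
import Cfsg.Agent.RuModel.Simple

/-!
Both groups are simple.
-/

set_option autoImplicit false

namespace Cfsg.Lib.RuModel

open MulAction

/-- A suborbit with its properties. -/
def Cl.pt (C : Cl) (i : ℕ) : ℕ := C.pts.get C.d i

theorem code_spec {Cs : List Cl} {cls : RT} {x : ℕ} (h : codeOK Cs cls x = true) :
    ∃ hc : cls.get 12 x / 4096 < Cs.length, cls.get 12 x % 4096 < Cs[cls.get 12 x / 4096].n ∧
      Cs[cls.get 12 x / 4096].pt (cls.get 12 x % 4096) = x := by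
  unfold codeOK at h
  split at h
  · simp at h
  · rename_i C hC
    obtain ⟨hc, e⟩ := List.getElem?_eq_some_iff.1 hC
    simp only [Bool.and_eq_true, decide_eq_true_eq, beq_iff_eq] at h
    exact ⟨hc, e ▸ h.1, e ▸ h.2⟩

theorem cl_spec {C : Cl} {L : Lv} {cls : RT} {c : ℕ} (h : chk (C.ok L cls c) 0 C.n = true) (hn : C.n ≤ 4096)
    {gs : List (Equiv.Perm (Fin 4060))} (hG : Good vv L gs) :
    ∀ i < C.n, ∃ hp : C.pt i < 4060, cls.get 12 (C.pt i) / 4096 = c ∧ cls.get 12 (C.pt i) % 4096 = i ∧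
      ∀ hz : C.pt 0 < 4060, ∃ g ∈ gen gs, g ⟨C.pt 0, hz⟩ = (⟨C.pt i, hp⟩ : Fin 4060) := by
  intro i
  induction i using Nat.strong_induction_on with
  | _ i ih =>
    intro hi
    have := chk_apply h hi
    simp only [Cl.ok, Bool.and_eq_true, Bool.or_eq_true, decide_eq_true_eq, beq_iff_eq] at this
    obtain ⟨⟨hp, hcls⟩, hpar⟩ := this
    refine ⟨hp, ?_, ?_, fun hz => ?_⟩
    · show cls.get 12 (C.pts.get C.d i) / 4096 = c
      rw [hcls]; omega
    · show cls.get 12 (C.pts.get C.d i) % 4096 = i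
      rw [hcls]; omega
    · rcases hpar with rfl | ⟨⟨hlt, hg⟩, hv⟩
      · exact ⟨1, one_mem _, rfl⟩
      · obtain ⟨hq, -, -, hr⟩ := ih _ hlt (lt_trans hlt hi)
        obtain ⟨u, hu, e⟩ := hr hz
        refine ⟨gs.getD (C.par.get C.d i % 8) 1 * u, mul_mem (getD_mem_gen gs _) hu, ?_⟩
        rw [Equiv.Perm.mul_apply, e]
        exact vecs.inj _ _ ((hG.rep _ (hG.len ▸ hg) ⟨_, hq⟩).trans hv)

theorem pts_lt {L : Lv} {b : Fin 4060} {H K : Subgroup (Equiv.Perm (Fin 4060))} (hL : Level vv L b H K)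
    (i : Fin L.n) : L.pt i < 4060 := (hL.ptsLt i i.isLt).1

theorem pts_inj {L : Lv} {b : Fin 4060} {H K : Subgroup (Equiv.Perm (Fin 4060))} (hL : Level vv L b H K) :
    Function.Injective fun i : Fin L.n => (⟨L.pt i, pts_lt hL i⟩ : Fin 4060) := fun i j h => by
  apply Fin.ext
  have e : L.pt i = L.pt j := congrArg Fin.val h
  rw [← (hL.ptsLt i i.isLt).2, ← (hL.ptsLt j j.isLt).2, e]

theorem cl_reach {C : Cl} {L : Lv} {cls : RT} {c : ℕ} (h : chk (C.ok L cls c) 0 C.n = true) (hn : C.n ≤ 4096)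
    {gs : List (Equiv.Perm (Fin 4060))} (hG : Good vv L gs) {H : Subgroup (Equiv.Perm (Fin 4060))}
    (hle : gen gs ≤ H) {a : Fin 4060} (hfix : ∀ u ∈ gen gs, u a = a) {i : ℕ} (hi : i < C.n) (x : Fin 4060)
    (e : C.pt i = x.val) (r : Fin 4060) (hr : r.val = C.pt 0) : ∃ g : H, g.val a = a ∧ g.val r = x := by
  obtain ⟨hp, -, -, hh⟩ := cl_spec h hn hG i hi
  obtain ⟨g, hg, he⟩ := hh (hr ▸ r.isLt)
  refine ⟨⟨g, hle hg⟩, hfix g hg, ?_⟩
  rw [show r = ⟨C.pt 0, hr ▸ r.isLt⟩ from Fin.ext hr]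
  exact he.trans (Fin.ext e)

/-- The group. -/
noncomputable def ruGroup : Subgroup (Equiv.Perm (Fin 4060)) := gen gs0

instance ru_pretransitive : IsPretransitive ruGroup (Fin 4060) := by
  have hsurj : Function.Surjective fun i : Fin ru0.n => (⟨ru0.pt i, pts_lt level0 i⟩ : Fin 4060) :=
    ((Fintype.bijective_iff_injective_and_card _).2 ⟨pts_inj level0, rfl⟩).2
  have key : ∀ y : Fin 4060, ∃ g : ruGroup, g • b0 = y := by
    intro y
    obtain ⟨i, rfl⟩ := hsurj y
    obtain ⟨h, hh, -, he⟩ := level0.elems i i.isLt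
    exact ⟨⟨h, hh⟩, Fin.ext he⟩
  refine ⟨fun x y => ?_⟩
  obtain ⟨g, rfl⟩ := key x
  obtain ⟨h, rfl⟩ := key y
  exact ⟨h * g⁻¹, by rw [mul_smul, inv_smul_smul]⟩

/-- The class of a point. -/
def ruCls (x : Fin 4060) : Fin 3 := ⟨ruClOf.get 12 x / 4096, by
  have h := ru_code
  simp only [List.all_eq_true, List.mem_range] at h
  exact (code_spec (h x x.isLt)).1⟩

theorem ruCl_ok (c : Fin 3) : chk ((ruClList[c.val]'c.isLt).ok ru1 ruClOf c) 0 (ruClList[c.val]'c.isLt).n = true := by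
  fin_cases c
  · exact ruCl0_ok
  · exact ruCl1_ok
  · exact ruCl2_ok

theorem ruCl_n (c : Fin 3) : 0 < (ruClList[c.val]'c.isLt).n ∧ (ruClList[c.val]'c.isLt).n ≤ 4096 ∧
    (ruClList[c.val]'c.isLt).n = ![1, 1755, 2304] c := by
  fin_cases c <;> exact ⟨by decide, by decide, rfl⟩

attribute [local irreducible] RT.get in
theorem ru_code_pt (x : Fin 4060) : ∃ i, i < (ruClList[(ruCls x).val]'(ruCls x).isLt).n ∧
    (ruClList[(ruCls x).val]'(ruCls x).isLt).pt i = x := by
  have h := ru_code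
  simp only [List.all_eq_true, List.mem_range] at h
  obtain ⟨_, h1, h2⟩ := code_spec (h x x.isLt)
  exact ⟨_, h1, h2⟩

attribute [local irreducible] RT.get in
instance ru_primitive : IsPreprimitive ruGroup (Fin 4060) := by
  let rep : Fin 3 → Fin 4060 := fun c =>
    ⟨(ruClList[c.val]'c.isLt).pt 0, (cl_spec (ruCl_ok c) (ruCl_n c).2.1 next1.1 0 (ruCl_n c).1).1⟩
  have hsize : ∀ c, {x : Fin 4060 | ruCls x = c}.ncard = ![1, 1755, 2304] c := by
    intro c
    rw [← (ruCl_n c).2.2, ← Nat.card_coe_set_eq, ← Nat.card_fin (ruClList[c.val]'c.isLt).n]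
    symm
    refine Nat.card_congr (Equiv.ofBijective (fun i => ⟨⟨(ruClList[c.val]'c.isLt).pt i,
      (cl_spec (ruCl_ok c) (ruCl_n c).2.1 next1.1 i i.isLt).1⟩, ?_⟩) ⟨?_, ?_⟩)
    · exact Fin.ext (cl_spec (ruCl_ok c) (ruCl_n c).2.1 next1.1 i i.isLt).2.1
    · intro i j h
      obtain ⟨-, -, hi, -⟩ := cl_spec (ruCl_ok c) (ruCl_n c).2.1 next1.1 i i.isLt
      obtain ⟨-, -, hj, -⟩ := cl_spec (ruCl_ok c) (ruCl_n c).2.1 next1.1 j j.isLt
      apply Fin.ext
      have e : (ruClList[c.val]'c.isLt).pt i = (ruClList[c.val]'c.isLt).pt j :=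
        congrArg (fun z => (Subtype.val z).val) h
      rw [← hi, ← hj, e]
    · rintro ⟨x, hx⟩
      have hx' : ruCls x = c := hx
      obtain ⟨i, hi, e⟩ := ru_code_pt x
      have hcv : (ruCls x).val = c.val := congrArg Fin.val hx'
      simp only [hcv] at hi e
      refine ⟨⟨i, hi⟩, ?_⟩
      apply Subtype.ext
      apply Fin.ext
      exact e
  refine primitive_of_classes b0 ruCls rep ![1, 1755, 2304] ?_ hsize ?_ ?_
  · intro x
    obtain ⟨i, hi, e⟩ := ru_code_pt x
    exact cl_reach (ruCl_ok (ruCls x)) (ruCl_n _).2.1 next1.1 next1.2.1 next1.2.2 hi x e (rep (ruCls x)) rfl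
  · intro x hx
    have h0 : (ruCls b0).val = 0 := by decide +kernel
    have h1 := hsize (ruCls b0)
    rw [show ruCls b0 = 0 from Fin.ext h0] at h1
    obtain ⟨y, hy⟩ := Set.ncard_eq_one.1 (h1.trans rfl)
    have m1 : x ∈ {z : Fin 4060 | ruCls z = 0} := hx.trans (Fin.ext h0)
    have m2 : b0 ∈ {z : Fin 4060 | ruCls z = 0} := Fin.ext h0
    rw [hy] at m1 m2
    exact m1.trans m2.symm
  · rw [Nat.card_fin, show ruCls b0 = 0 from Fin.ext (by decide +kernel)]
    decide +kernel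

theorem ru_simple : IsSimpleGroup ruGroup := by
  haveI : Fact (Nat.Prime 29) := ⟨by norm_num⟩
  have hc : Nat.card ruGroup = 145926144000 := card_ru
  haveI : Nontrivial ruGroup := Finite.one_lt_card_iff_nontrivial.1 (by rw [hc]; norm_num)
  refine simple_of_primitive (X := Fin 4060) (p := 29) (by norm_num) (by rw [Nat.card_fin]; norm_num)
    (by rw [hc]; norm_num) (S := Subtype.val ⁻¹' {g | g ∈ gs0}) ?_ ?_
  · exact Subgroup.closure_closure_coe_preimage
  · intro s hs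
    exact Subtype.ext (by rw [SubmonoidClass.coe_pow]; exact gs0_pow s.val hs)

/-- The Tits group. -/
noncomputable def titsGroup : Subgroup (Equiv.Perm (Fin 4060)) := gen ts0

/-- Its orbit. -/
abbrev TX : Type := orbit titsGroup c0

theorem tx_iff (x : Fin 4060) : x ∈ orbit titsGroup c0 ↔ ti0.pos.get 12 x ≠ 4095 := by
  constructor
  · rintro ⟨g, rfl⟩
    obtain ⟨i, hi, e⟩ := tlevel0.orbit g.val g.2
    show ti0.pos.get 12 (g.val c0).val ≠ 4095
    rw [e, (tlevel0.ptsLt i hi).2]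
    exact ne_of_lt (lt_trans hi (show 1755 < 4095 by norm_num))
  · intro h
    have h0 := ti0_pos
    simp only [List.all_eq_true, List.mem_range, Bool.or_eq_true, Bool.and_eq_true, decide_eq_true_eq, beq_iff_eq] at h0
    obtain ⟨⟨hlt, hpt⟩, -⟩ := (h0 x x.isLt).resolve_left h
    obtain ⟨g, hg, -, he⟩ := tlevel0.elems _ (show ti0.pos.get 12 x.val < ti0.n from hlt)
    exact ⟨⟨g, hg⟩, Fin.ext (he.trans hpt)⟩

theorem ti_code_pt (x : TX) : ∃ hc : tiClOf.get 12 x.val / 4096 < 5,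
    ∃ i, i < (tiClList[tiClOf.get 12 x.val / 4096]'hc).n ∧
      (tiClList[tiClOf.get 12 x.val / 4096]'hc).pt i = x.val := by
  have h0 := ti0_pos
  simp only [List.all_eq_true, List.mem_range, Bool.or_eq_true, Bool.and_eq_true, decide_eq_true_eq, beq_iff_eq] at h0
  obtain ⟨hc, h1, h2⟩ := code_spec ((h0 x.val x.val.isLt).resolve_left ((tx_iff x.val).1 x.2)).2
  exact ⟨hc, _, h1, h2⟩

/-- The class of a point of the orbit. -/
def tiCls (x : TX) : Fin 5 := ⟨tiClOf.get 12 x.val / 4096, (ti_code_pt x).1⟩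

theorem tiCl_ok (c : Fin 5) : chk ((tiClList[c.val]'c.isLt).ok ti1 tiClOf c) 0 (tiClList[c.val]'c.isLt).n = true := by
  fin_cases c
  · exact tiCl0_ok
  · exact tiCl1_ok
  · exact tiCl2_ok
  · exact tiCl3_ok
  · exact tiCl4_ok

theorem tiCl_n (c : Fin 5) : 0 < (tiClList[c.val]'c.isLt).n ∧ (tiClList[c.val]'c.isLt).n ≤ 4096 ∧
    (tiClList[c.val]'c.isLt).n = ![1, 640, 80, 1024, 10] c := by
  fin_cases c <;> exact ⟨by decide, by decide, rfl⟩

theorem tiCl_mem (c : Fin 5) : ((List.range (tiClList[c.val]'c.isLt).n).all fun i =>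
    decide (ti0.pos.get 12 ((tiClList[c.val]'c.isLt).pt i) ≠ 4095)) = true := by
  fin_cases c
  · exact tiCl0_in
  · exact tiCl1_in
  · exact tiCl2_in
  · exact tiCl3_in
  · exact tiCl4_in

/-- A point of a class. -/
noncomputable def tiPt (c : Fin 5) (i : Fin (tiClList[c.val]'c.isLt).n) : TX :=
  ⟨⟨(tiClList[c.val]'c.isLt).pt i, (cl_spec (tiCl_ok c) (tiCl_n c).2.1 nextT1.1 i i.isLt).1⟩, by
    have h := tiCl_mem c
    simp only [List.all_eq_true, List.mem_range, decide_eq_true_eq] at h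
    exact (tx_iff _).2 (h i i.isLt)⟩

theorem card_TX : Nat.card TX = 1755 := by
  have hmem : ∀ i : Fin ti0.n, (⟨ti0.pt i, pts_lt tlevel0 i⟩ : Fin 4060) ∈ orbit titsGroup c0 := by
    intro i
    obtain ⟨g, hg, -, he⟩ := tlevel0.elems i i.isLt
    exact ⟨⟨g, hg⟩, Fin.ext he⟩
  let f : Fin ti0.n → TX := fun i => ⟨⟨ti0.pt i, pts_lt tlevel0 i⟩, hmem i⟩
  have hf : Function.Bijective f := by
    refine ⟨fun i j h => pts_inj tlevel0 (congrArg Subtype.val h), fun x => ?_⟩
    obtain ⟨g, hg⟩ := mem_orbit_iff.1 x.2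
    obtain ⟨i, hi, e⟩ := tlevel0.orbit g.val g.2
    refine ⟨⟨i, hi⟩, Subtype.ext (Fin.ext ?_)⟩
    rw [← hg]
    exact e.symm
  rw [← Nat.card_congr (Equiv.ofBijective f hf), Nat.card_fin]
  rfl

attribute [local irreducible] RT.get in
instance tits_primitive : IsPreprimitive titsGroup TX := by
  let base : TX := ⟨c0, mem_orbit_self c0⟩
  have hsize : ∀ c, {x : TX | tiCls x = c}.ncard = ![1, 640, 80, 1024, 10] c := by
    intro c
    rw [← (tiCl_n c).2.2, ← Nat.card_coe_set_eq, ← Nat.card_fin (tiClList[c.val]'c.isLt).n]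
    symm
    refine Nat.card_congr (Equiv.ofBijective (fun i => ⟨tiPt c i, ?_⟩) ⟨?_, ?_⟩)
    · exact Fin.ext (cl_spec (tiCl_ok c) (tiCl_n c).2.1 nextT1.1 i i.isLt).2.1
    · intro i j h
      obtain ⟨-, -, hi, -⟩ := cl_spec (tiCl_ok c) (tiCl_n c).2.1 nextT1.1 i i.isLt
      obtain ⟨-, -, hj, -⟩ := cl_spec (tiCl_ok c) (tiCl_n c).2.1 nextT1.1 j j.isLt
      apply Fin.ext
      have e : (tiClList[c.val]'c.isLt).pt i = (tiClList[c.val]'c.isLt).pt j :=
        congrArg (fun z => (Subtype.val (Subtype.val z)).val) h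
      rw [← hi, ← hj, e]
    · rintro ⟨x, hx⟩
      obtain ⟨hc, i, hi, e⟩ := ti_code_pt x
      have hcv : tiClOf.get 12 x.val / 4096 = c.val := congrArg Fin.val (show tiCls x = c from hx)
      simp only [hcv] at hi e
      refine ⟨⟨i, hi⟩, ?_⟩
      apply Subtype.ext
      apply Subtype.ext
      apply Fin.ext
      exact e
  refine primitive_of_classes base tiCls (fun c => tiPt c ⟨0, (tiCl_n c).1⟩) ![1, 640, 80, 1024, 10] ?_ hsize ?_ ?_
  · intro x
    obtain ⟨hc, i, hi, e⟩ := ti_code_pt x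
    obtain ⟨g, h1, h2⟩ := cl_reach (tiCl_ok (tiCls x)) (tiCl_n _).2.1 nextT1.1 nextT1.2.1 nextT1.2.2 hi x.val e
      (tiPt (tiCls x) ⟨0, (tiCl_n _).1⟩).val rfl
    exact ⟨g, Subtype.ext h1, Subtype.ext h2⟩
  · intro x hx
    have h0 : (tiCls base).val = 0 := by
      show tiClOf.get 12 (ti0.pt 0) / 4096 = 0
      decide +kernel
    have h1 := hsize 0
    obtain ⟨y, hy⟩ := Set.ncard_eq_one.1 (h1.trans rfl)
    have m1 : x ∈ {z : TX | tiCls z = 0} := hx.trans (Fin.ext h0)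
    have m2 : base ∈ {z : TX | tiCls z = 0} := Fin.ext h0
    rw [hy] at m1 m2
    exact m1.trans m2.symm
  · have hX : Nat.card TX = 1755 := card_TX
    have h0 : tiCls base = 0 := Fin.ext (by
      show tiClOf.get 12 (ti0.pt 0) / 4096 = 0
      decide +kernel)
    rw [hX, h0]
    decide +kernel

instance tits_faithful : FaithfulSMul titsGroup TX := by
  refine ⟨fun {g h} hgh => ?_⟩
  suffices h⁻¹ * g = 1 from inv_mul_eq_one.1 this |>.symm
  have hfix : ∀ x : Fin 4060, x ∈ orbit titsGroup c0 → ((h⁻¹ * g : titsGroup) : Equiv.Perm (Fin 4060)) x = x := by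
    intro x hx
    have e : (h⁻¹ * g) • (⟨x, hx⟩ : TX) = ⟨x, hx⟩ := by rw [mul_smul, hgh, inv_smul_smul]
    exact congrArg Subtype.val e
  have m1 := tlevel0.stab _ (h⁻¹ * g).2 (hfix c0 (mem_orbit_self c0))
  have m2 := tlevel1.stab _ m1 (hfix c1 ((tx_iff c1).2 (by
    show ti0.pos.get 12 (ti1.pt 0) ≠ 4095
    decide +kernel)))
  have m3 := tlevel2.stab _ m2 (hfix c2 ((tx_iff c2).2 (by
    show ti0.pos.get 12 (ti2.pt 0) ≠ 4095
    decide +kernel)))
  exact Subtype.ext (Subgroup.mem_bot.1 m3)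

theorem tits_simple : IsSimpleGroup titsGroup := by
  have hc : Nat.card titsGroup = 17971200 := card_tits
  haveI : Nontrivial titsGroup := Finite.one_lt_card_iff_nontrivial.1 (by rw [hc]; norm_num)
  refine simple_of_primitive (X := TX) (p := 13) (by norm_num) ?_ (by rw [hc]; norm_num)
    (S := Subtype.val ⁻¹' {g | g ∈ ts0}) Subgroup.closure_closure_coe_preimage ?_
  · have h : Nat.card TX * Nat.card (stabilizer titsGroup c0) = 17971200 := by
      rw [Nat.card_coe_set_eq, ← index_stabilizer, Subgroup.index_mul_card]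
      exact hc
    have hs : Nat.card (stabilizer titsGroup c0) ∣ 10240 := by
      have e : stabilizer titsGroup c0 = (gen ts1).subgroupOf titsGroup := by
        ext g
        rw [mem_stabilizer_iff, Subgroup.mem_subgroupOf]
        exact ⟨fun hg => tlevel0.stab g.val g.2 hg, fun hg => nextT1.2.2 g.val hg⟩
      have e2 : Nat.card (gen ts1) = 10240 := by
        rw [tlevel1.card, tlevel2.card, Subgroup.card_bot]
        rfl
      rw [e]
      unfold titsGroup
      rw [Nat.card_congr (Subgroup.subgroupOfEquivOfLe nextT1.2.1).toEquiv, e2]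
    have h13 : 13 ∣ Nat.card TX * Nat.card (stabilizer titsGroup c0) := by rw [h]; norm_num
    rcases (Nat.Prime.dvd_mul (by norm_num)).1 h13 with h' | h'
    · exact h'
    · exact absurd (h'.trans hs) (by norm_num)
  · intro s hs
    exact Subtype.ext (by rw [SubmonoidClass.coe_pow]; exact ts0_pow s.val hs)

theorem stab_eq : stabilizer ruGroup (0 : Fin 4060) = (gen gs1).subgroupOf ruGroup := by
  have hb : b0 = (0 : Fin 4060) := Fin.ext base_pts.1
  ext g
  rw [mem_stabilizer_iff, Subgroup.mem_subgroupOf]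
  constructor
  · intro hg
    refine level0.stab g.val g.2 ?_
    rw [hb]
    exact hg
  · intro hg
    rw [← hb]
    exact next1.2.2 g.val hg

theorem card_point_stab : Nat.card (stabilizer ruGroup (0 : Fin 4060)) = 35942400 := by
  rw [stab_eq]
  exact (Nat.card_congr (Subgroup.subgroupOfEquivOfLe next1.2.1).toEquiv).trans card_stab

theorem exists_tits_subgroup : ∃ T : Subgroup (stabilizer ruGroup (0 : Fin 4060)),
    IsSimpleGroup T ∧ Nat.card T = 17971200 := by
  have h1 : titsGroup.subgroupOf ruGroup ≤ stabilizer ruGroup (0 : Fin 4060) := by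
    rw [stab_eq]
    exact fun g hg => nextT0.2.1 hg
  refine ⟨(titsGroup.subgroupOf ruGroup).subgroupOf (stabilizer ruGroup (0 : Fin 4060)), ?_⟩
  let e : (titsGroup.subgroupOf ruGroup).subgroupOf (stabilizer ruGroup (0 : Fin 4060)) ≃* titsGroup :=
    (Subgroup.subgroupOfEquivOfLe h1).trans (Subgroup.subgroupOfEquivOfLe (nextT0.2.1.trans next1.2.1))
  haveI := tits_simple
  haveI : Nontrivial ((titsGroup.subgroupOf ruGroup).subgroupOf (stabilizer ruGroup (0 : Fin 4060))) :=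
    e.toEquiv.nontrivial
  refine ⟨IsSimpleGroup.isSimpleGroup_of_surjective e.symm.toMonoidHom e.symm.surjective, ?_⟩
  exact (Nat.card_congr e.toEquiv).trans card_tits

end Cfsg.Lib.RuModel
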