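import Cfsg.Agent.RuModel.Chain
import Cfsg.Agent.RuModel.Data
import Cfsg.Agent.RuModel.Classes

/-!
The levels and suborbit lists, as structured values.
-/

set_option autoImplicit false

namespace Cfsg.Lib.RuModel

/-- The vector of a point. -/
def vv (x : ℕ) : ℕ := vecT.get 12 x

/-- A suborbit. -/
structure Cl where
  n : ℕ
  d : ℕ
  pts : RT
  par : RT

/-- The test for one point of a suborbit. -/
def Cl.ok (C : Cl) (L : Lv) (cls : RT) (c i : ℕ) : Bool :=
  decide (C.pts.get C.d i < 4060) && (cls.get 12 (C.pts.get C.d i) == c * 4096 + i) &&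
    (decide (i = 0) || (decide (C.par.get C.d i / 8 < i) && decide (C.par.get C.d i % 8 < L.mats.length) &&
      (vap (vv (C.pts.get C.d (C.par.get C.d i / 8))) (L.mat (C.par.get C.d i % 8)) == vv (C.pts.get C.d i))))

/-- A level. -/
def ru0 : Lv :=
  { mats := ru0Mats, n := 4060, d := 12, de := 13, trans := ru0Trans, pts := ru0Pts, par := ru0Par, pos := ru0At,
    edge := ru0Edge }

/-- A level. -/
def ru1 : Lv :=
  { mats := ru1Mats, n := 1755, d := 11, de := 12, trans := ru1Trans, pts := ru1Pts, par := ru1Par, pos := ru1At,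
    edge := ru1Edge }

/-- A level. -/
def ru2 : Lv :=
  { mats := ru2Mats, n := 1280, d := 11, de := 12, trans := ru2Trans, pts := ru2Pts, par := ru2Par, pos := ru2At,
    edge := ru2Edge }

/-- A level. -/
def ru3 : Lv :=
  { mats := ru3Mats, n := 16, d := 4, de := 5, trans := ru3Trans, pts := ru3Pts, par := ru3Par, pos := ru3At,
    edge := ru3Edge }

/-- A level. -/
def ti0 : Lv :=
  { mats := ti0Mats, n := 1755, d := 11, de := 12, trans := ti0Trans, pts := ti0Pts, par := ti0Par, pos := ti0At,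
    edge := ti0Edge }

/-- A level. -/
def ti1 : Lv :=
  { mats := ti1Mats, n := 1024, d := 10, de := 11, trans := ti1Trans, pts := ti1Pts, par := ti1Par, pos := ti1At,
    edge := ti1Edge }

/-- A level. -/
def ti2 : Lv :=
  { mats := ti2Mats, n := 10, d := 4, de := 5, trans := ti2Trans, pts := ti2Pts, par := ti2Par, pos := ti2At,
    edge := ti2Edge }

/-- Suborbits. -/
def ruClList : List Cl :=
  [⟨1, 0, ruCl0Pts, ruCl0Par⟩,
    ⟨1755, 11, ruCl1Pts, ruCl1Par⟩,
    ⟨2304, 12, ruCl2Pts, ruCl2Par⟩]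

/-- Suborbits. -/
def tiClList : List Cl :=
  [⟨1, 0, tiCl0Pts, tiCl0Par⟩,
    ⟨640, 10, tiCl1Pts, tiCl1Par⟩,
    ⟨80, 7, tiCl2Pts, tiCl2Par⟩,
    ⟨1024, 10, tiCl3Pts, tiCl3Par⟩,
    ⟨10, 4, tiCl4Pts, tiCl4Par⟩]

/-- The test that a code names the point in its suborbit. -/
def codeOK (Cs : List Cl) (cls : RT) (x : ℕ) : Bool :=
  match Cs[cls.get 12 x / 4096]? with
  | none => false
  | some C => decide (cls.get 12 x % 4096 < C.n) && (C.pts.get C.d (cls.get 12 x % 4096) == x)

end Cfsg.Lib.RuModel
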