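import Cfsg.Agent.RuModel.CheckTop
import Cfsg.Agent.RuModel.CheckA
import Cfsg.Agent.RuModel.CheckB
import Cfsg.Agent.RuModel.CheckC

/-!
The two generators on 4060 points and the two chains of subgroups.
-/

set_option autoImplicit false

namespace Cfsg.Lib.RuModel

theorem vv_lt {x y : ℕ} (hy : y < 4060) : x < y → vv x < vv y := by
  intro h
  induction y with
  | zero => omega
  | succ y ih =>
    have hs : vv y < vv (y + 1) := by simpa using chk_apply vv_inc (show y < 4059 by omega)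
    rcases Nat.lt_succ_iff_lt_or_eq.1 h with h' | h'
    · exact lt_trans (ih (by omega) h') hs
    · exact h' ▸ hs

theorem vecs : Vecs 4060 vv where
  inj x y h := by
    rcases lt_trichotomy x.val y.val with h' | h' | h'
    · exact absurd h (ne_of_lt (vv_lt y.isLt h'))
    · exact Fin.ext h'
    · exact absurd h (ne_of_gt (vv_lt x.isLt h'))
  one x := by simpa using chk_apply vv_one x.isLt

theorem perm0_fact (x : Fin 4060) : permT0.get 12 x < 4060 ∧ invT0.get 12 x < 4060 ∧
    invT0.get 12 (permT0.get 12 x) = x ∧ permT0.get 12 (invT0.get 12 x) = x ∧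
    vap (vv x) (ru0.mat 0) = vv (permT0.get 12 x) := by
  simpa [Bool.and_eq_true, and_assoc] using chk_apply perm0_ok x.isLt

theorem perm1_fact (x : Fin 4060) : permT1.get 12 x < 4060 ∧ invT1.get 12 x < 4060 ∧
    invT1.get 12 (permT1.get 12 x) = x ∧ permT1.get 12 (invT1.get 12 x) = x ∧
    vap (vv x) (ru0.mat 1) = vv (permT1.get 12 x) := by
  simpa [Bool.and_eq_true, and_assoc] using chk_apply perm1_ok x.isLt

/-- The first generator. -/
def genA : Equiv.Perm (Fin 4060) where
  toFun x := ⟨permT0.get 12 x, (perm0_fact x).1⟩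
  invFun x := ⟨invT0.get 12 x, (perm0_fact x).2.1⟩
  left_inv x := Fin.ext (perm0_fact x).2.2.1
  right_inv x := Fin.ext (perm0_fact x).2.2.2.1

/-- The second generator. -/
def genB : Equiv.Perm (Fin 4060) where
  toFun x := ⟨permT1.get 12 x, (perm1_fact x).1⟩
  invFun x := ⟨invT1.get 12 x, (perm1_fact x).2.1⟩
  left_inv x := Fin.ext (perm1_fact x).2.2.1
  right_inv x := Fin.ext (perm1_fact x).2.2.2.1

/-- The generators. -/
noncomputable def gs0 : List (Equiv.Perm (Fin 4060)) := [genA, genB]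
/-- Generators of a point stabiliser. -/
noncomputable def gs1 : List (Equiv.Perm (Fin 4060)) := nextGens gs0 ru0Words
/-- Generators of the third level. -/
noncomputable def gs2 : List (Equiv.Perm (Fin 4060)) := nextGens gs1 ru1Words
/-- Generators of the last level. -/
noncomputable def gs3 : List (Equiv.Perm (Fin 4060)) := nextGens gs2 ru2Words
/-- Generators of the Tits group. -/
noncomputable def ts0 : List (Equiv.Perm (Fin 4060)) := nextGens gs1 titsWords
/-- Generators of a point stabiliser in the Tits group. -/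
noncomputable def ts1 : List (Equiv.Perm (Fin 4060)) := nextGens ts0 ti0Words
/-- Generators of the last level of the Tits group. -/
noncomputable def ts2 : List (Equiv.Perm (Fin 4060)) := nextGens ts1 ti1Words

theorem good0 : Good vv ru0 gs0 := by
  refine ⟨by rw [ru0_mats]; rfl, fun i hi => ?_⟩
  have : i = 0 ∨ i = 1 := by simp [gs0] at hi; omega
  rcases this with rfl | rfl
  · exact fun x => (perm0_fact x).2.2.2.2.symm
  · exact fun x => (perm1_fact x).2.2.2.2.symm

theorem base_lt {L : Lv} {m : ℕ} (hn : L.n = m) (h : chk (L.ptOK vv 4060) 0 m = true) (hm : 0 < m) :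
    L.pt 0 < 4060 := by
  have := chk_apply h hm
  simp only [Lv.ptOK, Bool.and_eq_true, decide_eq_true_eq] at this
  exact this.1.1

/-- Base point. -/
def b0 : Fin 4060 := ⟨ru0.pt 0, base_lt (m := 4060) rfl ru0_pt (by norm_num)⟩
/-- Second base point. -/
def b1 : Fin 4060 := ⟨ru1.pt 0, base_lt (m := 1755) rfl ru1_pt (by norm_num)⟩
/-- Third base point. -/
def b2 : Fin 4060 := ⟨ru2.pt 0, base_lt (m := 1280) rfl ru2_pt (by norm_num)⟩
/-- Last base point. -/
def b3 : Fin 4060 := ⟨ru3.pt 0, base_lt (m := 16) rfl ru3_pt (by norm_num)⟩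
/-- Base point of the Tits group. -/
def c0 : Fin 4060 := ⟨ti0.pt 0, base_lt (m := 1755) rfl ti0_pt (by norm_num)⟩
/-- Second base point of the Tits group. -/
def c1 : Fin 4060 := ⟨ti1.pt 0, base_lt (m := 1024) rfl ti1_pt (by norm_num)⟩
/-- Last base point of the Tits group. -/
def c2 : Fin 4060 := ⟨ti2.pt 0, base_lt (m := 10) rfl ti2_pt (by norm_num)⟩

theorem next1 : Good vv ru1 gs1 ∧ gen gs1 ≤ gen gs0 ∧ ∀ u ∈ gen gs1, u b0 = b0 :=
  next_spec vecs good0 ru1_next
theorem next2 : Good vv ru2 gs2 ∧ gen gs2 ≤ gen gs1 ∧ ∀ u ∈ gen gs2, u b1 = b1 :=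
  next_spec vecs next1.1 ru2_next
theorem next3 : Good vv ru3 gs3 ∧ gen gs3 ≤ gen gs2 ∧ ∀ u ∈ gen gs3, u b2 = b2 :=
  next_spec vecs next2.1 ru3_next
theorem nextT0 : Good vv ti0 ts0 ∧ gen ts0 ≤ gen gs1 ∧ ∀ u ∈ gen ts0, u b0 = b0 :=
  next_spec vecs next1.1 ti0_next
theorem nextT1 : Good vv ti1 ts1 ∧ gen ts1 ≤ gen ts0 ∧ ∀ u ∈ gen ts1, u c0 = c0 :=
  next_spec vecs nextT0.1 ti1_next
theorem nextT2 : Good vv ti2 ts2 ∧ gen ts2 ≤ gen ts1 ∧ ∀ u ∈ gen ts2, u c1 = c1 :=
  next_spec vecs nextT1.1 ti2_next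

theorem bot_fix (b : Fin 4060) : ∀ u ∈ (⊥ : Subgroup (Equiv.Perm (Fin 4060))), u b = b := by
  intro u hu
  rw [Subgroup.mem_bot.1 hu, Equiv.Perm.one_apply]

theorem level3 : Level vv ru3 b3 (gen gs3) ⊥ :=
  level_of vecs next3.1 (deepElems_nil vecs) rfl (show 0 < 16 by norm_num) bot_le (bot_fix b3) ru3_pt ru3_tree (by rw [ru3_mats]; exact ru3_edge)

theorem level2 : Level vv ru2 b2 (gen gs2) (gen gs3) :=
  level_of vecs next2.1 (DeepElems.cons level3 (deepElems_nil vecs)) rfl (show 0 < 1280 by norm_num) next3.2.1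
    next3.2.2 ru2_pt ru2_tree (by rw [ru2_mats]; exact ru2_edge)

theorem level1 : Level vv ru1 b1 (gen gs1) (gen gs2) :=
  level_of vecs next1.1 (DeepElems.cons level2 (DeepElems.cons level3 (deepElems_nil vecs))) rfl
    (show 0 < 1755 by norm_num) next2.2.1 next2.2.2 ru1_pt ru1_tree (by rw [ru1_mats]; exact ru1_edge)

theorem level0 : Level vv ru0 b0 (gen gs0) (gen gs1) :=
  level_of vecs good0 (DeepElems.cons level1 (DeepElems.cons level2 (DeepElems.cons level3 (deepElems_nil vecs))))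
    rfl (show 0 < 4060 by norm_num) next1.2.1 next1.2.2 ru0_pt ru0_tree (by rw [ru0_mats]; exact ru0_edge)

theorem tlevel2 : Level vv ti2 c2 (gen ts2) ⊥ :=
  level_of vecs nextT2.1 (deepElems_nil vecs) rfl (show 0 < 10 by norm_num) bot_le (bot_fix c2) ti2_pt ti2_tree
    (by rw [ti2_mats]; exact ti2_edge)

theorem tlevel1 : Level vv ti1 c1 (gen ts1) (gen ts2) :=
  level_of vecs nextT1.1 (DeepElems.cons tlevel2 (deepElems_nil vecs)) rfl (show 0 < 1024 by norm_num) nextT2.2.1
    nextT2.2.2 ti1_pt ti1_tree (by rw [ti1_mats]; exact ti1_edge)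

theorem tlevel0 : Level vv ti0 c0 (gen ts0) (gen ts1) :=
  level_of vecs nextT0.1 (DeepElems.cons tlevel1 (DeepElems.cons tlevel2 (deepElems_nil vecs))) rfl
    (show 0 < 1755 by norm_num) nextT1.2.1 nextT1.2.2 ti0_pt ti0_tree (by rw [ti0_mats]; exact ti0_edge)

theorem card_stab : Nat.card (gen gs1) = 35942400 := by
  rw [level1.card, level2.card, level3.card, Subgroup.card_bot]
  rfl

theorem card_ru : Nat.card (gen gs0) = 145926144000 := by
  rw [level0.card, card_stab]
  rfl

theorem card_tits : Nat.card (gen ts0) = 17971200 := by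
  rw [tlevel0.card, tlevel1.card, tlevel2.card, Subgroup.card_bot]
  rfl

theorem wperm_replicate (gs : List (Equiv.Perm (Fin 4060))) (g : ℕ) :
    ∀ m, wperm gs (List.replicate m g) = gs.getD g 1 ^ m := by
  intro m
  induction m with
  | zero => rfl
  | succ m ih =>
    simp only [wperm] at ih ⊢
    rw [List.replicate_succ', List.foldl_append, ih]
    simp [pow_succ']

theorem pow_eq_one_of {L : Lv} {gs : List (Equiv.Perm (Fin 4060))} (hG : Good vv L gs) (hlen : gs.length = 2)
    {m : ℕ} (h : ((List.range 2).all fun g => wmat L.mats (List.replicate m g) == idMat) = true) :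
    ∀ g ∈ gs, g ^ m = 1 := by
  intro g hg
  obtain ⟨k, hk, rfl⟩ := List.getElem_of_mem hg
  simp only [List.all_eq_true, List.mem_range, beq_iff_eq] at h
  have h2 := (wperm_spec vecs hG (w := List.replicate m k) (fun i hi => by rw [List.eq_of_mem_replicate hi]; exact hk)).2
  rw [h k (hlen ▸ hk), wperm_replicate, List.getD_eq_getElem _ _ hk] at h2
  exact Rep.eq vecs h2 (Rep.one vecs)

theorem gs0_pow : ∀ g ∈ gs0, g ^ 29 = 1 := pow_eq_one_of good0 rfl ru0_order

theorem ts0_pow : ∀ g ∈ ts0, g ^ 13 = 1 :=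
  pow_eq_one_of nextT0.1 (by rw [nextT0.1.len, ti0_mats]) ti0_order

end Cfsg.Lib.RuModel
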