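import Mathlib

/-!
Bit matrices of size twenty-eight packed in natural numbers, and trees of numbers.
-/

set_option autoImplicit false

namespace Cfsg.Lib.RuModel

/-- A binary tree of natural numbers. -/
inductive RT
  | leaf (v : ℕ)
  | node (l r : RT)

/-- The leaf reached by the bits of the index, highest first. -/
def RT.get : RT → ℕ → ℕ → ℕ
  | .leaf v, _, _ => v
  | .node l r, d, i => match d with
    | 0 => 0
    | d + 1 => if (i >>> d) % 2 = 0 then l.get d i else r.get d i

/-- Row of a packed matrix. -/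
def row (X i : ℕ) : ℕ := (X >>> (28 * i)) % 2 ^ 28

/-- A one at the start of each of the first `n` rows. -/
def ones : ℕ → ℕ
  | 0 => 0
  | n + 1 => 1 + 2 ^ 28 * ones n

/-- The ones for twenty-eight rows. -/
def ones28 : ℕ := ones 28

/-- Apply a matrix to a vector, using the first `k` coordinates. -/
def vapR : ℕ → ℕ → ℕ → ℕ
  | 0, _, _ => 0
  | k + 1, v, M => if v.testBit k then row M k ^^^ vapR k v M else vapR k v M

/-- Apply a matrix to a vector. -/
def vap (v M : ℕ) : ℕ := vapR 28 v M

/-- Matrix product, using the first `k` rows of the second factor. -/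
def mmulR : ℕ → ℕ → ℕ → ℕ
  | 0, _, _ => 0
  | k + 1, X, M => ((X >>> k) &&& ones28) * row M k ^^^ mmulR k X M

/-- Matrix product: first `X`, then `M`. -/
def mmul (X M : ℕ) : ℕ := mmulR 28 X M

theorem row_lt (X i : ℕ) : row X i < 2 ^ 28 := Nat.mod_lt _ (by positivity)

theorem row_xor (a b i : ℕ) : row (a ^^^ b) i = row a i ^^^ row b i := by
  apply Nat.eq_of_testBit_eq
  intro j
  simp only [row, Nat.testBit_mod_two_pow, Nat.testBit_shiftRight, Nat.testBit_xor]
  cases decide (j < 28) <;> simp

theorem row_succ (X i : ℕ) : row X (i + 1) = row (X / 2 ^ 28) i := by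
  have e : 28 * (i + 1) = 28 + 28 * i := by ring
  rw [row, row, Nat.shiftRight_eq_div_pow, Nat.shiftRight_eq_div_pow, Nat.div_div_eq_div_mul, e, pow_add]

theorem row_zero (X : ℕ) : row X 0 = X % 2 ^ 28 := by simp [row]

theorem row_zero_left (i : ℕ) : row 0 i = 0 := by simp [row]

theorem and_ones_succ (Y n : ℕ) : Y &&& ones (n + 1) = Y % 2 + 2 ^ 28 * ((Y / 2 ^ 28) &&& ones n) := by
  apply Nat.eq_of_testBit_eq
  intro j
  have h1 : ones (n + 1) = 2 ^ 28 * ones n + 1 := Nat.add_comm _ _
  have h2 : Y % 2 < 2 ^ 28 := lt_of_lt_of_le (Nat.mod_lt _ two_pos) (by norm_num)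
  rw [Nat.testBit_and, h1, Nat.testBit_two_pow_mul_add _ (by norm_num : 1 < 2 ^ 28), Nat.add_comm,
    Nat.testBit_two_pow_mul_add _ h2]
  by_cases hj : j < 28
  · simp only [hj, if_true]
    rcases j with _ | j
    · simp [Nat.testBit_zero]
    · have : Nat.testBit 1 (j + 1) = false := Nat.testBit_eq_false_of_lt (Nat.one_lt_two_pow (by omega))
      rw [this, Bool.and_false, Nat.testBit_eq_false_of_lt]
      calc Y % 2 < 2 := Nat.mod_lt _ two_pos
        _ ≤ 2 ^ (j + 1) := by
          calc 2 = 2 ^ 1 := rfl
            _ ≤ _ := Nat.pow_le_pow_right (by norm_num) (by omega)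
  · simp only [hj, if_false, Nat.testBit_and, Nat.testBit_div_two_pow]
    rw [show j - 28 + 28 = j by omega]

theorem row_outer : ∀ (n Y r i : ℕ), r < 2 ^ 28 → i < n →
    row ((Y &&& ones n) * r) i = if Y.testBit (28 * i) then r else 0 := by
  intro n
  induction n with
  | zero => intro Y r i _ hi; omega
  | succ n ih =>
    intro Y r i hr hi
    have hb : Y % 2 * r < 2 ^ 28 := by
      rcases Nat.mod_two_eq_zero_or_one Y with h | h <;> rw [h] <;> omega
    rw [and_ones_succ, add_mul, mul_assoc]
    rcases i with _ | i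
    · rw [row_zero, Nat.add_mul_mod_self_left, Nat.mod_eq_of_lt hb, Nat.mul_zero, Nat.testBit_zero]
      rcases Nat.mod_two_eq_zero_or_one Y with h | h <;> simp [h]
    · rw [row_succ, Nat.add_mul_div_left _ _ (by positivity), Nat.div_eq_of_lt hb, zero_add,
        ih _ r i hr (by omega), Nat.testBit_div_two_pow]
      rw [show 28 * i + 28 = 28 * (i + 1) by ring]

theorem testBit_row (X i j : ℕ) : (row X i).testBit j = (decide (j < 28) && X.testBit (28 * i + j)) := by
  rw [row, Nat.testBit_mod_two_pow, Nat.testBit_shiftRight]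

theorem row_col (X M k i : ℕ) (hi : i < 28) (hk : k < 28) :
    row (((X >>> k) &&& ones28) * row M k) i = if (row X i).testBit k then row M k else 0 := by
  rw [ones28, row_outer 28 _ _ i (row_lt _ _) hi, Nat.testBit_shiftRight, testBit_row, Nat.add_comm k]
  simp [hk]

theorem row_mmulR (X M i : ℕ) (hi : i < 28) : ∀ k ≤ 28, row (mmulR k X M) i = vapR k (row X i) M := by
  intro k
  induction k with
  | zero => intro _; exact row_zero_left i
  | succ k ih =>
    intro hk
    rw [mmulR, vapR, row_xor, row_col X M k i hi (by omega), ih (by omega)]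
    by_cases h : (row X i).testBit k <;> simp [h]

theorem row_mmul (X M i : ℕ) (hi : i < 28) : row (mmul X M) i = vap (row X i) M :=
  row_mmulR X M i hi 28 le_rfl

theorem vapR_xor (a b M : ℕ) : ∀ k, vapR k (a ^^^ b) M = vapR k a M ^^^ vapR k b M := by
  intro k
  induction k with
  | zero => simp [vapR]
  | succ k ih =>
    simp only [vapR, Nat.testBit_xor, ih]
    cases a.testBit k <;> cases b.testBit k <;>
      simp [Nat.xor_assoc, Nat.xor_left_comm]

theorem vapR_zero (M : ℕ) : ∀ k, vapR k 0 M = 0 := by
  intro k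
  induction k with
  | zero => rfl
  | succ k ih => simp [vapR, ih]

theorem vap_vapR (v M N : ℕ) : ∀ k ≤ 28, vap (vapR k v M) N = vapR k v (mmul M N) := by
  intro k
  induction k with
  | zero => intro _; exact vapR_zero N 28
  | succ k ih =>
    intro hk
    simp only [vapR]
    cases v.testBit k with
    | false => simpa using ih (by omega)
    | true =>
      simp only [if_true]
      rw [row_mmul M N k (by omega), ← ih (by omega)]
      exact vapR_xor _ _ N 28

theorem vap_mmul (v M N : ℕ) : vap v (mmul M N) = vap (vap v M) N := (vap_vapR v M N 28 le_rfl).symm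

end Cfsg.Lib.RuModel
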